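import Cfsg.Agent.CharLib.Induce

/-!
Norms of permutation characters, and decompositions of a character of small norm.
-/

set_option autoImplicit false

namespace Cfsg.Agent.Forms

open Finset Cfsg.Agent.CharLib

variable {G : Type*} [Group G] [Fintype G]

theorem irr_of_norm_le {ι : Type*} [Fintype ι] (χ : ι → G → ℂ) (h : ∀ i, IsCharacter G (χ i))
    (h0 : ∀ i, χ i ≠ 0) {k : ℕ} (hk : classInner (∑ i, χ i) (∑ i, χ i) = k)
    (hle : k ≤ Fintype.card ι) : (∀ i, IsIrrCharacter G (χ i)) ∧ Function.Injective χ := by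
  classical
  choose m hm using fun i j => inner_char_nat (h i) (h j)
  have h1 : ∑ i, ∑ j, m i j = k := by
    simp only [inner_sum_left, inner_sum_right, hm] at hk
    rw [sum_comm]
    exact_mod_cast hk
  have h2 : ∀ i, 1 ≤ m i i := fun i => Nat.one_le_iff_ne_zero.2 fun h3 =>
    h0 i (CharLib.inner_self_eq_zero (by rw [hm, h3, Nat.cast_zero]))
  have h3 : ∀ i, m i i ≤ ∑ j, m i j := fun i => single_le_sum (fun _ _ => Nat.zero_le _) (mem_univ i)
  have h4 : ∀ i ∈ univ, 1 = ∑ j, m i j := (sum_eq_sum_iff_of_le fun i _ => (h2 i).trans (h3 i)).1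
    (le_antisymm (sum_le_sum fun i _ => (h2 i).trans (h3 i)) (by simpa [h1] using hle))
  refine ⟨fun i => (isIrr_iff_norm_one (h i)).2 ?_, fun i j hij => ?_⟩
  · rw [hm, le_antisymm ((h3 i).trans (h4 i (mem_univ i)).ge) (h2 i), Nat.cast_one]
  · by_contra hne
    have h5 : m i j = m i i := Nat.cast_injective (R := ℂ) (by rw [← hm, ← hm, hij])
    have h6 := sum_le_sum_of_subset (f := m i) (subset_univ {i, j})
    rw [sum_pair hne, ← h4 i (mem_univ i), h5] at h6
    have := h2 i
    omega

theorem inner_fixedBy (X Y : Type*) [Finite X] [Finite Y] [MulAction G X] [MulAction G Y] :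
    classInner (fun g : G => (Nat.card (MulAction.fixedBy X g) : ℂ))
      (fun g => (Nat.card (MulAction.fixedBy Y g) : ℂ)) =
      Nat.card (MulAction.orbitRel.Quotient G (X × Y)) := by
  classical
  have : Fintype (MulAction.orbitRel.Quotient G (X × Y)) := Fintype.ofFinite _
  have := fun g : G => Fintype.ofFinite (MulAction.fixedBy (X × Y) g)
  have h := MulAction.sum_card_fixedBy_eq_card_orbits_mul_card_group G (X × Y)
  have h1 : ∀ g : G, (Nat.card (MulAction.fixedBy X g) : ℂ) * Nat.card (MulAction.fixedBy Y g) =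
      (Fintype.card (MulAction.fixedBy (X × Y) g) : ℂ) := by
    intro g
    rw [← Nat.cast_mul, ← Nat.card_prod, ← Nat.card_eq_fintype_card]
    congr 1
    refine Nat.card_congr ((Equiv.Set.prod _ _).symm.trans (Equiv.setCongr ?_))
    ext ⟨x, y⟩
    simp [MulAction.mem_fixedBy, Prod.ext_iff]
  simp only [classInner, Complex.conj_natCast, h1]
  rw [← Nat.cast_sum, h, Nat.card_eq_fintype_card, Nat.card_eq_fintype_card, Nat.cast_mul]
  have : (Fintype.card G : ℂ) ≠ 0 := by exact_mod_cast Fintype.card_ne_zero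
  field_simp

end Cfsg.Agent.Forms
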