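import Cfsg.Agent.Forms.LieA2
import Cfsg.Agent.Tw.TwFix

/-!
Relative root subgroups in the fixed point group of a graph-field automorphism of a simply laced
Chevalley group.
-/

set_option autoImplicit false

namespace Cfsg.Agent.Forms

open Module Finset Cfsg.Lie Cfsg.Agent.Chev Cfsg.Agent.Tw Equiv

variable {D : ChevalleyDatum} {C : Cert D} {F : Type*} [Field F] {G : Type*} [Group G]

/-- The data of a (possibly twisted) group of simply laced type. -/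
structure LR (S : Sys C F G) (k : Type*) [Field k] where
  T : Stb S
  K : Subgroup G
  good : T.Good K
  mem : ∀ g, T.σ g = g → g ∈ K
  inj : Function.Injective S.φ
  len : ∀ r s, C.len r = C.len s
  rc_ρ : ∀ r i, C.rc (T.ρ r) (T.π i) = C.rc r i
  ι : k →+* F
  φ : F ≃+* F
  f_eq : ∀ r, T.f r = φ
  e_eq : ∀ r, T.ρ r = r → T.e r = 1
  range : ∀ t, φ t = t ↔ ∃ s, ι s = t
  d : ℕ
  per : ∀ g, T.σ^[d] g = g
  tr : ∀ s : k, ∃ t, ∑ j ∈ Finset.range d, φ^[j] t = ι s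
  orb : ∀ r j, 0 ≤ C.A r (T.ρ^[j] r)
  free : ∀ r, T.ρ r = r ∨ ∀ j, 0 < j → j < d → T.ρ^[j] r ≠ r
  card : ∀ w ∈ C.W, T.cj w = w → Nat.card ↥(S.Uw w ⊓ K) = Nat.card k ^ C.ln w

namespace LR

variable {S : Sys C F G} {k : Type*} [Field k] (R : LR S k)

include R in
theorem lng (r : Rt D) : Lng C r := fun u => (R.len u r).le

theorem aut : R.T.ρ ∈ C.Aut := by
  refine ⟨fun r => funext fun j => ?_, fun r => R.len _ _⟩
  obtain ⟨i, rfl⟩ := R.T.π.surjective j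
  simp [Cert.lin_apply, R.T.sp, R.rc_ρ, Finset.sum_apply, C.rc_sp_apply]

theorem A_ρ (r s : Rt D) : C.A (R.T.ρ r) (R.T.ρ s) = C.A r s := Cert.Aut.A_map R.aut r s

theorem A_fix {r : Rt D} (h : R.T.ρ r = r) (s : Rt D) : C.A r (R.T.ρ s) = C.A r s := by
  rw [← R.A_ρ r s, h]

theorem ht_ρ (r : Rt D) : C.ht (R.T.ρ r) = C.ht r := by
  rw [Cert.ht, ← Equiv.sum_comp R.T.π]; simp only [R.rc_ρ]; rfl

theorem d_pos : 0 < R.d := Nat.pos_of_ne_zero fun h => by
  obtain ⟨t, ht⟩ := R.tr 1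
  simp [h] at ht

theorem fix_rev {r : Rt D} (h : R.T.ρ r = r) : R.T.ρ r.rev = r.rev := by rw [R.T.rev, h]

theorem fix_sp {i : Nd D} : R.T.ρ (C.sp i) = C.sp i ↔ R.T.π i = i := by
  rw [R.T.sp, C.sp_inj.eq_iff]

theorem fix_add {r s u : Rt D} (h : R.T.ρ r = r) (h' : R.T.ρ s = s) (e : C.rc u = C.rc r + C.rc s) :
    R.T.ρ u = u := C.rc_inj (by rw [Cert.Aut.map_add R.aut e, h, h', e])

theorem σ_fix {r : Rt D} (h : R.T.ρ r = r) (t : F) : R.T.σ (S.x r t) = S.x r (R.φ t) := by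
  rw [R.T.σ_x, h, R.e_eq r h, R.f_eq, Units.val_one, one_mul]

theorem σ_coe (g : R.K) : R.T.σ g = g := R.good.fix g g.2

theorem σ_iter_coe (g : R.K) (j : ℕ) : R.T.σ^[j] g = g := Function.iterate_fixed (R.σ_coe g) j

theorem σ_iter_mul (j : ℕ) (g h : G) : R.T.σ^[j] (g * h) = R.T.σ^[j] g * R.T.σ^[j] h := by
  induction j with
  | zero => rfl
  | succ j ih => simp only [Function.iterate_succ_apply', ih, map_mul]

theorem σ_iter_fix {r : Rt D} (h : R.T.ρ r = r) (j : ℕ) (t : F) :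
    R.T.σ^[j] (S.x r t) = S.x r (R.φ^[j] t) := by
  induction j with
  | zero => rfl
  | succ j ih => simp only [Function.iterate_succ_apply', ih, R.σ_fix h]

theorem σ_iter_x (r : Rt D) (j : ℕ) (t : F) : ∃ c, R.T.σ^[j] (S.x r t) = S.x (R.T.ρ^[j] r) c := by
  induction j with
  | zero => exact ⟨t, rfl⟩
  | succ j ih =>
    obtain ⟨c, hc⟩ := ih
    exact ⟨_, by simp only [Function.iterate_succ_apply', hc, R.T.σ_x]; rfl⟩

/-- Stable sets of roots. -/
def Sb (A : Set (Rt D)) : Prop := ∀ r ∈ A, R.T.ρ r ∈ A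

variable {R} in
theorem Sb.iter {A : Set (Rt D)} (h : R.Sb A) {r : Rt D} (hr : r ∈ A) (j : ℕ) : R.T.ρ^[j] r ∈ A := by
  induction j with
  | zero => exact hr
  | succ j ih => rw [Function.iterate_succ_apply']; exact h _ ih

/-- Orbits of roots. -/
def Ob (r : Rt D) : Set (Rt D) := {s | ∃ j, R.T.ρ^[j] r = s}

theorem mem_Ob (r : Rt D) : r ∈ R.Ob r := ⟨0, rfl⟩

theorem sb_Ob (r : Rt D) : R.Sb (R.Ob r) := by
  rintro _ ⟨j, rfl⟩; exact ⟨j + 1, Function.iterate_succ_apply' _ _ _⟩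

theorem mem_Ob_of {r s : Rt D} (h : R.T.ρ s ∈ R.Ob r) : s ∈ R.Ob r := by
  obtain ⟨j, hj⟩ := h
  refine ⟨(orderOf R.T.ρ - 1) + j, R.T.ρ.injective ?_⟩
  rw [← Function.iterate_succ_apply' R.T.ρ, ← hj, Nat.succ_eq_add_one, add_right_comm,
    Nat.sub_add_cancel (orderOf_pos _), Function.iterate_add_apply, ← Perm.coe_pow, pow_orderOf_eq_one]
  rfl

theorem Ob_fix {r s : Rt D} (h : R.T.ρ r = r) (hs : s ∈ R.Ob r) : s = r := by
  obtain ⟨j, rfl⟩ := hs; exact Function.iterate_fixed h j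

theorem Ob_inv {α : Type*} {f : Rt D → α} (hf : ∀ r, f (R.T.ρ r) = f r) {r s : Rt D} (hs : s ∈ R.Ob r) :
    f s = f r := by
  obtain ⟨j, rfl⟩ := hs
  induction j with
  | zero => rfl
  | succ j ih => rw [Function.iterate_succ_apply', hf, ih]

theorem A_Ob {r a b : Rt D} (ha : a ∈ R.Ob r) (hb : b ∈ R.Ob r) : 0 ≤ C.A a b := by
  obtain ⟨i, rfl⟩ := ha
  obtain ⟨j, rfl⟩ := hb
  wlog h : i ≤ j generalizing i j
  · exact C.A_nonneg_comm.1 (this j i (le_of_not_ge h))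
  obtain ⟨l, rfl⟩ := Nat.exists_eq_add_of_le' h
  rw [Function.iterate_add_apply]; exact R.orb _ _

include R in
theorem commute_x {a b : Rt D} (h : 0 ≤ C.A a b) (s t : F) : S.x a s * S.x b t = S.x b t * S.x a s :=
  S.commute_of_not_add (ne_rev_of_A (C := C) (b := a) (by rw [C.A_self]; omega)) (fun u e => by
    have := C.len_add e
    have := C.len_pos a
    rw [R.len u a, R.len b a] at *; nlinarith) s t

theorem commute_Ob {r : Rt D} {u v : G} (hu : u ∈ S.U (R.Ob r)) (hv : v ∈ S.U (R.Ob r)) :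
    u * v = v * u :=
  commute_U S (fun _ hb _ => (commute_U S (fun _ ha _ => R.commute_x (R.A_Ob hb ha) _ _) hu).symm) hv

/-- Partial norms. -/
def pn (n : ℕ) (g : G) : G := ((List.range n).map fun j => R.T.σ^[j] g).prod

theorem pn_succ (n : ℕ) (g : G) : R.pn (n + 1) g = R.pn n g * R.T.σ^[n] g := List.prod_range_succ _ _

theorem pn_succ' (n : ℕ) (g : G) : R.pn (n + 1) g = g * R.T.σ (R.pn n g) := by
  induction n with
  | zero => simp [pn]
  | succ n ih =>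
    rw [pn_succ]
    conv_lhs => rw [ih]
    rw [pn_succ, map_mul, Function.iterate_succ_apply', mul_assoc]

theorem iter_mem {A : Set (Rt D)} (h : R.Sb A) {g : G} (hg : g ∈ S.U A) (j : ℕ) :
    R.T.σ^[j] g ∈ S.U A := by
  induction j with
  | zero => exact hg
  | succ j ih => rw [Function.iterate_succ_apply']; exact R.T.σ_U h ih

theorem pn_mem {A : Set (Rt D)} (h : R.Sb A) {g : G} (hg : g ∈ S.U A) (n : ℕ) : R.pn n g ∈ S.U A := by
  induction n with
  | zero => exact one_mem _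
  | succ n ih => rw [pn_succ]; exact mul_mem ih (R.iter_mem h hg n)

/-- Elements of the relative root subgroups. -/
def nm (r : Rt D) (t : F) : R.K := ⟨R.pn R.d (S.x r t), R.mem _ (by
  have h := (R.pn_succ R.d (S.x r t)).symm.trans (R.pn_succ' _ _)
  rw [R.per, R.commute_Ob (R.pn_mem (R.sb_Ob r) (S.x_mem_U (R.mem_Ob r) t) _)
    (S.x_mem_U (R.mem_Ob r) t)] at h
  exact (mul_left_cancel h).symm)⟩

theorem nm_coe (r : Rt D) (t : F) : (R.nm r t : G) = R.pn R.d (S.x r t) := rfl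

theorem nm_mem {A : Set (Rt D)} (h : R.Sb A) {r : Rt D} (hr : r ∈ A) (t : F) : (R.nm r t : G) ∈ S.U A :=
  R.pn_mem h (S.x_mem_U hr t) _

theorem nm_add (r : Rt D) (s t : F) : R.nm r (s + t) = R.nm r s * R.nm r t := by
  refine Subtype.ext ?_
  simp only [nm_coe, Subgroup.coe_mul]
  induction R.d with
  | zero => simp [pn]
  | succ n ih =>
    have h := fun t => S.x_mem_U (R.mem_Ob r) t
    rw [pn_succ, pn_succ, pn_succ, ih, S.x_add, σ_iter_mul, mul_assoc, mul_assoc, ← mul_assoc (R.pn n (S.x r t)),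
      R.commute_Ob (R.pn_mem (R.sb_Ob r) (h t) n) (R.iter_mem (R.sb_Ob r) (h s) n), mul_assoc]

theorem nm_conj {a : R.K} (ha : (a : G) ∈ S.H) (r : Rt D) (t : F) :
    a * R.nm r t * a⁻¹ = R.nm r (S.chi a r * t) := by
  refine Subtype.ext ?_
  simp only [nm_coe, Subgroup.coe_mul, Subgroup.coe_inv, ← Sys.H_conj_x ha]
  induction R.d with
  | zero => simp [pn]
  | succ n ih =>
    rw [pn_succ, pn_succ, ← ih, σ_iter_mul, σ_iter_mul, σ_iter_coe, ← Subgroup.coe_inv, σ_iter_coe]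
    simp [mul_assoc]

theorem nm_fix {r : Rt D} (h : R.T.ρ r = r) (t : F) :
    (R.nm r t : G) = S.x r (∑ j ∈ Finset.range R.d, R.φ^[j] t) := by
  rw [nm_coe]
  induction R.d with
  | zero => simp [pn, S.x_zero]
  | succ n ih => rw [pn_succ, ih, R.σ_iter_fix h, sum_range_succ, S.x_add]

open Classical in
/-- Long root elements. -/
noncomputable def X (r : Rt D) (t : k) : R.K :=
  if h : R.T.ρ r = r then ⟨S.x r (R.ι t), R.mem _ (by rw [R.σ_fix h, (R.range _).2 ⟨t, rfl⟩])⟩ else 1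

theorem X_coe {r : Rt D} (h : R.T.ρ r = r) (t : k) : (R.X r t : G) = S.x r (R.ι t) := by
  rw [X, dif_pos h]

theorem X_add (r : Rt D) : Ad1 (R.X r) := fun s t => by
  by_cases h : R.T.ρ r = r
  · exact Subtype.ext (by simp [R.X_coe h, S.x_add])
  · simp [X, h]

theorem X_mem {A : Set (Rt D)} {r : Rt D} (hr : r ∈ A) (t : k) : (R.X r t : G) ∈ S.U A := by
  by_cases h : R.T.ρ r = r
  · rw [R.X_coe h]; exact S.x_mem_U hr _
  · simp [X, h]

theorem exists_X {r : Rt D} (h : R.T.ρ r = r) {g : R.K} {t : F} (e : (g : G) = S.x r t) :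
    ∃ s, R.ι s = t ∧ g = R.X r s := by
  obtain ⟨s, rfl⟩ := (R.range t).1 (S.x_inj r (by rw [← R.σ_fix h, ← e, σ_coe]))
  exact ⟨s, rfl, Subtype.ext (by rw [e, R.X_coe h])⟩

theorem nm_eq_X {r : Rt D} (h : R.T.ρ r = r) (t : F) : ∃ s, R.nm r t = R.X r s :=
  (R.exists_X h (R.nm_fix h t)).imp fun _ h => h.2

theorem X_eq_nm {r : Rt D} (h : R.T.ρ r = r) (s : k) : ∃ t, R.X r s = R.nm r t :=
  (R.tr s).imp fun t ht => Subtype.ext (by rw [R.nm_fix h, ht, R.X_coe h])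

theorem conj_X {g : R.K} {w : Perm (Rt D)} (hg : S.Acts g w) {r : Rt D} (h : R.T.ρ r = r)
    (h' : R.T.ρ (w r) = w r) : ∃ a : kˣ, ∀ t, MulAut.conj g (R.X r t) = R.X (w r) (a * t) := by
  obtain ⟨c, hc⟩ := hg r
  obtain ⟨a, ha, -⟩ := R.exists_X h' (g := g * R.X r 1 * g⁻¹) (t := c) (by
    simpa [R.X_coe h] using hc 1)
  refine ⟨Units.mk0 a fun e => c.ne_zero (by rw [← ha, e, map_zero]), fun t => Subtype.ext ?_⟩
  simp [R.X_coe h, R.X_coe h', hc, ha]

/-- The Heisenberg relation for the relative root groups. -/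
theorem heis {b r s : Rt D} (hb : R.T.ρ b = b) (e : C.rc b = C.rc r + C.rc s) {u : R.K}
    (hu : (u : G) ∈ S.U {a | 1 ≤ C.A b a}) (h0 : S.cd s u ≠ 0) (c : k) :
    ∃ t, R.nm r t * u = u * R.nm r t * R.X b c := by
  obtain ⟨a, ha⟩ := R.tr c
  have n0 : (C.N r s : F) * C.N r s = 1 := by
    exact_mod_cast congrArg (Int.cast : ℤ → F) ((R.lng r).N_sq (R.lng s) e)
  have h1 := (R.lng b).heis S e (C.N r s * a / S.cd s u) hu
  rw [div_mul_cancel₀ _ h0, ← mul_assoc (C.N r s : F), n0, one_mul] at h1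
  refine ⟨C.N r s * a / S.cd s u, Subtype.ext ?_⟩
  simp only [Subgroup.coe_mul, nm_coe, R.X_coe hb, ← ha]
  induction R.d with
  | zero => simp [pn, S.x_zero]
  | succ n ih =>
    have h2 := congrArg R.T.σ^[n] h1
    rw [σ_iter_mul, σ_iter_mul, σ_iter_mul, σ_iter_coe, R.σ_iter_fix hb] at h2
    rw [pn_succ, mul_assoc, h2, ← mul_assoc, ← mul_assoc, ih, sum_range_succ, S.x_add, mul_assoc _ (S.x b _),
      commute_U S (fun r hr => (R.lng b).commute S hr _) (R.iter_mem (A := {a | 1 ≤ C.A b a})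
        (fun r hr => by simpa [R.A_fix hb] using hr) (S.x_mem_U ((R.lng b).A_eq_one e).ge _) n)]
    simp only [mul_assoc]

theorem cd_nm {f : (Nd D → ℤ) →ₗ[ℤ] ℤ} (hf : ∀ r, f (C.rc (R.T.ρ r)) = f (C.rc r)) {r : Rt D}
    (hr : 0 < f (C.rc r)) (h : R.T.ρ r ≠ r) (t : F) : S.cd r (R.nm r t) = t := by
  have h1 := (R.free r).resolve_left h
  have key : ∀ n, n < R.d → S.cd r (R.pn (n + 1) (S.x r t)) = t := fun n hn => by
    induction n with
    | zero => simp [pn, S.cd_x_self]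
    | succ n ih =>
      obtain ⟨c, hc⟩ := R.σ_iter_x r (n + 1) t
      rw [pn_succ, S.cd_mul hr.le (fun a ha => (R.Ob_inv (f := fun r => f (C.rc r)) hf ha).ge) (by omega)
        (R.pn_mem (R.sb_Ob r) (S.x_mem_U (R.mem_Ob r) t) _)
        (R.iter_mem (R.sb_Ob r) (S.x_mem_U (R.mem_Ob r) t) _), ih (by omega), hc,
        S.cd_x_ne (h1 _ (by omega) hn), add_zero]
  have := key (R.d - 1) (by have := R.d_pos; omega)
  rwa [Nat.sub_add_cancel R.d_pos] at this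

theorem exists_cd_nm {f : (Nd D → ℤ) →ₗ[ℤ] ℤ} (hf : ∀ r, f (C.rc (R.T.ρ r)) = f (C.rc r)) {r : Rt D}
    (hr : 0 < f (C.rc r)) {c : F} (h : R.T.ρ r = r → R.φ c = c) : ∃ t, S.cd r (R.nm r t) = c := by
  by_cases h1 : R.T.ρ r = r
  · obtain ⟨s, rfl⟩ := (R.range c).1 (h h1)
    obtain ⟨t, ht⟩ := R.X_eq_nm h1 s
    exact ⟨t, by rw [← ht, R.X_coe h1, S.cd_x_self]⟩
  · exact ⟨c, R.cd_nm hf hr h1 c⟩

/-- Unipotent subgroups of the fixed point group. -/
def UK (A : Set (Rt D)) : Subgroup R.K := (S.U A).subgroupOf R.K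

variable {R} in
theorem mem_UK {A : Set (Rt D)} {g : R.K} : g ∈ R.UK A ↔ (g : G) ∈ S.U A := Iff.rfl

theorem UK_mono {A B : Set (Rt D)} (h : A ⊆ B) : R.UK A ≤ R.UK B := fun _ hg => S.U_mono h hg

theorem card_UK (A : Set (Rt D)) : Nat.card (R.UK A) = Nat.card ↥(S.U A ⊓ R.K) := by
  rw [UK, ← Subgroup.inf_subgroupOf_right]
  exact Nat.card_congr (Subgroup.subgroupOfEquivOfLe inf_le_right).toEquiv

/-- Generation by relative root subgroups. -/
theorem UK_le {A : Set (Rt D)} (h1 : R.Sb A) (h2 : C.Closed A) (h3 : ∀ r ∈ A, C.Pos r)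
    {M : Subgroup R.K} (h : ∀ r ∈ A, ∀ t, R.nm r t ∈ M) : R.UK A ≤ M := by
  induction hn : A.ncard using Nat.strong_induction_on generalizing A with
  | _ n ih =>
  intro u hu
  rcases A.eq_empty_or_nonempty with rfl | hA
  · rw [mem_UK, S.U_empty, Subgroup.mem_bot, OneMemClass.coe_eq_one] at hu
    exact hu ▸ one_mem _
  obtain ⟨r, hr, hm⟩ := Set.exists_min_image A C.ht A.toFinite hA
  have a1 := C.one_le_ht (h3 r hr)
  have a2 : ∀ s ∈ A, C.ht r ≤ Cert.lev ∅ (C.rc s) := fun s hs => (C.lev_empty s).symm ▸ hm s hs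
  have a3 : ∀ s ∈ R.Ob r, Cert.lev ∅ (C.rc s) < 2 * C.ht r := fun s hs => by
    rw [C.lev_empty, R.Ob_inv R.ht_ρ hs]; omega
  have a4 : ∀ s ∈ R.Ob r, ∀ g : R.K, g ∈ R.UK A → S.cd (R.T.ρ s) g = R.T.e s * R.φ (S.cd s g) :=
    fun s hs g hg => by
      rw [← R.f_eq s, ← R.T.cd_σ (by omega) (by omega) a2 (fun s hs => a2 _ (h1 s hs)) (a3 s hs)
        (a3 _ (R.sb_Ob r s hs)) (mem_UK.1 hg), σ_coe]
  obtain ⟨t, ht⟩ := R.exists_cd_nm (f := Cert.lev ∅) (fun r => by simp only [C.lev_empty, ht_ρ])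
    (r := r) (by rw [C.lev_empty]; omega) (c := S.cd r u) fun e => by
      have := a4 r (R.mem_Ob r) u hu
      rw [e, R.e_eq r e, Units.val_one, one_mul] at this; exact this.symm
  have a5 : R.nm r t ∈ R.UK A := R.nm_mem h1 hr t
  have a6 : ∀ j, S.cd (R.T.ρ^[j] r) (R.nm r t) = S.cd (R.T.ρ^[j] r) u := fun j => by
    induction j with
    | zero => exact ht
    | succ j ih => rw [Function.iterate_succ_apply', a4 _ ⟨j, rfl⟩ _ a5, a4 _ ⟨j, rfl⟩ _ hu, ih]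
  have a7 := ih _ (hn ▸ Set.ncard_lt_ncard (s := A \ R.Ob r)
    ⟨Set.diff_subset, fun e => (e hr).2 (R.mem_Ob r)⟩) (A := A \ R.Ob r) (fun s hs => ⟨h1 s hs.1, fun e => hs.2 (R.mem_Ob_of e)⟩)
    (fun a ha b hb s e => ⟨h2 a ha.1 b hb.1 s e, fun e' => by
      have := C.ht_add e; have := R.Ob_inv R.ht_ρ e'; have := hm a ha.1; have := C.one_le_ht (h3 b hb.1)
      omega⟩) (fun s hs => h3 s hs.1) (fun s hs => h s hs.1) rfl
    (show (R.nm r t)⁻¹ * u ∈ _ from peel (u := (R.nm r t : G)⁻¹ * u) (by omega) h2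
      (Cert.nil_of_pos h3) a2 (mul_mem (inv_mem a5) hu) fun s hs => (em (s ∈ R.Ob r)).symm.imp (fun e => ⟨hs, e⟩) fun e =>
        ⟨a3 s e, by
          obtain ⟨j, rfl⟩ := id e
          rw [S.cd_mul (by omega) a2 (a3 _ e) (inv_mem (mem_UK.1 a5)) (mem_UK.1 hu),
            S.cd_inv (by omega) a2 (a3 _ e) (mem_UK.1 a5), a6, neg_add_cancel]⟩)
  simpa using mul_mem (h r hr t) a7

end LR

end Cfsg.Agent.Forms
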