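import Cfsg.Agent.GLn.ClassBound

/-! Dual polynomials; the elementary divisors of an isometry are self-dual. -/

set_option autoImplicit false

namespace Cfsg.Agent.Forms

open Polynomial Matrix Cfsg.Agent.GLn

variable {F : Type*} [Field F] {τ : F →+* F}

/-- The dual of a polynomial. -/
noncomputable def dualP (τ : F →+* F) (P : F[X]) : F[X] :=
  C (τ (P.coeff 0))⁻¹ * (P.map τ).reverse

/-- Self-dual polynomials. -/
def SD (τ : F →+* F) (f : F[X]) : Prop := (f.map τ).reverse = C (τ (f.coeff 0)) * f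

theorem dualP_mul (P Q : F[X]) : dualP τ (P * Q) = dualP τ P * dualP τ Q := by
  simp only [dualP, mul_coeff_zero, map_mul, Polynomial.map_mul, reverse_mul_of_domain, mul_inv]
  ring

theorem dualP_one : dualP τ 1 = 1 := by
  rw [dualP, Polynomial.map_one, ← C_1, reverse_C]; simp

theorem dualP_pow (P : F[X]) (k : ℕ) : dualP τ (P ^ k) = dualP τ P ^ k := by
  induction k with
  | zero => simp [dualP_one]
  | succ k ih => rw [pow_succ, dualP_mul, ih, pow_succ]

theorem dualP_multiset_prod (s : Multiset F[X]) : dualP τ s.prod = (s.map (dualP τ)).prod := by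
  induction s using Multiset.induction_on with
  | empty => simp [dualP_one]
  | cons a s ih => simp [dualP_mul, ih]

theorem coeff_dualP (P : F[X]) (i : ℕ) :
    (dualP τ P).coeff i = (τ (P.coeff 0))⁻¹ * τ (P.coeff (revAt P.natDegree i)) := by
  rw [dualP, coeff_C_mul, coeff_reverse, natDegree_map, coeff_map]

theorem natDegree_dualP {P : F[X]} (h : P.coeff 0 ≠ 0) : (dualP τ P).natDegree = P.natDegree := by
  have h' : τ (P.coeff 0) ≠ 0 := by simpa using h
  rw [dualP, natDegree_C_mul (inv_ne_zero h'), reverse_natDegree,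
    natTrailingDegree_eq_zero.mpr (Or.inr (by simpa using h)), natDegree_map, Nat.sub_zero]

theorem monic_dualP {P : F[X]} (h : P.coeff 0 ≠ 0) : (dualP τ P).Monic := by
  have h' : τ (P.coeff 0) ≠ 0 := by simpa using h
  rw [Monic, leadingCoeff, natDegree_dualP h, coeff_dualP, revAt_le le_rfl, Nat.sub_self,
    inv_mul_cancel₀ h']

theorem coeff_zero_dualP {P : F[X]} (hP : P.Monic) :
    (dualP τ P).coeff 0 = (τ (P.coeff 0))⁻¹ := by
  rw [coeff_dualP, revAt_zero, hP.coeff_natDegree, map_one, mul_one]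

theorem coeff_zero_dualP_ne {P : F[X]} (hP : P.Monic) (h : P.coeff 0 ≠ 0) :
    (dualP τ P).coeff 0 ≠ 0 := by
  rw [coeff_zero_dualP hP]; simpa using h

theorem dualP_dualP (hττ : ∀ a, τ (τ a) = a) {P : F[X]} (hP : P.Monic) (h : P.coeff 0 ≠ 0) :
    dualP τ (dualP τ P) = P := by
  ext i
  rw [coeff_dualP, coeff_zero_dualP hP, coeff_dualP, natDegree_dualP h, revAt_invol]
  simp [hττ, h]

theorem irreducible_dualP (hττ : ∀ a, τ (τ a) = a) {P : F[X]} (hP : P.Monic) (h : P.coeff 0 ≠ 0)
    (hi : Irreducible P) : Irreducible (dualP τ P) := by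
  refine ⟨fun hu => ?_, fun a b hab => ?_⟩
  · have := natDegree_eq_zero_of_isUnit hu
    rw [natDegree_dualP h] at this
    exact hi.natDegree_pos.ne' this
  · have h0 := coeff_zero_dualP_ne (τ := τ) hP h
    rw [hab, mul_coeff_zero] at h0
    have h1 := dualP_dualP hττ hP h
    rw [hab, dualP_mul] at h1
    have key : ∀ c : F[X], c.coeff 0 ≠ 0 → IsUnit (dualP τ c) → IsUnit c := fun c hc hu => by
      have := natDegree_eq_zero_of_isUnit hu
      rw [natDegree_dualP hc] at this
      rw [eq_C_of_natDegree_eq_zero this]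
      exact isUnit_C.2 (IsUnit.mk0 _ hc)
    exact (hi.isUnit_or_isUnit h1.symm).imp (key a (left_ne_zero_of_mul h0))
      (key b (right_ne_zero_of_mul h0))

theorem sd_iff {f : F[X]} (h : f.coeff 0 ≠ 0) : SD τ f ↔ dualP τ f = f := by
  have h' : τ (f.coeff 0) ≠ 0 := by simpa using h
  rw [SD, dualP]
  constructor
  · intro e; rw [e, ← mul_assoc, ← C_mul, inv_mul_cancel₀ h', C_1, one_mul]
  · intro e
    have := congrArg (C (τ (f.coeff 0)) * ·) e
    rwa [← mul_assoc, ← C_mul, mul_inv_cancel₀ h', C_1, one_mul] at this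

theorem SD.norm {f : F[X]} (hf : f.Monic) (h : SD τ f) : f.coeff 0 * τ (f.coeff 0) = 1 := by
  have := congrArg (fun p => coeff p 0) h
  simp only [coeff_zero_reverse, coeff_C_mul] at this
  rw [mul_comm, ← this, (hf.map τ).leadingCoeff]

section Mat

variable {ι : Type*} [Fintype ι] [DecidableEq ι]

theorem rank_map_ringHom (A : Matrix ι ι F) : (A.map τ).rank = A.rank := by
  obtain ⟨V, U, e, hV, hU, h⟩ := Matrix.exists_rank_normal_form A
  have h2 : V.map τ * A.map τ * U.map τ = V * A * U := by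
    rw [← Matrix.map_mul, ← Matrix.map_mul, h]
    ext i j
    simp only [map_apply, submatrix_apply]
    rcases e i with a | a <;> rcases e j with b | b <;> simp [Matrix.one_apply, apply_ite τ]
  have hV' := (isUnit_iff_isUnit_det _).1 hV
  have hU' := (isUnit_iff_isUnit_det _).1 hU
  have h3 := congrArg Matrix.rank h2
  rwa [rank_mul_eq_left_of_isUnit_det _ _ hU', rank_mul_eq_right_of_isUnit_det _ _ hV',
    rank_mul_eq_left_of_isUnit_det, rank_mul_eq_right_of_isUnit_det] at h3
  · rw [← RingHom.mapMatrix_apply, ← RingHom.map_det]; exact hV'.map τ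
  · rw [← RingHom.mapMatrix_apply, ← RingHom.map_det]; exact hU'.map τ

theorem aeval_transpose (A : Matrix ι ι F) (P : F[X]) : aeval Aᵀ P = (aeval A P)ᵀ := by
  induction P using Polynomial.induction_on' with
  | add p q hp hq => simp [hp, hq]
  | monomial n a => simp [aeval_monomial, Algebra.algebraMap_eq_smul_one, transpose_pow]

theorem aeval_map_ringHom (A : Matrix ι ι F) (P : F[X]) :
    aeval (A.map τ) (P.map τ) = (aeval A P).map τ := by
  induction P using Polynomial.induction_on' with
  | add p q hp hq => simp [hp, hq, Matrix.map_add]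
  | monomial n a =>
    simp only [Polynomial.map_monomial, aeval_monomial, Algebra.algebraMap_eq_smul_one,
      smul_mul_assoc, one_mul]
    rw [← Matrix.map_pow]
    ext i j; simp

theorem aeval_reflect {R : Type*} [Ring R] [Algebra F R] {A B : R} (h : B * A = 1) (P : F[X])
    {N : ℕ} (hN : P.natDegree ≤ N) : aeval A (reflect N P) = aeval B P * A ^ N := by
  have key : ∀ s : Finset ℕ, (∀ i ∈ s, i ≤ N) → ∀ c : ℕ → F,
      aeval A (reflect N (∑ i ∈ s, C (c i) * X ^ i)) = aeval B (∑ i ∈ s, C (c i) * X ^ i) * A ^ N := by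
    intro s hs c
    induction s using Finset.induction_on with
    | empty => simp
    | insert i s hi ih =>
      rw [Finset.sum_insert hi, reflect_add, map_add, map_add, add_mul,
        ih fun j hj => hs j (Finset.mem_insert_of_mem hj), reflect_C_mul_X_pow,
        revAt_le (hs i (Finset.mem_insert_self _ _))]
      congr 1
      obtain ⟨k, rfl⟩ := Nat.exists_eq_add_of_le (hs i (Finset.mem_insert_self _ _))
      simp only [map_mul, aeval_C, map_pow, aeval_X, Nat.add_sub_cancel_left, pow_add, mul_assoc]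
      rw [← mul_assoc (B ^ i), pow_mul_pow_eq_one i h, one_mul]
  rw [P.as_sum_range_C_mul_X_pow]
  exact key _ (fun i hi => by have := Finset.mem_range.1 hi; omega) _

theorem aeval_conj {R : Type*} [Ring R] [Algebra F R] {A B G : R} (h : A * G = G * B) (P : F[X]) :
    aeval A P * G = G * aeval B P := by
  induction P using Polynomial.induction_on' with
  | add p q hp hq => simp [hp, hq, add_mul, mul_add]
  | monomial n a =>
    have : A ^ n * G = G * B ^ n := (SemiconjBy.pow_right (a := G) (x := B) (y := A) h.symm n).symm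
    simp [aeval_monomial, Algebra.algebraMap_eq_smul_one, this]

theorem rank_aeval_dualP (hττ : ∀ a, τ (τ a) = a) {A G : Matrix ι ι F} (hG : G.det ≠ 0)
    (hA : Aᵀ * G * A.map τ = G) {P : F[X]} (h : P.coeff 0 ≠ 0) :
    (aeval A (dualP τ P)).rank = (aeval A P).rank := by
  have hdet : A.det ≠ 0 := by
    intro h0
    have := congrArg Matrix.det hA
    rw [det_mul, det_mul, det_transpose, h0] at this
    exact hG (by rw [← this]; simp)
  have hu : IsUnit A.det := IsUnit.mk0 _ hdet
  have h' : τ (P.coeff 0) ≠ 0 := by simpa using h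
  have h1 : Aᵀ * G = G * A⁻¹.map τ := by
    conv_rhs => rw [← hA, mul_assoc, ← Matrix.map_mul, mul_nonsing_inv _ hu]
    simp
  have h2 := congrArg Matrix.rank (aeval_conj h1 P)
  rw [rank_mul_eq_left_of_isUnit_det _ _ (IsUnit.mk0 _ hG),
    rank_mul_eq_right_of_isUnit_det _ _ (IsUnit.mk0 _ hG), aeval_transpose, rank_transpose] at h2
  have h3 : P = (P.map τ).map τ := by ext i; simp [hττ]
  rw [h2]
  conv_rhs => rw [h3, aeval_map_ringHom, rank_map_ringHom]
  rw [dualP, map_mul, reverse, aeval_reflect (nonsing_inv_mul _ hu) _ le_rfl, aeval_C,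
    rank_mul_eq_right_of_isUnit_det, rank_mul_eq_left_of_isUnit_det]
  · rw [det_pow]; exact hu.pow _
  · rw [det_algebraMap_matrix]; exact (IsUnit.mk0 _ (inv_ne_zero h')).pow _

theorem finrank_ker_aeval (A : Matrix ι ι F) (P : F[X]) :
    Module.finrank F (LinearMap.ker (aeval (Matrix.toLin' A) P)) + (aeval A P).rank =
      Fintype.card ι := by
  rw [← toLin'_aeval, add_comm]
  have := LinearMap.finrank_range_add_finrank_ker (Matrix.toLin' (aeval A P))
  rwa [Module.finrank_fintype_fun_eq_card] at this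

theorem map_dual_eq (hττ : ∀ a, τ (τ a) = a) {A G : Matrix ι ι F} (hG : G.det ≠ 0)
    (hA : Aᵀ * G * A.map τ = G) {M : Multiset (F[X] × ℕ)} (h : HasED A M) :
    M.map (fun x => (dualP τ x.1, x.2)) = M := by
  classical
  have hdet : A.det ≠ 0 := by
    intro h0
    have := congrArg Matrix.det hA
    rw [det_mul, det_mul, det_transpose, h0] at this
    exact hG (by rw [← this]; simp)
  have hcount : ∀ P : F[X], Irreducible P → P.Monic → P.coeff 0 ≠ 0 → ∀ k,
      M.count (dualP τ P, k + 1) = M.count (P, k + 1) := by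
    intro P h1 h2 h3 k
    have hk : ∀ j, (M.map fun x => if x.1 = dualP τ P then min x.2 j else 0).sum =
        (M.map fun x => if x.1 = P then min x.2 j else 0).sum := fun j => by
      have e1 := h.finrank_ker_pow (irreducible_dualP hττ h2 h3 h1) (monic_dualP h3) j
      have e2 := h.finrank_ker_pow h1 h2 j
      have e3 := finrank_ker_aeval A (dualP τ P ^ j)
      have e4 := finrank_ker_aeval A (P ^ j)
      rw [← dualP_pow, rank_aeval_dualP hττ hG hA (by simp [coeff_zero_eq_eval_zero] at h3 ⊢; tauto),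
        dualP_pow] at e3
      rw [natDegree_dualP h3] at e1
      exact Nat.eq_of_mul_eq_mul_right h1.natDegree_pos (by omega)
    have e1 := count_second_difference M P k
    have e2 := count_second_difference M (dualP τ P) k
    rw [hk, hk, hk] at e2
    omega
  have hinj : Set.InjOn (fun x : F[X] × ℕ => (dualP τ x.1, x.2)) {x | x ∈ M} := by
    intro x hx y hy e
    simp only [Prod.mk.injEq] at e
    refine Prod.ext ?_ e.2
    rw [← dualP_dualP hττ (h.1 x hx).2.1 (h.ne_X hdet hx), e.1,
      dualP_dualP hττ (h.1 y hy).2.1 (h.ne_X hdet hy)]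
  refine Multiset.eq_of_le_of_card_le (Multiset.le_iff_count.2 fun y => ?_) (by simp)
  by_cases hy : y ∈ M.map (fun x => (dualP τ x.1, x.2))
  · obtain ⟨⟨P, k⟩, hx, rfl⟩ := Multiset.mem_map.1 hy
    rw [Multiset.count_map_eq_count _ _ hinj _ hx]
    obtain ⟨k, rfl⟩ : ∃ j, k = j + 1 := ⟨k - 1, by have := (h.1 _ hx).2.2; simp at this; omega⟩
    exact (hcount P (h.1 _ hx).1 (h.1 _ hx).2.1 (h.ne_X hdet hx) k).ge
  · rw [Multiset.count_eq_zero_of_notMem hy]; exact Nat.zero_le _

theorem dualP_tyOf (hττ : ∀ a, τ (τ a) = a) {A G : Matrix ι ι F} (hG : G.det ≠ 0)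
    (hA : Aᵀ * G * A.map τ = G) {M : Multiset (F[X] × ℕ)} (h : HasED A M) (e : ℕ) :
    dualP τ (tyOf M e) = tyOf M e := by
  conv_rhs => rw [← map_dual_eq hττ hG hA h]
  rw [tyOf, tyOf, dualP_multiset_prod, Multiset.filter_map]
  simp only [Multiset.map_map, Function.comp_def]

theorem dualP_charpoly (hττ : ∀ a, τ (τ a) = a) {A G : Matrix ι ι F} (hG : G.det ≠ 0)
    (hA : Aᵀ * G * A.map τ = G) : dualP τ A.charpoly = A.charpoly := by
  have h := hasED_elemDiv A
  rw [h.charpoly]
  conv_rhs => rw [← map_dual_eq hττ hG hA h]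
  rw [dualP_multiset_prod]
  simp only [Multiset.map_map, Function.comp_def, dualP_pow]

end Mat

section Count

theorem sd_iff_coeff {f : F[X]} {d : ℕ} (hd : f.natDegree = d) :
    SD τ f ↔ ∀ i, τ (f.coeff (revAt d i)) = τ (f.coeff 0) * f.coeff i := by
  rw [SD, Polynomial.ext_iff]
  simp only [coeff_reverse, natDegree_map, coeff_map, coeff_C_mul, hd]

theorem monic_of_coeff {f : F[X]} {d : ℕ} (h1 : f.coeff d = 1) (h2 : ∀ i, d < i → f.coeff i = 0) :
    f.Monic ∧ f.natDegree = d := by
  have := natDegree_eq_of_le_of_coeff_ne_zero (natDegree_le_iff_coeff_eq_zero.2 h2)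
    (by rw [h1]; exact one_ne_zero)
  exact ⟨by rw [Monic, leadingCoeff, this, h1], this⟩

/-- The number of self-dual monic polynomials with given constant term, unitary case. -/
theorem card_sd_sq [Finite F] (hττ : ∀ a, τ (τ a) = a) (hne : ∃ θ, τ θ ≠ θ) (d : ℕ) {c : F}
    (hc : c * τ c = 1) :
    Nat.card {f : F[X] // f.Monic ∧ f.natDegree = d + 1 ∧ f.coeff 0 = c ∧ SD τ f} ^ 2 =
      Nat.card F ^ d := by
  obtain ⟨θ, hθ⟩ := hne
  have h0 := card_monic_coeff_zero (F := F) d (· = c)
  rw [Nat.card_unique (α := {a : F // a = c}), one_mul] at h0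
  rw [← h0, sq, ← Nat.card_prod]
  have hθ' : θ - τ θ ≠ 0 := sub_ne_zero.2 hθ.symm
  refine Nat.card_congr (Equiv.ofBijective (fun x => ⟨C θ * x.1.1 + C (1 - θ) * x.2.1, ?_⟩) ⟨?_, ?_⟩)
  · obtain ⟨⟨x, x1, x2, x3, -⟩, ⟨y, y1, y2, y3, -⟩⟩ := x
    have := monic_of_coeff (f := C θ * x + C (1 - θ) * y) (d := d + 1)
      (by rw [coeff_add, coeff_C_mul, coeff_C_mul, ← x2, x1.coeff_natDegree, x2, ← y2,
        y1.coeff_natDegree]; ring)
      (fun i hi => by
        rw [coeff_add, coeff_C_mul, coeff_C_mul, coeff_eq_zero_of_natDegree_lt (x2 ▸ hi),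
          coeff_eq_zero_of_natDegree_lt (y2 ▸ hi)]; ring)
    exact ⟨this.1, this.2, by simp only [coeff_add, coeff_C_mul, x3, y3]; ring⟩
  · rintro ⟨⟨x, x1, x2, x3, x4⟩, ⟨y, y1, y2, y3, y4⟩⟩ ⟨⟨x', x1', x2', x3', x4'⟩, ⟨y', y1', y2', y3', y4'⟩⟩ h
    have h1 : ∀ i, θ * x.coeff i + (1 - θ) * y.coeff i = θ * x'.coeff i + (1 - θ) * y'.coeff i :=
      fun i => by simpa only [coeff_add, coeff_C_mul] using congrArg (fun f => f.1.coeff i) h
    rw [sd_iff_coeff x2] at x4
    rw [sd_iff_coeff y2] at y4
    rw [sd_iff_coeff x2'] at x4'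
    rw [sd_iff_coeff y2'] at y4'
    have h2 : ∀ i, x.coeff i - y.coeff i = x'.coeff i - y'.coeff i := fun i => by
      have e := congrArg τ (h1 (revAt (d + 1) i))
      simp only [map_add, map_mul, map_sub, map_one, x4, y4, x4', y4', x3, y3, x3', y3'] at e
      apply mul_left_cancel₀ hθ'
      linear_combination h1 i - c * e + (τ θ * x.coeff i + (1 - τ θ) * y.coeff i -
        τ θ * x'.coeff i - (1 - τ θ) * y'.coeff i) * hc
    have h3 : y = y' := by ext i; linear_combination h1 i - θ * h2 i
    have h4 : x = x' := by ext i; linear_combination h2 i + congrArg (fun f => f.coeff i) h3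
    subst h3 h4; rfl
  · rintro ⟨f, f1, f2, f3⟩
    have key : ∀ a : F, τ a = 1 - a → (C a * f + C ((1 - a) * c) * reflect (d + 1) (f.map τ)).Monic ∧
        (C a * f + C ((1 - a) * c) * reflect (d + 1) (f.map τ)).natDegree = d + 1 ∧
        (C a * f + C ((1 - a) * c) * reflect (d + 1) (f.map τ)).coeff 0 = c ∧
        SD τ (C a * f + C ((1 - a) * c) * reflect (d + 1) (f.map τ)) := by
      intro a ha
      have hl : f.coeff (d + 1) = 1 := f2 ▸ f1.coeff_natDegree
      have := monic_of_coeff (f := C a * f + C ((1 - a) * c) * reflect (d + 1) (f.map τ)) (d := d + 1)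
        (by rw [coeff_add, coeff_C_mul, coeff_C_mul, coeff_reflect, revAt_le le_rfl, Nat.sub_self,
          coeff_map, hl, f3]; linear_combination (1 - a) * hc)
        (fun i hi => by
          rw [coeff_add, coeff_C_mul, coeff_C_mul, coeff_reflect, revAt_eq_self_of_lt hi, coeff_map,
            coeff_eq_zero_of_natDegree_lt (f2 ▸ hi)]; simp)
      have h0 : (C a * f + C ((1 - a) * c) * reflect (d + 1) (f.map τ)).coeff 0 = c := by
        rw [coeff_add, coeff_C_mul, coeff_C_mul, coeff_reflect, revAt_zero, coeff_map, hl, f3]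
        simp; ring
      refine ⟨this.1, this.2, h0, (sd_iff_coeff this.2).2 fun i => ?_⟩
      rw [h0]
      simp only [coeff_add, coeff_C_mul, coeff_reflect, revAt_invol, coeff_map]
      simp only [map_add, map_mul, map_sub, map_one, hττ, ha]
      linear_combination (-(1 - a) * τ (f.coeff (revAt (d + 1) i))) * hc
    refine ⟨(⟨_, key ((1 - τ θ) / (θ - τ θ)) ?_⟩, ⟨_, key (-τ θ / (θ - τ θ)) ?_⟩), Subtype.ext ?_⟩
    · have : τ θ - θ ≠ 0 := sub_ne_zero.2 hθ
      simp only [map_div₀, map_sub, map_one, hττ]; field_simp; ring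
    · have : τ θ - θ ≠ 0 := sub_ne_zero.2 hθ
      simp only [map_div₀, map_sub, map_neg, hττ]; field_simp; ring
    · ext i
      simp only [coeff_add, coeff_C_mul]
      field_simp; ring

/-- The number of palindromic monic polynomials of degree `2 n`. -/
theorem card_palin [Finite F] (n : ℕ) :
    Nat.card {f : F[X] // f.Monic ∧ f.natDegree = 2 * n ∧ f.reverse = f} = Nat.card F ^ n := by
  rw [← card_monic n]
  have hco : ∀ (f : F[X]) (i : ℕ), (∑ j ∈ Finset.range (n + 1), monomial j (f.coeff (n + j))).coeff i =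
      if i ≤ n then f.coeff (n + i) else 0 := fun f i => by
    simp only [finset_sum_coeff, coeff_monomial, Finset.sum_ite_eq', Finset.mem_range, Nat.lt_succ_iff]
  refine Nat.card_congr (Equiv.ofBijective (fun f => ⟨∑ j ∈ Finset.range (n + 1),
    monomial j (f.1.coeff (n + j)), monic_of_coeff ?_ fun i hi => ?_⟩) ⟨?_, ?_⟩)
  · have := f.2.1.coeff_natDegree
    rw [f.2.2.1] at this
    rw [hco, if_pos le_rfl, ← two_mul, this]
  · rw [hco, if_neg (by omega)]
  · rintro ⟨f, f1, f2, f3⟩ ⟨g, g1, g2, g3⟩ h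
    have h1 : ∀ i, n ≤ i → f.coeff i = g.coeff i := fun i hi => by
      by_cases h2 : i ≤ 2 * n
      · have := congrArg (fun f => f.1.coeff (i - n)) h
        simp only [hco, if_pos (by omega : i - n ≤ n)] at this
        rwa [Nat.add_sub_cancel' hi] at this
      · rw [coeff_eq_zero_of_natDegree_lt (by omega), coeff_eq_zero_of_natDegree_lt (by omega)]
    apply Subtype.ext
    ext i
    by_cases hi : n ≤ i
    · exact h1 i hi
    · change f.coeff i = g.coeff i
      rw [← f3, ← g3, coeff_reverse, coeff_reverse, f2, g2, revAt_le (by omega)]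
      exact h1 _ (by omega)
  · rintro ⟨P, P1, P2⟩
    have hf : ∀ i, (X ^ n * P + reflect n P - C (P.coeff 0) * X ^ n).coeff i =
        if n ≤ i then P.coeff (i - n) else P.coeff (n - i) := fun i => by
      rw [coeff_sub, coeff_add, coeff_X_pow_mul', coeff_reflect, coeff_C_mul, coeff_X_pow]
      rcases lt_trichotomy i n with h | rfl | h
      · rw [if_neg h.not_ge, if_neg h.ne, if_neg h.not_ge, revAt_le h.le]; ring
      · simp
      · rw [if_pos h.le, if_neg h.ne', if_pos h.le, revAt_eq_self_of_lt h,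
          coeff_eq_zero_of_natDegree_lt (p := P) (n := i) (by omega)]; ring
    have hm := monic_of_coeff (f := X ^ n * P + reflect n P - C (P.coeff 0) * X ^ n) (d := 2 * n)
      (by rw [hf, if_pos (by omega), show 2 * n - n = P.natDegree by omega, P1.coeff_natDegree])
      (fun i hi => by rw [hf, if_pos (by omega), coeff_eq_zero_of_natDegree_lt (by omega)])
    refine ⟨⟨_, hm.1, hm.2, ?_⟩, Subtype.ext ?_⟩
    · ext i
      rw [coeff_reverse, hm.2, hf, hf]
      by_cases h : i ≤ 2 * n
      · rw [revAt_le h]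
        split_ifs <;> congr 1 <;> omega
      · rw [revAt_eq_self_of_lt (by omega)]
    · ext i
      change (∑ j ∈ Finset.range (n + 1), monomial j
        ((X ^ n * P + reflect n P - C (P.coeff 0) * X ^ n).coeff (n + j))).coeff i = P.coeff i
      rw [hco, hf]
      split_ifs with h1 h2
      · congr 1; omega
      · omega
      · rw [coeff_eq_zero_of_natDegree_lt (by omega)]

end Count

end Cfsg.Agent.Forms
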