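import Cfsg.Agent.Forms.Witt

/-!
Eichler transformations for alternating and Hermitian forms, and generation of the symplectic and
special unitary groups by them and by transvections.
-/

set_option autoImplicit false

namespace Cfsg.Agent.Forms

open Module

variable {F : Type*} [Field F] {V : Type*} [AddCommGroup V] [Module F V] {σ : F →+* F}

/-- The Eichler transformation. -/
def eich (B : V →ₗ[F] V →ₛₗ[σ] F) (ε : F) (a y : V) (c : F) : End F V :=
  LinearMap.id + (B.flip a).smulRight y - (ε • B.flip y + c • B.flip a).smulRight a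

theorem eich_apply (B : V →ₗ[F] V →ₛₗ[σ] F) (ε : F) (a y : V) (c : F) (z : V) :
    eich B ε a y c z = z + B z a • y - (ε * B z y + c * B z a) • a := by
  simp [eich]

/-- An `ε`-Hermitian form. -/
structure IsEHerm (B : V →ₗ[F] V →ₛₗ[σ] F) (ε : F) : Prop where
  invol : ∀ a, σ (σ a) = a
  sq : ε * ε = 1
  fix : σ ε = ε
  symm : ∀ x y, B y x = ε * σ (B x y)

/-- The parameters for which `eich` is an isometry. -/
structure EValid (B : V →ₗ[F] V →ₛₗ[σ] F) (ε : F) (a y : V) (c : F) : Prop where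
  iso : B a a = 0
  perp : B y a = 0
  tr : c * ε + σ c = B y y

variable {B : V →ₗ[F] V →ₛₗ[σ] F} {ε : F}

theorem IsEHerm.ne_zero (hB : IsEHerm B ε) : ε ≠ 0 := left_ne_zero_of_mul_eq_one hB.sq

theorem IsEHerm.eq_zero_comm (hB : IsEHerm B ε) {x y : V} : B x y = 0 ↔ B y x = 0 := by
  rw [hB.symm x y, mul_eq_zero, map_eq_zero σ, or_iff_right hB.ne_zero]

theorem iso_smul {v : V} (h : B v v = 0) (c : F) : B (c • v) (c • v) = 0 := by
  simp [map_smulₛₗ, h]

theorem eich_iso (hB : IsEHerm B ε) {a y : V} {c : F} (h : EValid B ε a y c) (z w : V) :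
    B (eich B ε a y c z) (eich B ε a y c w) = B z w := by
  simp only [eich_apply, map_add, map_sub, LinearMap.add_apply, LinearMap.sub_apply, map_smul,
    LinearMap.smul_apply, map_smulₛₗ, smul_eq_mul, map_mul, h.iso, h.perp,
    hB.eq_zero_comm.1 h.perp, hB.fix, RingHom.id_apply]
  rw [hB.symm w y, hB.symm w a, ← h.tr]
  linear_combination (-(σ (B w a) * B z y)) * hB.sq

theorem eich_det [FiniteDimensional F V] (hB : IsEHerm B ε) {a y : V} {c : F}
    (h : EValid B ε a y c) : LinearMap.det (eich B ε a y c) = 1 := by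
  have : eich B ε a y c = LinearMap.transvection ((-ε) • B.flip y + (ε * B y y - c) • B.flip a) a ∘ₗ
      LinearMap.transvection (B.flip a) y := by
    ext z
    simp only [eich_apply, LinearMap.comp_apply, LinearMap.transvection.apply, LinearMap.add_apply,
      LinearMap.smul_apply, LinearMap.flip_apply, map_add, map_smul, smul_eq_mul, h.perp]
    module
  rw [this, LinearMap.det_comp, LinearMap.transvection.det, LinearMap.transvection.det]
  simp [h.iso, h.perp, hB.eq_zero_comm.1 h.perp]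

theorem eich_mul (hB : IsEHerm B ε) {a y y' : V} (c c' : F) (ha : B a a = 0) (hy : B y a = 0)
    (hy' : B y' a = 0) :
    eich B ε a y c * eich B ε a y' c' = eich B ε a (y + y') (c + c' + ε * B y' y) := by
  ext z
  simp only [End.mul_apply, eich_apply, map_add, map_sub, LinearMap.add_apply, LinearMap.sub_apply,
    map_smul, LinearMap.smul_apply, smul_eq_mul, ha, hy', hB.eq_zero_comm.1 hy]
  module

theorem EValid.add (hB : IsEHerm B ε) {a y y' : V} {c c' : F} (h : EValid B ε a y c)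
    (h' : EValid B ε a y' c') : EValid B ε a (y + y') (c + c' + ε * B y' y) where
  iso := h.iso
  perp := by rw [map_add, LinearMap.add_apply, h.perp, h'.perp, add_zero]
  tr := by
    simp only [map_add, LinearMap.add_apply, map_mul, hB.fix]
    rw [← h.tr, ← h'.tr, hB.symm y' y]
    linear_combination (B y' y) * hB.sq

theorem EValid.neg (hB : IsEHerm B ε) {a y : V} {c : F} (h : EValid B ε a y c) :
    EValid B ε a (-y) (ε * B y y - c) where
  iso := h.iso
  perp := by rw [map_neg, LinearMap.neg_apply, h.perp, neg_zero]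
  tr := by
    simp only [map_neg, LinearMap.neg_apply, neg_neg, map_sub, map_mul, hB.fix]
    rw [← hB.symm]
    linear_combination (B y y) * hB.sq - h.tr

theorem eich_zero (a : V) : eich B ε a 0 0 = 1 := by
  ext z; simp [eich_apply]

theorem eich_mul_neg (hB : IsEHerm B ε) {a y : V} {c : F} (h : EValid B ε a y c) :
    eich B ε a y c * eich B ε a (-y) (ε * B y y - c) = 1 := by
  rw [eich_mul hB _ _ h.iso h.perp (h.neg hB).perp, add_neg_cancel, ← eich_zero (B := B) (ε := ε) a]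
  congr 1
  rw [map_neg, LinearMap.neg_apply]
  ring

theorem map_eich {g : V →ₗ[F] V} (hg : ∀ x y, B (g x) (g y) = B x y) (a y : V) (c : F) (z : V) :
    g (eich B ε a y c z) = eich B ε (g a) (g y) c (g z) := by
  simp only [eich_apply, map_add, map_sub, map_smul, hg]

theorem eich_smul (hB : IsEHerm B ε) (t : F) (a y : V) (c : F) :
    eich B ε (t • a) y c = eich B ε a (σ t • y) (t * σ t * c) := by
  ext z
  simp only [eich_apply, map_smulₛₗ, smul_eq_mul, hB.invol]
  module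

theorem eich_smul_self (s : F) (a : V) (c : F) :
    eich B ε a (s • a) c = qrefl B a (s - ε * σ s - c) := by
  ext z
  simp only [eich_apply, qrefl_apply, map_smulₛₗ, smul_eq_mul]
  module

theorem qrefl_eq_eich (a : V) (c : F) : qrefl B a c = eich B ε a 0 (-c) := by
  ext z
  simp only [eich_apply, qrefl_apply, map_zero, smul_zero]
  module

theorem eValid_zero {a : V} {c : F} (ha : B a a = 0) (hc : σ c + ε * c = 0) :
    EValid B ε a 0 (-c) where
  iso := ha
  perp := by simp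
  tr := by
    rw [map_neg, map_zero]
    linear_combination -hc

theorem eich_of_perp {a y z : V} (c : F) (h1 : B z a = 0) (h2 : B z y = 0) :
    eich B ε a y c z = z := by
  simp [eich_apply, h1, h2]

theorem exists_eich_move (hB : IsEHerm B ε) {a u u' : V} (ha : B a a = 0) (hu : B u u = 0)
    (hu' : B u' u' = 0) (h : B u a = B u' a) (h0 : B u a ≠ 0) :
    ∃ c, EValid B ε a ((B u a)⁻¹ • (u' - u)) c ∧ eich B ε a ((B u a)⁻¹ • (u' - u)) c u = u' := by
  obtain ⟨y, hy⟩ : ∃ y, y = (B u a)⁻¹ • (u' - u) := ⟨_, rfl⟩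
  have h1 : u' = u + B u a • y := by rw [hy, smul_inv_smul₀ h0, add_sub_cancel]
  rw [← hy]
  refine ⟨-ε * B u y / B u a, ⟨ha, ?_, ?_⟩, ?_⟩
  · rw [hy, map_smul, map_sub, LinearMap.smul_apply, LinearMap.sub_apply, h, sub_self, smul_zero]
  · rw [h1] at hu'
    simp only [map_add, LinearMap.add_apply, map_smul, map_smulₛₗ, LinearMap.smul_apply,
      smul_eq_mul, hu, RingHom.id_apply] at hu'
    rw [hB.symm u y] at hu'
    have : σ (B u a) ≠ 0 := (map_ne_zero σ).2 h0
    rw [map_div₀, map_mul, map_neg, hB.fix]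
    field_simp
    linear_combination -hu' - σ (B u a) * B u y * hB.sq
  · rw [eich_apply, div_mul_cancel₀ _ h0, neg_mul, add_neg_cancel, zero_smul, sub_zero, ← h1]

/-- A group acting faithfully by isometries and containing the Eichler transformations. -/
structure IsoGrp (B : V →ₗ[F] V →ₛₗ[σ] F) (ε : F) (G : Type*) [Group G] where
  /-- the action -/
  act : G →* End F V
  inj : Function.Injective act
  iso : ∀ g x y, B (act g x) (act g y) = B x y
  lift : ∀ a y c, EValid B ε a y c → ∃ g, act g = eich B ε a y c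

/-- Non-degeneracy of a subspace. -/
def Nd (B : V →ₗ[F] V →ₛₗ[σ] F) (W : Submodule F V) : Prop :=
  ∀ x ∈ W, (∀ y ∈ W, B x y = 0) → x = 0

theorem Nd.exists_ne {W : Submodule F V} (hW : Nd B W) {x : V} (hx : x ∈ W) (h0 : x ≠ 0) :
    ∃ y ∈ W, B x y ≠ 0 := by
  by_contra h
  push Not at h
  exact h0 (hW x hx h)

theorem Nd.exists_ne₂ {W : Submodule F V} (hW : Nd B W) {x x' : V} (hx : x ∈ W) (h0 : x ≠ 0)
    (hx' : x' ∈ W) (h0' : x' ≠ 0) : ∃ y ∈ W, B x y ≠ 0 ∧ B x' y ≠ 0 := by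
  obtain ⟨y, hy, h1⟩ := hW.exists_ne hx h0
  obtain ⟨y', hy', h1'⟩ := hW.exists_ne hx' h0'
  by_cases h2 : B x' y = 0
  · by_cases h3 : B x y' = 0
    · exact ⟨y + y', W.add_mem hy hy', by rwa [map_add, h3, add_zero], by rwa [map_add, h2, zero_add]⟩
    · exact ⟨y', hy', h3, h1'⟩
  · exact ⟨y, hy, h1, h2⟩

theorem Nd.exists_partner (hB : IsEHerm B ε) {W : Submodule F V} (hW : Nd B W)
    (htr : ∀ u y, B u u = 0 → B u y ≠ 0 → ∃ c : F, B (y + c • u) (y + c • u) = 0) {u : V}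
    (hu : u ∈ W) (h0 : u ≠ 0) (huu : B u u = 0) : ∃ v ∈ W, B v v = 0 ∧ B u v = 1 := by
  obtain ⟨y, hy, h1⟩ := hW.exists_ne hu h0
  obtain ⟨c, hc⟩ := htr u y huu h1
  refine ⟨σ (B u y)⁻¹ • (y + c • u), W.smul_mem _ (W.add_mem hy (W.smul_mem _ hu)), ?_, ?_⟩
  · exact iso_smul hc _
  · rw [map_smulₛₗ, hB.invol, map_add, map_smulₛₗ, huu, smul_zero, add_zero, smul_eq_mul,
      inv_mul_cancel₀ h1]

/-- The orthogonal complement in `W` of a hyperbolic pair. -/
def perpIn (B : V →ₗ[F] V →ₛₗ[σ] F) (W : Submodule F V) (u v : V) : Submodule F V :=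
  W ⊓ LinearMap.ker (B.flip u) ⊓ LinearMap.ker (B.flip v)

theorem mem_perpIn {W : Submodule F V} {u v x : V} :
    x ∈ perpIn B W u v ↔ x ∈ W ∧ B x u = 0 ∧ B x v = 0 := by
  simp [perpIn, and_assoc]

theorem sub_mem_perpIn (hB : IsEHerm B ε) {W : Submodule F V} {u v : V} (hu : u ∈ W) (hv : v ∈ W)
    (huu : B u u = 0) (hvv : B v v = 0) (huv : B u v = 1) {x : V} (hx : x ∈ W) :
    x - B x v • u - (ε * B x u) • v ∈ perpIn B W u v := by
  refine mem_perpIn.2 ⟨W.sub_mem (W.sub_mem hx (W.smul_mem _ hu)) (W.smul_mem _ hv), ?_, ?_⟩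
  · simp only [map_sub, map_smul, LinearMap.sub_apply, LinearMap.smul_apply, huu, hB.symm u v, huv,
      map_one, smul_eq_mul]
    linear_combination (-B x u) * hB.sq
  · simp [hvv, huv]

theorem Nd.perpIn (hB : IsEHerm B ε) {W : Submodule F V} (hW : Nd B W) {u v : V} (hu : u ∈ W)
    (hv : v ∈ W) (huu : B u u = 0) (hvv : B v v = 0) (huv : B u v = 1) : Nd B (perpIn B W u v) := by
  intro x hx h
  obtain ⟨h1, h2, h3⟩ := mem_perpIn.1 hx
  refine hW x h1 fun y hy => ?_
  have := h _ (sub_mem_perpIn hB hu hv huu hvv huv hy)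
  simpa [map_smulₛₗ, h2, h3] using this

namespace IsoGrp

variable {G : Type*} [Group G] (Γ : IsoGrp B ε G)

theorem act_mul (g h : G) (x : V) : Γ.act (g * h) x = Γ.act g (Γ.act h x) := by
  rw [map_mul, End.mul_apply]

theorem act_one (x : V) : Γ.act 1 x = x := by rw [map_one, End.one_apply]

theorem act_inv_act (g : G) (x : V) : Γ.act g⁻¹ (Γ.act g x) = x := by
  rw [← act_mul, inv_mul_cancel, act_one]

theorem act_act_inv (g : G) (x : V) : Γ.act g (Γ.act g⁻¹ x) = x := by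
  rw [← act_mul, mul_inv_cancel, act_one]

theorem act_inj (g : G) : Function.Injective (Γ.act g) :=
  Function.LeftInverse.injective (Γ.act_inv_act g)

theorem act_ne_zero (g : G) {x : V} (hx : x ≠ 0) : Γ.act g x ≠ 0 := fun h =>
  hx (Γ.act_inj g (h.trans (map_zero _).symm))

theorem ext' {g h : G} (e : ∀ x, Γ.act g x = Γ.act h x) : g = h := Γ.inj (LinearMap.ext e)

/-- The elements whose commutator space lies in `W`. -/
def supp (W : Submodule F V) : Subgroup G where
  carrier := {g | ∀ z, Γ.act g z - z ∈ W}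
  one_mem' := fun z => by rw [act_one, sub_self]; exact W.zero_mem
  mul_mem' := fun {g h} hg hh z => by
    rw [act_mul, ← sub_add_sub_cancel _ (Γ.act h z)]
    exact W.add_mem (hg _) (hh _)
  inv_mem' := fun {g} hg z => by
    have := W.neg_mem (hg (Γ.act g⁻¹ z))
    rwa [act_act_inv, neg_sub] at this

variable {Γ}

theorem act_mem {W : Submodule F V} {g : G} (hg : g ∈ Γ.supp W) {x : V} (hx : x ∈ W) :
    Γ.act g x ∈ W := by
  simpa using W.add_mem (hg x) hx

theorem mem_supp_of_eich {W : Submodule F V} {g : G} {a y : V} {c : F} (ha : a ∈ W) (hy : y ∈ W)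
    (hg : Γ.act g = eich B ε a y c) : g ∈ Γ.supp W := by
  intro z
  rw [hg, eich_apply, add_sub_assoc, add_sub_cancel_left]
  exact W.sub_mem (W.smul_mem _ hy) (W.smul_mem _ ha)

theorem act_eq_of_perp (hnd : Nd B ⊤) {W : Submodule F V} {g : G}
    (hg : g ∈ Γ.supp W) {z : V} (hz : ∀ w ∈ W, B z w = 0) : Γ.act g z = z := by
  rw [← sub_eq_zero]
  refine hnd _ trivial fun x _ => ?_
  have := hz _ (hg (Γ.act g⁻¹ x))
  rw [act_act_inv, map_sub] at this
  rw [map_sub, LinearMap.sub_apply, ← Γ.iso g⁻¹, act_inv_act]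
  linear_combination -this

section Gen

variable (hB : IsEHerm B ε) {N : Subgroup G}
  (hN : ∀ g a y c, EValid B ε a y c → Γ.act g = eich B ε a y c → g ∈ N)
include hB hN

theorem exists_move {W : Submodule F V} {a u u' : V} (haW : a ∈ W) (huW : u ∈ W) (huW' : u' ∈ W)
    (ha : B a a = 0) (hu : B u u = 0) (hu' : B u' u' = 0) (h : B u a = B u' a) (h0 : B u a ≠ 0) :
    ∃ k ∈ N ⊓ Γ.supp W, Γ.act k u = u' ∧ Γ.act k a = a := by
  obtain ⟨c, hc, hc'⟩ := exists_eich_move hB ha hu hu' h h0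
  obtain ⟨k, hk⟩ := Γ.lift _ _ _ hc
  exact ⟨k, ⟨hN k _ _ _ hc hk, mem_supp_of_eich haW (W.smul_mem _ (W.sub_mem huW' huW)) hk⟩,
    by rw [hk, hc'], by rw [hk, eich_of_perp _ ha (hB.eq_zero_comm.1 hc.perp)]⟩

theorem exists_move_point {W : Submodule F V} (hW : Nd B W)
    (htr : ∀ u y, B u u = 0 → B u y ≠ 0 → ∃ c : F, B (y + c • u) (y + c • u) = 0)
    (hs0 : ∃ s ≠ 0, σ s + ε * s = 0) {u u' : V} (huW : u ∈ W) (huW' : u' ∈ W) (h0 : u ≠ 0)
    (h0' : u' ≠ 0) (hu : B u u = 0) (hu' : B u' u' = 0) :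
    ∃ k ∈ N ⊓ Γ.supp W, ∃ l : F, Γ.act k u = l • u' := by
  have key : ∃ a ∈ W, B a a = 0 ∧ B u a ≠ 0 ∧ B u' a ≠ 0 := by
    by_cases h : B u' u = 0
    · obtain ⟨y, hy, h1, h2⟩ := hW.exists_ne₂ huW h0 huW' h0'
      obtain ⟨c, hc⟩ := htr u y hu h1
      exact ⟨y + c • u, W.add_mem hy (W.smul_mem _ huW), hc,
        by rwa [map_add, map_smulₛₗ, hu, smul_zero, add_zero],
        by rwa [map_add, map_smulₛₗ, h, smul_zero, add_zero]⟩
    · obtain ⟨s, hs, hs'⟩ := hs0
      have h1 : σ (B u' u) ≠ 0 := (map_ne_zero σ).2 h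
      refine ⟨u + (s / B u' u) • u', W.add_mem huW (W.smul_mem _ huW'), ?_, ?_, ?_⟩
      · simp only [map_add, LinearMap.add_apply, map_smul, map_smulₛₗ, LinearMap.smul_apply,
          smul_eq_mul, hu, hu', RingHom.id_apply, map_div₀]
        rw [hB.symm u' u, div_mul_cancel₀ _ h, mul_zero, add_zero, ← mul_assoc, mul_right_comm,
          div_mul_cancel₀ _ h1]
        linear_combination ε * hs' - s * hB.sq
      · rw [map_add, map_smulₛₗ, hu, zero_add, smul_eq_mul]
        exact mul_ne_zero ((map_ne_zero σ).2 (div_ne_zero hs h)) (hB.eq_zero_comm.not.1 h)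
      · rwa [map_add, map_smulₛₗ, hu', smul_zero, add_zero]
  obtain ⟨a, haW, ha, h1, h2⟩ := key
  obtain ⟨k, hk, hk', -⟩ := exists_move hB hN (u' := (B u a / B u' a) • u') haW huW
    (W.smul_mem _ huW') ha hu (iso_smul hu' _)
    (by rw [map_smul, LinearMap.smul_apply, smul_eq_mul, div_mul_cancel₀ _ h2]) h1
  exact ⟨k, hk, _, hk'⟩

theorem exists_move_partner {W : Submodule F V} {u v y : V} (huW : u ∈ W) (hvW : v ∈ W)
    (hu : B u u = 0) (hv : B v v = 0) (huv : B u v = 1) (hy : y ∈ perpIn B W u v) {s : F}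
    (hs : s ≠ 0) (hs' : σ s + ε * s + B y y = 0) : ∃ k ∈ N ⊓ Γ.supp W, Γ.act k u = s • v := by
  obtain ⟨hyW, hyu, hyv⟩ := mem_perpIn.1 hy
  have hvu : B v u = ε := by rw [hB.symm, huv, map_one, mul_one]
  have h1 : B (u + s • v + y) (u + s • v + y) = 0 := by
    simp only [map_add, LinearMap.add_apply, map_smul, map_smulₛₗ, LinearMap.smul_apply,
      smul_eq_mul, hu, hv, huv, hvu, hyu, hyv, hB.eq_zero_comm.1 hyu, hB.eq_zero_comm.1 hyv,
      RingHom.id_apply]
    linear_combination hs'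
  have hW1 : u + s • v + y ∈ W := W.add_mem (W.add_mem huW (W.smul_mem _ hvW)) hyW
  obtain ⟨k, hk, hk', -⟩ := exists_move hB hN hvW huW hW1 hv hu h1 (by simp [hv, hyv])
    (by rw [huv]; exact one_ne_zero)
  obtain ⟨k', hk1, hk1', -⟩ := exists_move hB hN (u' := s • v) huW hW1 (W.smul_mem _ hvW) hu h1
    (iso_smul hv _) (by simp [hu, hyu])
    (by simp [hu, hyu, hvu, hs, hB.ne_zero])
  exact ⟨k' * k, Subgroup.mul_mem _ hk1 hk, by rw [act_mul, hk', hk1']⟩

theorem mem_of_eich [FiniteDimensional F V] (hnd : Nd B ⊤)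
    (htr : ∀ u y, B u u = 0 → B u y ≠ 0 → ∃ c : F, B (y + c • u) (y + c • u) = 0)
    (hs0 : ∃ s ≠ 0, σ s + ε * s = 0)
    (HS : ∀ W, Nd B W → ∀ u ∈ W, ∀ v ∈ W, B u u = 0 → B v v = 0 → B u v = 1 → ∀ g ∈ Γ.supp W,
      ∀ l m : F, Γ.act g u = l • u → Γ.act g v = m • v → ∃ s ≠ 0, ∃ y ∈ perpIn B W u v,
        ∃ y' ∈ perpIn B W u v, σ s + ε * s + B y y = 0 ∧ σ (m * s) + ε * (m * s) + B y' y' = 0)
    (HB : ∀ W, Nd B W → (∀ x ∈ W, B x x = 0 → x = 0) → ∀ g ∈ Γ.supp W, g = 1) (g : G) :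
    g ∈ N := by
  suffices h : ∀ W, Nd B W → ∀ g ∈ Γ.supp W, g ∈ N from h ⊤ hnd g fun _ => trivial
  intro W
  induction hn : finrank F W using Nat.strong_induction_on generalizing W with
  | _ n ih =>
  intro hW g hg
  by_cases h : ∀ x ∈ W, B x x = 0 → x = 0
  · rw [HB W hW h g hg]; exact N.one_mem
  push Not at h
  obtain ⟨u, huW, hu, hu0⟩ := h
  obtain ⟨v, hvW, hv, huv⟩ := hW.exists_partner hB htr huW hu0 hu
  have hvu : B v u = ε := by rw [hB.symm, huv, map_one, mul_one]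
  obtain ⟨k1, hk1, l, e1⟩ := exists_move_point hB hN hW htr hs0 (act_mem hg huW) huW
    (Γ.act_ne_zero g hu0) hu0 (by rw [Γ.iso, hu]) hu
  rw [← act_mul] at e1
  have hg1 := Subgroup.mul_mem _ hk1.2 hg
  have h1 : B (Γ.act (k1 * g) v) u ≠ 0 := by
    intro h
    have := Γ.iso (k1 * g) v u
    rw [e1, map_smulₛₗ, h, smul_zero, hvu] at this
    exact hB.ne_zero this.symm
  obtain ⟨k2, hk2, e2, e3⟩ := exists_move hB hN (u' := (ε * B (Γ.act (k1 * g) v) u) • v) huW
    (act_mem hg1 hvW) (W.smul_mem _ hvW) hu (by rw [Γ.iso, hv])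
    (iso_smul hv _)
    (by rw [map_smul, LinearMap.smul_apply, hvu, smul_eq_mul]
        linear_combination (-B (Γ.act (k1 * g) v) u) * hB.sq) h1
  rw [← act_mul] at e2
  have hg2 := Subgroup.mul_mem _ hk2.2 hg1
  obtain ⟨s, hs, y, hy, y', hy', hs1, hs2⟩ := HS W hW u huW v hvW hu hv huv _ hg2 l _
    (by rw [act_mul, e1, map_smul, e3]) e2
  obtain ⟨k3, hk3, e4⟩ := exists_move_partner hB hN huW hvW hu hv huv hy hs hs1
  obtain ⟨k4, hk4, e5⟩ := exists_move_partner hB hN huW hvW hu hv huv hy'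
    (mul_ne_zero (mul_ne_zero hB.ne_zero h1) hs) hs2
  have e6 : Γ.act (k3 * k4⁻¹ * (k2 * (k1 * g))) v = v := by
    apply smul_right_injective V hs
    simp only
    rw [← map_smul, act_mul, map_smul, e2, smul_smul, mul_comm s, ← e5, act_mul, act_inv_act, e4]
  have hk5 := Subgroup.mul_mem _ hk3 (Subgroup.inv_mem _ hk4)
  have hg3 := Subgroup.mul_mem _ hk5.2 hg2
  have h2 : B (Γ.act (k3 * k4⁻¹ * (k2 * (k1 * g))) u) v = B u v := by
    conv_lhs => rw [← e6]
    rw [Γ.iso]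
  obtain ⟨k6, hk6, e7, e8⟩ := exists_move hB hN hvW (act_mem hg3 huW) huW hv (by rw [Γ.iso, hu]) hu
    h2 (by rw [h2, huv]; exact one_ne_zero)
  rw [← act_mul] at e7
  have e9 : Γ.act (k6 * (k3 * k4⁻¹ * (k2 * (k1 * g)))) v = v := by rw [act_mul, e6, e8]
  have hg4 := Subgroup.mul_mem _ hk6.2 hg3
  have h3 := ih _ (hn ▸ Submodule.finrank_lt_finrank_of_lt (s := perpIn B W u v)
    (lt_of_le_of_ne (fun x hx => (mem_perpIn.1 hx).1) fun h => by
      have := (mem_perpIn.1 (h.ge huW)).2.2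
      rw [huv] at this
      exact one_ne_zero this)) _ rfl (hW.perpIn hB huW hvW hu hv huv)
    (k6 * (k3 * k4⁻¹ * (k2 * (k1 * g)))) fun z => mem_perpIn.2 ⟨hg4 z, by
      rw [map_sub, LinearMap.sub_apply, ← e7, Γ.iso, e7, sub_self], by
      rw [map_sub, LinearMap.sub_apply, ← e9, Γ.iso, e9, sub_self]⟩
  rw [N.mul_mem_cancel_left hk6.1, N.mul_mem_cancel_left hk5.1, N.mul_mem_cancel_left hk2.1,
    N.mul_mem_cancel_left hk1.1] at h3
  exact h3

end Gen

end IsoGrp

end Cfsg.Agent.Forms
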