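import Cfsg.Agent.Forms.Eichler
import Cfsg.Agent.Forms.Reflect
import Cfsg.Agent.Forms.SympGroup
import Cfsg.Agent.Forms.UnitGroup

/-!
The symplectic and special unitary groups are generated by transvections.
-/

set_option autoImplicit false

namespace Cfsg.Agent.Forms

open Module

variable {F : Type*} [Field F] {V : Type*} [AddCommGroup V] [Module F V] {σ : F →+* F}
  {B : V →ₗ[F] V →ₛₗ[σ] F} {ε : F}

theorem IsEHerm.htr (hB : IsEHerm B ε) (hval : ∀ y, ∃ c, c * ε + σ c = B y y) (u y : V)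
    (hu : B u u = 0) (h : B u y ≠ 0) : ∃ c : F, B (y + c • u) (y + c • u) = 0 := by
  obtain ⟨c, hc⟩ := hval y
  have h1 : σ (B u y) ≠ 0 := (map_ne_zero σ).2 h
  refine ⟨-ε * c / B u y, ?_⟩
  simp only [map_add, LinearMap.add_apply, map_smul, map_smulₛₗ, LinearMap.smul_apply,
    smul_eq_mul, hu, map_div₀, map_mul, map_neg, hB.fix]
  rw [hB.symm u y, div_mul_cancel₀ _ h, mul_zero, add_zero, ← mul_assoc, mul_right_comm,
    div_mul_cancel₀ _ h1]
  linear_combination -hc - σ c * hB.sq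

namespace IsoGrp

variable {G : Type*} [Group G] {Γ : IsoGrp B ε G}

/-- All Eichler transformations with first two parameters `a`, `y` lie in `N`. -/
def EIn (Γ : IsoGrp B ε G) (N : Subgroup G) (a y : V) : Prop :=
  ∀ g c, EValid B ε a y c → Γ.act g = eich B ε a y c → g ∈ N

section

variable (hB : IsEHerm B ε) {N : Subgroup G}
  (hT : ∀ g a c, B a a = 0 → σ c + ε * c = 0 → Γ.act g = qrefl B a c → g ∈ N)
include hB hT

theorem eIn_of_one {a y : V} {c : F} {g : G} (h : EValid B ε a y c)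
    (hg : Γ.act g = eich B ε a y c) (hgN : g ∈ N) : Γ.EIn N a y := by
  intro g' c' h' hg'
  have h1 : σ (c - c') + ε * (c - c') = 0 := by
    rw [map_sub]; linear_combination h.tr - h'.tr
  obtain ⟨k, hk⟩ := Γ.lift _ _ _ (eValid_zero h.iso h1)
  have h2 : g' = k * g := Γ.inj (by
    rw [map_mul, hk, hg, hg', eich_mul hB _ _ h.iso (by simp) h.perp]
    simp)
  rw [h2]
  exact N.mul_mem (hT k a _ h.iso h1 (hk.trans (qrefl_eq_eich a _).symm)) hgN

theorem eIn_add (hval : ∀ y, ∃ c, c * ε + σ c = B y y) {a y y' : V} (ha : B a a = 0)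
    (hy : B y a = 0) (hy' : B y' a = 0) (h : Γ.EIn N a y) (h' : Γ.EIn N a y') :
    Γ.EIn N a (y + y') := by
  obtain ⟨c, hc⟩ := hval y
  obtain ⟨c', hc'⟩ := hval y'
  obtain ⟨k, hk⟩ := Γ.lift _ _ _ ⟨ha, hy, hc⟩
  obtain ⟨k', hk'⟩ := Γ.lift _ _ _ ⟨ha, hy', hc'⟩
  exact eIn_of_one hB hT (EValid.add hB ⟨ha, hy, hc⟩ ⟨ha, hy', hc'⟩) (g := k * k')
    (by rw [map_mul, hk, hk', eich_mul hB _ _ ha hy hy'])
    (N.mul_mem (h k c ⟨ha, hy, hc⟩ hk) (h' k' c' ⟨ha, hy', hc'⟩ hk'))

theorem eIn_iso (hs0 : ∃ s ≠ 0, σ s + ε * s = 0) {a y : V} (ha : B a a = 0) (hy : B y y = 0)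
    (hya : B y a = 0) : Γ.EIn N a y := by
  obtain ⟨s, hs, hs'⟩ := hs0
  obtain ⟨y, rfl⟩ : ∃ y', y = s • y' := ⟨s⁻¹ • y, (smul_inv_smul₀ hs y).symm⟩
  have hy1 : B y y = 0 := by simpa [map_smulₛₗ, hs] using hy
  have hya1 : B y a = 0 := by simpa [hs] using hya
  have hay1 := hB.eq_zero_comm.1 hya1
  have h1 : B (a + y) (a + y) = 0 := by simp [ha, hy1, hya1, hay1]
  have hs1 : σ (-s) + ε * -s = 0 := by rw [map_neg]; linear_combination -hs'
  obtain ⟨k1, hk1⟩ := Γ.lift _ _ _ (eValid_zero h1 hs')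
  obtain ⟨k2, hk2⟩ := Γ.lift _ _ _ (eValid_zero ha hs1)
  obtain ⟨k3, hk3⟩ := Γ.lift _ _ _ (eValid_zero hy1 hs1)
  rw [← qrefl_eq_eich] at hk1 hk2 hk3
  refine eIn_of_one hB hT (c := 0) ⟨ha, hya, by simp [hy1]⟩ (g := k1 * k2 * k3) ?_
    (N.mul_mem (N.mul_mem (hT _ _ _ h1 hs' hk1) (hT _ _ _ ha hs1 hk2)) (hT _ _ _ hy1 hs1 hk3))
  rw [map_mul, map_mul, hk1, hk2, hk3]
  ext z
  have h2 : σ s = -ε * s := by linear_combination hs'
  simp only [End.mul_apply, qrefl_apply, eich_apply, map_add, map_smul, LinearMap.add_apply,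
    LinearMap.smul_apply, map_smulₛₗ, ha, hy1, hya1, hay1, smul_eq_mul, h2]
  rw [show ε * (-ε * s * B z y) = -(s * B z y) by linear_combination (-(s * B z y)) * hB.sq]
  module

theorem exists_torus (hs0 : ∃ s ≠ 0, σ s + ε * s = 0) {a b : V} (ha : B a a = 0) (hb : B b b = 0)
    (hab : B a b = 1) {l : F} (hl : σ l = l) (hl0 : l ≠ 0) :
    ∃ k ∈ N, Γ.act k a = l • a ∧ ∀ y, B y a = 0 → B y b = 0 → Γ.act k y = y := by
  have hba : B b a = ε := by rw [hB.symm, hab, map_one, mul_one]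
  have key : ∀ s ≠ 0, σ s + ε * s = 0 →
      ∃ k ∈ N, Γ.act k a = s • b ∧ ∀ y, B y a = 0 → B y b = 0 → Γ.act k y = y := by
    intro s hs hs'
    have h2 : σ s = -ε * s := by linear_combination hs'
    have h1 : σ (-ε / s) + ε * (-ε / s) = 0 := by
      have := hB.ne_zero
      rw [map_div₀, map_neg, hB.fix, h2]
      field_simp
      linear_combination -hB.sq
    obtain ⟨k1, hk1⟩ := Γ.lift _ _ _ (eValid_zero hb hs')
    obtain ⟨k2, hk2⟩ := Γ.lift _ _ _ (eValid_zero ha h1)
    rw [← qrefl_eq_eich] at hk1 hk2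
    refine ⟨k2 * k1, N.mul_mem (hT _ _ _ ha h1 hk2) (hT _ _ _ hb hs' hk1), ?_, fun y h3 h4 => ?_⟩
    · rw [act_mul, hk1, hk2]
      simp only [qrefl_apply, map_add, map_smul, LinearMap.add_apply, LinearMap.smul_apply, ha, hab,
        hba, smul_eq_mul, mul_one, zero_add]
      rw [smul_add, smul_smul, show s * (-ε / s * ε) = -1 by field_simp; linear_combination -hB.sq]
      module
    · rw [act_mul, hk1, hk2]
      simp [qrefl_apply, h3, h4]
  obtain ⟨s, hs, hs'⟩ := hs0
  obtain ⟨k, hk, h1, h2⟩ := key s hs hs'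
  obtain ⟨k', hk', h1', h2'⟩ := key (l * s) (mul_ne_zero hl0 hs)
    (by rw [map_mul, hl]; linear_combination l * hs')
  refine ⟨k⁻¹ * k', N.mul_mem (N.inv_mem hk) hk', ?_, fun y h3 h4 => ?_⟩
  · rw [act_mul, h1', mul_smul, ← h1, map_smul, act_inv_act]
  · rw [act_mul, h2' y h3 h4]
    conv_lhs => rw [← h2 y h3 h4, act_inv_act]

theorem eIn_of_torus [hN : N.Normal] (hnd : Nd B ⊤) (hval : ∀ y, ∃ c, c * ε + σ c = B y y)
    (hs0 : ∃ s ≠ 0, σ s + ε * s = 0) {l : F} (hl : σ l = l) (hl0 : l ≠ 0) (hl1 : l ≠ 1) {a y : V}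
    (ha : B a a = 0) (hya : B y a = 0) : Γ.EIn N a y := by
  by_cases h0 : a = 0
  · intro g c _ hg
    rw [show g = 1 from Γ.ext' fun z => by rw [hg, act_one, eich_apply, h0]; simp]
    exact N.one_mem
  obtain ⟨b, -, hb, hab⟩ := hnd.exists_partner hB (hB.htr hval) trivial h0 ha
  have h1 := sub_mem_perpIn hB (W := ⊤) trivial trivial ha hb hab (x := y) trivial
  rw [hya, mul_zero, zero_smul, sub_zero] at h1
  obtain ⟨-, h2, h3⟩ := mem_perpIn.1 h1
  obtain ⟨y0, hy0⟩ : ∃ y0, y0 = (l - 1)⁻¹ • (y - B y b • a) := ⟨_, rfl⟩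
  have h2' : B y0 a = 0 := by rw [hy0, map_smul, LinearMap.smul_apply, h2, smul_zero]
  have h3' : B y0 b = 0 := by rw [hy0, map_smul, LinearMap.smul_apply, h3, smul_zero]
  have e : y = l • y0 + -y0 + B y b • a := by
    rw [← sub_eq_add_neg, ← one_smul F y0, smul_smul, ← sub_smul, mul_one, hy0,
      smul_inv_smul₀ (sub_ne_zero.2 hl1), sub_add_cancel]
  rw [e]
  have h4 : B (l • y0) a = 0 := by rw [map_smul, LinearMap.smul_apply, h2', smul_zero]
  refine eIn_add hB hT hval ha (by simp [h2']) (by simp [ha]) ?_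
    (eIn_iso hB hT hs0 ha (iso_smul ha _) (by simp [ha]))
  obtain ⟨k, hk, k1, k2⟩ := exists_torus hB hT hs0 ha hb hab hl hl0
  obtain ⟨c, hc⟩ := hval y0
  have hv : EValid B ε a y0 c := ⟨ha, h2', hc⟩
  have hv' : EValid B ε a (l • y0) (l * l * c) := ⟨ha, h4, by
    simp only [map_mul, hl, map_smul, map_smulₛₗ, LinearMap.smul_apply, smul_eq_mul]
    linear_combination l * l * hc⟩
  obtain ⟨g, hg⟩ := Γ.lift _ _ _ hv
  have h5 : Γ.act (k * g * k⁻¹) = eich B ε a (l • y0) (l * l * c) := by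
    ext z
    obtain ⟨z, rfl⟩ : ∃ z', z = Γ.act k z' := ⟨_, (Γ.act_act_inv k z).symm⟩
    rw [act_mul, act_mul, act_inv_act, hg, map_eich (Γ.iso k), k1, k2 y0 h2' h3', eich_smul hB, hl]
  have h6 : Γ.act g⁻¹ = eich B ε a (-y0) (ε * B y0 y0 - c) := by
    rw [← one_mul (eich B ε a (-y0) _), ← map_one Γ.act, ← inv_mul_cancel g, map_mul, mul_assoc, hg,
      eich_mul_neg hB hv, mul_one]
  refine eIn_of_one hB hT (hv'.add hB (hv.neg hB)) (g := k * g * k⁻¹ * g⁻¹)
    (by rw [map_mul, h5, h6, eich_mul hB _ _ ha h4 (hv.neg hB).perp]) ?_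
  rw [mul_assoc, mul_assoc, ← mul_assoc g]
  exact N.mul_mem hk (hN.conj_mem _ (N.inv_mem hk) g)

end

theorem mem_of_transvection_alt [FiniteDimensional F V] {B : V →ₗ[F] V →ₗ[F] F}
    (hB : IsEHerm B (-1)) (halt : ∀ x, B x x = 0) (hnd : Nd B ⊤) {Γ : IsoGrp B (-1) G}
    {N : Subgroup G} (hT : ∀ g a c, Γ.act g = qrefl B a c → g ∈ N) (g : G) : g ∈ N := by
  have hs0 : ∃ s ≠ (0 : F), RingHom.id F s + -1 * s = 0 := ⟨1, one_ne_zero, by simp⟩
  refine mem_of_eich hB (Γ := Γ) (fun g a y c h hg =>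
    eIn_iso hB (fun g a c _ _ => hT g a c) hs0 h.iso (halt y) h.perp g c h hg) hnd
    (fun u y _ _ => ⟨0, halt _⟩) hs0 (fun W _ u _ v _ _ _ _ g _ l m _ _ =>
      ⟨1, one_ne_zero, 0, Submodule.zero_mem _, 0, Submodule.zero_mem _, by simp, by simp⟩)
    (fun W _ h g hg => Γ.ext' fun z => ?_) g
  rw [act_one, ← sub_eq_zero]
  exact h _ (hg z) (halt _)

section Herm

variable [FiniteDimensional F V] {Γ : IsoGrp B 1 G} (hB : IsEHerm B 1) (hnd : Nd B ⊤)
  (hne : ∃ θ, σ θ ≠ θ) (hnorm : ∀ a, σ a = a → ∃ c, c * σ c = a)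

omit [FiniteDimensional F V] in
include hB hne in
theorem _root_.Cfsg.Agent.Forms.IsEHerm.hval (y : V) : ∃ c, c * 1 + σ c = B y y := by
  obtain ⟨c, -, hc⟩ := exists_trace_eq hB.invol hne (c := B y y) (by
    rw [eq_comm, hB.symm y y, one_mul, hB.invol, hB.symm y y, one_mul, hB.invol]
    conv_lhs => rw [hB.symm y y, one_mul])
  exact ⟨c, by rwa [mul_one]⟩

omit [FiniteDimensional F V] in
include hB hne in
theorem _root_.Cfsg.Agent.Forms.IsEHerm.hs0 : ∃ s ≠ 0, σ s + 1 * s = 0 := by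
  obtain ⟨θ, hθ⟩ := hne
  exact ⟨θ - σ θ, sub_ne_zero.2 hθ.symm, by rw [map_sub, hB.invol]; ring⟩

omit [FiniteDimensional F V] in
include hB in
theorem _root_.Cfsg.Agent.Forms.IsEHerm.fix_self (y : V) : σ (B y y) = B y y := by
  conv_rhs => rw [hB.symm y y, one_mul]

omit [FiniteDimensional F V] in
include hne in
theorem _root_.Cfsg.Agent.Forms.Nd.exists_noniso {W : Submodule F V} (hW : Nd B W) (h : W ≠ ⊥) :
    ∃ e ∈ W, B e e ≠ 0 := by
  obtain ⟨x, hx, hx0⟩ := Submodule.exists_mem_ne_zero_of_ne_bot h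
  obtain ⟨y, hy, h1⟩ := hW.exists_ne hx hx0
  obtain ⟨v, hv, hv'⟩ := exists_herm_self_ne_zero hne h1
  refine ⟨v, Submodule.span_le.2 ?_ hv, hv'⟩
  rw [Set.insert_subset_iff, Set.singleton_subset_iff]
  exact ⟨hx, hy⟩

omit [FiniteDimensional F V] in
include hB hnorm in
theorem _root_.Cfsg.Agent.Forms.IsEHerm.exists_smul_eq {e : V} (he : B e e ≠ 0) {s : F}
    (hs : σ s = s) : ∃ t : F, B (t • e) (t • e) = s := by
  obtain ⟨t, ht⟩ := hnorm (s / B e e) (by rw [map_div₀, hs, hB.fix_self])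
  refine ⟨t, ?_⟩
  simp only [map_smul, map_smulₛₗ, LinearMap.smul_apply, smul_eq_mul]
  rw [← mul_assoc, mul_comm (σ t), ht, div_mul_cancel₀ _ he]

include hB hnd hne hnorm

theorem mem_of_eich_herm (hdet : ∀ g, LinearMap.det (Γ.act g) = 1) {N : Subgroup G}
    (hN : ∀ g a y c, EValid B 1 a y c → Γ.act g = eich B 1 a y c → g ∈ N) (g : G) : g ∈ N := by
  refine mem_of_eich hB hN hnd (hB.htr (hB.hval hne)) (hB.hs0 hne) ?_ ?_ g
  · intro W hW u huW v hvW hu hv huv g hg l m h1 h2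
    have hvu : B v u = 1 := by rw [hB.symm, huv, map_one, mul_one]
    by_cases h : perpIn B W u v = ⊥
    · obtain ⟨s, hs, hs'⟩ := hB.hs0 hne
      have h3 : Γ.act g = LinearMap.transvection ((l - 1) • B.flip v) u ∘ₗ
          LinearMap.transvection ((m - 1) • B.flip u) v := by
        ext z
        obtain ⟨-, h4, h5⟩ := mem_perpIn.1
          (sub_mem_perpIn hB (W := ⊤) trivial trivial hu hv huv (x := z) trivial)
        have h6 := act_eq_of_perp hnd hg (z := z - B z v • u - (1 * B z u) • v) fun w hw => by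
          have := sub_mem_perpIn hB huW hvW hu hv huv hw
          rw [h, Submodule.mem_bot, sub_sub, sub_eq_zero] at this
          rw [this, map_add, map_smulₛₗ, map_smulₛₗ, h4, h5, smul_zero, smul_zero, add_zero]
        rw [map_sub, map_sub, map_smul, map_smul, h1, h2, sub_sub, sub_eq_iff_eq_add] at h6
        rw [h6]
        simp only [LinearMap.comp_apply, LinearMap.transvection.apply, LinearMap.smul_apply,
          LinearMap.flip_apply, map_add, map_smul, hv, smul_eq_mul]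
        module
      have h4 := hdet g
      rw [h3, LinearMap.det_comp, LinearMap.transvection.det, LinearMap.transvection.det] at h4
      simp only [LinearMap.smul_apply, LinearMap.flip_apply, huv, hvu, smul_eq_mul, mul_one,
        add_sub_cancel] at h4
      have h5 := Γ.iso g u v
      rw [h1, h2, map_smulₛₗ, map_smul, LinearMap.smul_apply, huv] at h5
      have h6 : σ m = m := by
        simp only [smul_eq_mul, mul_one] at h5
        linear_combination m * h5 - σ m * h4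
      refine ⟨s, hs, 0, Submodule.zero_mem _, 0, Submodule.zero_mem _, by simpa using hs', ?_⟩
      rw [map_mul, h6, map_zero]
      linear_combination m * hs'
    · obtain ⟨e, he, he'⟩ := (hW.perpIn hB huW hvW hu hv huv).exists_noniso hne h
      have key : ∀ s : F, ∃ y ∈ perpIn B W u v, σ s + 1 * s + B y y = 0 := by
        intro s
        obtain ⟨t, ht⟩ := hB.exists_smul_eq hnorm he' (s := -(σ s + s))
          (by rw [map_neg, map_add, hB.invol, add_comm])
        exact ⟨t • e, Submodule.smul_mem _ _ he, by rw [ht]; ring⟩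
      obtain ⟨y, hy, h3⟩ := key 1
      obtain ⟨y', hy', h4⟩ := key (m * 1)
      exact ⟨1, one_ne_zero, y, hy, y', hy', h3, h4⟩
  · intro W hW h g hg
    by_cases h0 : W = ⊥
    · refine Γ.ext' fun z => ?_
      rw [act_one, ← sub_eq_zero, ← Submodule.mem_bot F, ← h0]
      exact hg z
    obtain ⟨e, he, he0⟩ := Submodule.exists_mem_ne_zero_of_ne_bot h0
    have he' : B e e ≠ 0 := fun h' => he0 (h e he h')
    have h1 : ∀ z, B (z - (B z e / B e e) • e) e = 0 := fun z => by simp [he']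
    have h2 : ∀ w ∈ W, w = (B w e / B e e) • e := by
      intro w hw
      by_contra h3
      have hw' := W.sub_mem hw (W.smul_mem (B w e / B e e) he)
      obtain ⟨t, ht⟩ := hB.exists_smul_eq hnorm
        (fun h' => h3 (sub_eq_zero.1 (h _ hw' h'))) (s := -B e e) (by rw [map_neg, hB.fix_self])
      have h4 : B (t • (w - (B w e / B e e) • e)) e = 0 := by
        rw [map_smul, LinearMap.smul_apply, h1, smul_zero]
      have h5 := h _ (W.add_mem he (W.smul_mem t hw')) (by
        rw [map_add, map_add, LinearMap.add_apply, LinearMap.add_apply, ht, h4,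
          hB.eq_zero_comm.1 h4]
        ring)
      have h6 := congrArg (fun x => B x e) h5
      simp only [map_add, LinearMap.add_apply, h4, add_zero, map_zero, LinearMap.zero_apply] at h6
      exact he' h6
    obtain ⟨l, hl⟩ : ∃ l : F, Γ.act g e = l • e := ⟨_, h2 _ (act_mem hg he)⟩
    have h3 : Γ.act g = LinearMap.transvection (((l - 1) / B e e) • B.flip e) e := by
      ext z
      have h6 := act_eq_of_perp hnd hg (z := z - (B z e / B e e) • e) fun w hw => by
        rw [h2 w hw, map_smulₛₗ, h1, smul_zero]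
      rw [map_sub, map_smul, hl, sub_eq_iff_eq_add] at h6
      rw [h6]
      simp only [LinearMap.transvection.apply, LinearMap.smul_apply, LinearMap.flip_apply,
        smul_eq_mul]
      rw [show (l - 1) / B e e * B z e = B z e / B e e * (l - 1) by ring]
      module
    have h4 := hdet g
    rw [h3, LinearMap.transvection.det] at h4
    simp only [LinearMap.smul_apply, LinearMap.flip_apply, smul_eq_mul, div_mul_cancel₀ _ he',
      add_sub_cancel] at h4
    refine Γ.inj ?_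
    rw [h3, h4, sub_self, zero_div, zero_smul, map_one, LinearMap.transvection.of_left_eq_zero]
    rfl

theorem eIn_of_four_le (h4 : 4 ≤ finrank F V) {N : Subgroup G}
    (hT : ∀ g a c, B a a = 0 → σ c + 1 * c = 0 → Γ.act g = qrefl B a c → g ∈ N) {a y : V}
    (ha : B a a = 0) (hya : B y a = 0) : Γ.EIn N a y := by
  by_cases h0 : a = 0
  · intro g c _ hg
    rw [show g = 1 from Γ.ext' fun z => by rw [hg, act_one, eich_apply, h0]; simp]
    exact N.one_mem
  by_cases hy : B y y = 0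
  · exact eIn_iso hB hT (hB.hs0 hne) ha hy hya
  obtain ⟨b, -, hb, hab⟩ := hnd.exists_partner hB (hB.htr (hB.hval hne)) trivial h0 ha
  have h1 := sub_mem_perpIn hB (W := ⊤) trivial trivial ha hb hab (x := y) trivial
  rw [hya, mul_zero, zero_smul, sub_zero] at h1
  obtain ⟨y0, hy0⟩ : ∃ y0, y0 = y - B y b • a := ⟨_, rfl⟩
  rw [← hy0] at h1
  have hay := hB.eq_zero_comm.1 hya
  have h2 : B y0 y0 = B y y := by simp [hy0, map_smulₛₗ, ha, hya, hay]
  have h3 : Nd B (perpIn B ⊤ a b ⊓ LinearMap.ker (B.flip y0)) := by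
    intro x hx h
    refine hnd.perpIn hB trivial trivial ha hb hab x hx.1 fun w hw => ?_
    have := h (w - (B w y0 / B y0 y0) • y0)
      ⟨Submodule.sub_mem _ hw (Submodule.smul_mem _ _ h1), by simp [h2, hy]⟩
    rwa [map_sub, map_smulₛₗ, show B x y0 = 0 from hx.2, smul_zero, sub_zero] at this
  have h5 : perpIn B ⊤ a b ⊓ LinearMap.ker (B.flip y0) ≠ ⊥ := by
    have k1 := finrank_le_inf_ker_add_one (⊤ : Submodule F V) (B.flip a)
    have k2 := finrank_le_inf_ker_add_one (⊤ ⊓ LinearMap.ker (B.flip a)) (B.flip b)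
    have k3 := finrank_le_inf_ker_add_one (perpIn B ⊤ a b) (B.flip y0)
    rw [finrank_top] at k1
    intro h
    rw [h, finrank_bot] at k3
    rw [perpIn] at k3
    omega
  obtain ⟨e, ⟨he1, he2⟩, he⟩ := h3.exists_noniso hne h5
  obtain ⟨-, hea, -⟩ := mem_perpIn.1 he1
  have hey : B e y = 0 := by
    have : B e y0 = 0 := he2
    rwa [hy0, map_sub, map_smulₛₗ, hea, smul_zero, sub_zero] at this
  obtain ⟨t, ht⟩ := hB.exists_smul_eq hnorm he (s := -B y y) (by rw [map_neg, hB.fix_self])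
  obtain ⟨θ, hθ⟩ := id hne
  have hθ0 : θ ≠ 0 := by rintro rfl; exact hθ (map_zero σ)
  have hθ1 : σ θ ≠ 0 := (map_ne_zero σ).2 hθ0
  have key : ∀ ζ r : F, ζ * σ ζ = 1 → Γ.EIn N a (r • (y + ζ • t • e)) := by
    intro ζ r hζ
    refine eIn_iso hB hT (hB.hs0 hne) ha (iso_smul ?_ _) (by simp [hya, hea])
    have h6 : B (t • e) y = 0 := by rw [map_smul, LinearMap.smul_apply, hey, smul_zero]
    have h7 := hB.eq_zero_comm.1 h6
    generalize t • e = e' at ht h6 h7
    simp only [map_add, map_smul, map_smulₛₗ, LinearMap.add_apply, LinearMap.smul_apply, h6, h7, ht,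
      smul_eq_mul]
    linear_combination (-B y y) * hζ
  have hζ : σ θ / θ - 1 ≠ 0 := by
    rw [sub_ne_zero, Ne, div_eq_one_iff_eq hθ0]; exact hθ
  have e1 : y = (σ θ / θ / (σ θ / θ - 1)) • (y + (1 : F) • t • e) +
      (-1 / (σ θ / θ - 1)) • (y + (σ θ / θ) • t • e) := by
    generalize σ θ / θ = ζ at hζ
    generalize t • e = e'
    have k1 : ζ / (ζ - 1) + -1 / (ζ - 1) = 1 := by field_simp; ring
    have k2 : ζ / (ζ - 1) + -1 / (ζ - 1) * ζ = 0 := by field_simp; ring
    linear_combination (norm := module) (-(k1 • y)) - k2 • e'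
  rw [e1]
  exact eIn_add hB hT (hB.hval hne) ha (by simp [hya, hea]) (by simp [hya, hea])
    (key 1 _ (by simp)) (key _ _ (by rw [map_div₀, hB.invol]; field_simp))

theorem mem_of_transvection_herm (hdet : ∀ g, LinearMap.det (Γ.act g) = 1) {N : Subgroup G}
    [N.Normal] (hT : ∀ g a c, B a a = 0 → σ c + 1 * c = 0 → Γ.act g = qrefl B a c → g ∈ N)
    (h : 4 ≤ finrank F V ∨ ∃ l : F, σ l = l ∧ l ≠ 0 ∧ l ≠ 1) (g : G) : g ∈ N := by
  refine mem_of_eich_herm hB hnd hne hnorm hdet (fun g a y c hv hg => ?_) g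
  rcases h with h | ⟨l, h1, h2, h3⟩
  · exact eIn_of_four_le hB hnd hne hnorm h hT hv.iso hv.perp g c hv hg
  · exact eIn_of_torus hB hT hnd (hB.hval hne) (hB.hs0 hne) h1 h2 h3 hv.iso hv.perp g c hv hg

end Herm

end IsoGrp

theorem Rep.nd_top (hB : Rep B) : Nd B ⊤ := fun _ _ h => hB.sepLeft fun y => h y trivial

/-! ### The concrete groups -/

theorem sympB_isEHerm {m : ℕ} : IsEHerm (σ := RingHom.id F) (sympB m F) (-1) where
  invol := fun _ => rfl
  sq := by ring
  fix := rfl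
  symm := fun x y => by rw [sympB_swap]; simp

theorem sympB_nd {m : ℕ} : Nd (σ := RingHom.id F) (sympB m F) ⊤ :=
  fun x _ h => sympB_nondegenerate.1 x fun y => h y trivial

/-- The symplectic group acting on its natural module. -/
noncomputable def spGrp (m : ℕ) (F : Type*) [Field F] :
    IsoGrp (σ := RingHom.id F) (sympB m F) (-1) (Matrix.symplecticGroup (Fin m) F) where
  act :=
    { toFun := slin
      map_one' := slin_one
      map_mul' := slin_mul }
  inj := slin_injective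
  iso := slin_form
  lift := fun _ _ _ h => exists_slin_eq (eich_iso sympB_isEHerm h)

theorem spGrp_act {m : ℕ} (g : Matrix.symplecticGroup (Fin m) F) : (spGrp m F).act g = slin g := rfl

theorem sp_mem_of_transvection {m : ℕ} {N : Subgroup (Matrix.symplecticGroup (Fin m) F)}
    (hT : ∀ g a c, slin g = qrefl (σ := RingHom.id F) (sympB m F) a c → g ∈ N)
    (g : Matrix.symplecticGroup (Fin m) F) : g ∈ N :=
  IsoGrp.mem_of_transvection_alt sympB_isEHerm sympB_self sympB_nd (Γ := spGrp m F) hT g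

section SU

variable [Fintype F] {q n : ℕ} (hF : Fintype.card F = q ^ 2)

theorem hermB_isEHerm : IsEHerm (hermB (frobq hF) (Fin n)) 1 where
  invol := frobq_frobq hF
  sq := one_mul 1
  fix := map_one _
  symm := fun x y => by rw [one_mul, hermB_symm (frobq_frobq hF)]

theorem hermB_nd : Nd (hermB (frobq hF) (Fin n)) ⊤ := (hermB_rep (frobq_frobq hF)).nd_top

/-- The special unitary group acting on its natural module. -/
noncomputable def suGrp (n : ℕ) : IsoGrp (hermB (frobq hF) (Fin n)) 1 (SU n F q) where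
  act :=
    { toFun := sulin
      map_one' := sulin_one
      map_mul' := fun g h => LinearMap.ext (sulin_mul_apply g h) }
  inj := sulin_injective
  iso := sulin_form hF
  lift := fun _ _ _ h =>
    exists_sulin_eq hF (eich_det (hermB_isEHerm hF) h) (eich_iso (hermB_isEHerm hF) h)

theorem suGrp_act (g : SU n F q) : (suGrp hF n).act g = sulin g := rfl

theorem exists_frobq_fixed (hq : q ≠ 2) : ∃ l : F, frobq hF l = l ∧ l ≠ 0 ∧ l ≠ 1 := by
  classical
  by_contra h
  push Not at h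
  have h2 := two_le_q hF
  have h1 : ∀ x : F, x ≠ 0 → x ^ (q + 1) = 1 := fun x hx => by
    rw [pow_succ']
    exact h (x * frobq hF x) (by rw [map_mul, frobq_frobq, mul_comm]) (by simp [hx])
  have h3 := card_pow_eq_self_le (F := F) (q + 2) (by omega)
  rw [Finset.filter_true_of_mem (fun x _ => by
    by_cases hx : x = 0
    · simp [hx]
    · rw [pow_succ, h1 x hx, one_mul]), Finset.card_univ, hF] at h3
  have : 3 ≤ q := by omega
  nlinarith

theorem su_mem_of_transvection (h : 4 ≤ n ∨ q ≠ 2) {N : Subgroup (SU n F q)} [N.Normal]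
    (hT : ∀ g a c, hermB (frobq hF) (Fin n) a a = 0 → frobq hF c + 1 * c = 0 →
      sulin g = qrefl (hermB (frobq hF) (Fin n)) a c → g ∈ N) (g : SU n F q) : g ∈ N :=
  IsoGrp.mem_of_transvection_herm (hermB_isEHerm hF) (hermB_nd hF) (exists_frobq_ne hF)
    (exists_norm_eq hF) (Γ := suGrp hF n) det_sulin hT
    (h.imp (fun h => by simpa using h) (exists_frobq_fixed hF)) g

end SU

end Cfsg.Agent.Forms
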