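import Cfsg.Agent.Forms.LongHecke
import Cfsg.Agent.Chev.WClosed

/-!
Long roots: Heisenberg relations and Steinberg relations of type `A₂`.
-/

set_option autoImplicit false

namespace Cfsg.Agent.Forms

open Module Finset Cfsg.Lie Cfsg.Agent.Chev Cfsg.Agent.GLn
open scoped InnerProductSpace

section Heis

variable {Γ : Type*} [Group Γ] {V : Type*} [NormedAddCommGroup V] [InnerProductSpace ℂ V]
  [FiniteDimensional ℂ V] {ρ : Representation ℂ Γ V}

theorem heis_card (hρ : IsUni ρ) {A B : Subgroup Γ} [Finite B] {W : Submodule ℂ V}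
    (hB : B ≤ Sts ρ W) (h : ∀ b ∈ B, b ≠ 1 → ∃ a ∈ A, ∃ c : ℂ, c ≠ 1 ∧
      ∀ w ∈ W, ρ a (ρ b w) = c • ρ b (ρ a w)) :
    Nat.card B * finrank ℂ ↥(W ⊓ Fx ρ A) ≤ finrank ℂ W := by
  refine card_mul_le_orth (fun b : B => (b : Γ)) _ _ (fun i j hij v hv w hw => ?_)
    fun b v hv => hB b.2 v hv.1
  obtain ⟨a, ha, c, hc, e⟩ := h _ (mul_mem (inv_mem i.2) j.2) fun e =>
    hij (Subtype.ext (inv_mul_eq_one.1 e))
  rw [← hρ (i : Γ)⁻¹, inv_ap, ← mul_ap]
  exact inner_eq_zero_of_smul hρ (hv.2 a ha) (by rw [e w hw.1, hw.2 a ha]) hc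

theorem heis_ne {A B : Subgroup Γ} [Finite A] [Finite B] {W : Submodule ℂ V} (hA : A ≤ Sts ρ W)
    (hB : B ≤ Sts ρ W) (h0 : ∀ a ∈ A, ∀ b ∈ B, ∃ c : ℂ, ∀ w ∈ W, ρ a (ρ b w) = c • ρ b (ρ a w))
    (h : ∀ a ∈ A, a ≠ 1 → ∃ b ∈ B, ∃ c : ℂ, c ≠ 1 ∧ ∀ w ∈ W, ρ b (ρ a w) = c • ρ a (ρ b w))
    {v : V} (hv : v ∈ W) (hv0 : v ≠ 0) : ∃ w ∈ W ⊓ Fx ρ A, w ≠ 0 := by
  classical
  have := Fintype.ofFinite A
  have := Fintype.ofFinite B
  by_contra! hn
  have e1 : ∀ b : B, ∑ a : A, ρ a (ρ b v) = 0 := fun b => hn _ ⟨W.sum_mem fun a _ =>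
    hA a.2 _ (hB b.2 v hv), fun g hg => by
      rw [map_sum, eq_comm, ← Equiv.sum_comp (Equiv.mulLeft (⟨g, hg⟩ : A))]
      exact sum_congr rfl fun a _ => mul_ap _ _ _⟩
  have e2 : ∑ a : A, ∑ b : B, ρ (b : Γ)⁻¹ (ρ a (ρ b v)) = 0 := by
    rw [sum_comm]; exact sum_eq_zero fun b _ => by rw [← map_sum, e1, map_zero]
  rw [sum_eq_single 1 (fun a _ ha => ?_) (by simp)] at e2
  · simp only [OneMemClass.coe_one, one_ap, inv_ap, sum_const, card_univ] at e2
    rw [← Nat.cast_smul_eq_nsmul ℂ] at e2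
    exact hv0 ((smul_eq_zero_iff_right (Nat.cast_ne_zero.2 Fintype.card_ne_zero)).1 e2)
  obtain ⟨b, hb, c, hc, e⟩ := h a a.2 fun e => ha (Subtype.ext e)
  refine smul_right_injective V (sub_ne_zero.2 hc) ?_
  simp only [sub_smul, one_smul, smul_zero, sub_eq_zero]
  rw [← Equiv.sum_comp (Equiv.mulRight (⟨b, hb⟩ : B)), smul_sum, eq_comm,
    ← Equiv.sum_comp (Equiv.mulRight (⟨b, hb⟩ : B))⁻¹]
  refine sum_congr rfl fun b' _ => ?_
  obtain ⟨d, hd⟩ := h0 a a.2 b' b'.2
  simp only [Equiv.Perm.inv_def, Equiv.apply_symm_apply, Equiv.coe_mulRight, Subgroup.coe_mul,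
    mul_inv_rev, mul_ap]
  rw [hd v hv, hd _ (hB hb v hv), map_smul, map_smul, inv_ap, inv_ap, map_smul, smul_comm,
    ← map_smul (ρ b⁻¹), ← e v hv, inv_ap]

end Heis

variable {D : ChevalleyDatum} {C : Cert D} {F : Type*} [Field F] {G : Type*} [Group G]

variable (C) in
/-- Long roots. -/
def Lng (r : Rt D) : Prop := ∀ u, C.len u ≤ C.len r

theorem Lng.rev {r : Rt D} (h : Lng C r) : Lng C r.rev := fun u => (C.len_rev r).symm ▸ h u

theorem A_add' {r s u : Rt D} (e : C.rc u = C.rc r + C.rc s) (b : Rt D) :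
    C.A b u = C.A b r + C.A b s := by rw [← C.pr_rc, e, C.pr_add, C.pr_rc, C.pr_rc]

theorem A_sub' {r s u : Rt D} (e : C.rc u = C.rc r - C.rc s) (b : Rt D) :
    C.A b u = C.A b r - C.A b s := by rw [← C.pr_rc, e, C.pr_sub, C.pr_rc, C.pr_rc]

theorem Lng.le {b : Rt D} (h : Lng C b) {u : Rt D} (hu : u ≠ b) : C.A b u ≤ 1 := by
  by_cases h2 : u = b.rev
  · rw [h2, C.A_rev_right, C.A_self]; omega
  · exact (C.A_abs_le_one hu h2 (h u)).2

theorem Lng.le_two {b : Rt D} (h : Lng C b) (u : Rt D) : C.A b u ≤ 2 := by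
  by_cases hu : u = b
  · rw [hu, C.A_self]
  · exact (h.le hu).trans (by omega)

theorem Lng.ge {b : Rt D} (h : Lng C b) {u : Rt D} (hu : u ≠ b.rev) : -1 ≤ C.A b u := by
  have := h.rev.le hu
  rw [C.A_rev_left] at this; omega

theorem Lng.A_symm {a b : Rt D} (ha : Lng C a) (hb : Lng C b) : C.A a b = C.A b a :=
  mul_left_cancel₀ (C.len_pos a).ne' (by rw [C.A_symm, (ha b).antisymm (hb a)])

theorem Lng.A_eq_one {b r s : Rt D} (h : Lng C b) (e : C.rc b = C.rc r + C.rc s) : C.A b r = 1 := by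
  have h1 := A_add' e b
  have h2 := h.le (u := r) fun h => C.rc_ne_zero s (by rw [h] at e; simpa using e)
  have h3 := h.le (u := s) fun h => C.rc_ne_zero r (by rw [h] at e; simpa using e)
  rw [C.A_self] at h1; omega

theorem Lng.not_add {b r : Rt D} (h : Lng C b) (hr : 1 ≤ C.A b r) (u : Rt D) :
    C.rc u ≠ C.rc b + C.rc r := fun e => by
  have := A_add' e b
  have := h.le_two u
  rw [C.A_self] at *; omega

theorem ne_rev_of_A {b r s : Rt D} (h : 0 < C.A b r + C.A b s) : s ≠ r.rev := fun e => by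
  rw [e, C.A_rev_right] at h; omega

theorem Lng.commute (S : Sys C F G) {b r : Rt D} (h : Lng C b) (hr : 1 ≤ C.A b r) (t u : F) :
    S.x b t * S.x r u = S.x r u * S.x b t :=
  S.commute_of_not_add (ne_rev_of_A (b := b) (by rw [C.A_self]; omega)) (h.not_add hr) t u

theorem commute_U (S : Sys C F G) {g : G} {A : Set (Rt D)}
    (h : ∀ r ∈ A, ∀ t, g * S.x r t = S.x r t * g) {u : G} (hu : u ∈ S.U A) : g * u = u * g :=
  (S.U_le (K := Subgroup.centralizer {g})).2 (fun r hr t _ e => e ▸ h r hr t) hu g rfl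

theorem swap_of_comm {a b c : G} (h : a⁻¹ * b⁻¹ * a * b = c) : a * b = b * a * c := by
  rw [← h]; group

theorem Lng.swap (S : Sys C F G) {b r s : Rt D} (h : Lng C b) (e : C.rc b = C.rc r + C.rc s)
    (t u : F) : S.x r t * S.x s u = S.x s u * S.x r t * S.x b (C.N r s * (t * u)) := by
  rw [swap_of_comm (S.comm_simple (e.trans (add_comm _ _))
    (h.not_add (h.A_eq_one (e.trans (add_comm _ _))).ge) (h.not_add (h.A_eq_one e).ge) u t), C.N_anti]
  congr 2; push_cast; ring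

/-- The Heisenberg relation. -/
theorem Lng.heis (S : Sys C F G) {b r s : Rt D} (h : Lng C b) (e : C.rc b = C.rc r + C.rc s) (t : F)
    {u : G} (hu : u ∈ S.U {a | 1 ≤ C.A b a}) :
    S.x r t * u = u * S.x r t * S.x b (C.N r s * (t * S.cd s u)) := by
  have h1 := h.A_eq_one e
  have h2 := h.A_eq_one (e.trans (add_comm _ _))
  refine S.U_induction (P := fun u => S.x r t * u = u * S.x r t * S.x b (C.N r s * (t * S.cd s u)))
    (by simp [S.cd_one, S.x_zero]) (fun a ha c y hy ih => ?_) hu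
  rw [S.cd_mul (f := C.prL b) zero_le_one (T := {a | 1 ≤ C.A b a}) (fun r hr => by rwa [C.prL_rc])
    (by rw [C.prL_rc, h2]; omega) (S.x_mem_U ha c) hy, ← mul_assoc]
  by_cases e1 : a = s
  · rw [e1, h.swap S e, S.cd_x_self, mul_assoc, commute_U S (fun r hr => h.commute S hr _) hy,
      mul_assoc, ← mul_assoc (S.x r t), ih, mul_add, mul_add, add_comm, S.x_add]
    simp only [mul_assoc]
  · rw [S.commute_of_not_add (ne_rev_of_A (C := C) (b := b) (by have : 1 ≤ C.A b a := ha; omega))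
      (fun v e2 => e1 (C.rc_inj (add_left_cancel (e2.symm.trans ((congrArg C.rc (by_contra fun e3 => by
        have := h.le e3; have := A_add' e2 b; have : 1 ≤ C.A b a := ha; omega)).trans e))))),
      mul_assoc, ih, S.cd_x_ne e1, zero_add]
    simp only [mul_assoc]

theorem Lng.N_sq {r s u : Rt D} (h : Lng C r) (h' : Lng C s) (e : C.rc u = C.rc r + C.rc s) :
    C.N r s * C.N r s = 1 := by
  have h1 := C.len_add e
  have h2 := h u
  have h3 := C.len_pos r
  have h4 := (h s).antisymm (h' r)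
  have h5 : C.A r s < 0 := by nlinarith
  rw [← abs_mul_abs_self, C.N_abs' (C.ch_one_of_add e), (C.N_eq_zero_iff' _ _).1
    (C.N_eq_zero_of_not_root (h.rev.not_add (by rw [C.A_rev_left]; omega)))]
  simp

theorem Lng.add {r s u : Rt D} (h : Lng C r) (h' : Lng C s) (e : C.rc u = C.rc r + C.rc s) :
    Lng C u := by
  have h1 := C.len_add e
  have h3 := C.len_pos r
  have h4 := (h s).antisymm (h' r)
  have h5 := h.ge (u := s) fun e1 => C.rc_ne_zero u (by rw [e, e1, C.rc_neg, add_neg_cancel])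
  exact fun v => (h v).trans (by nlinarith)

theorem Lng.cyc {r s u : Rt D} (h : Lng C r) (h' : Lng C s) (e : C.rc u = C.rc r + C.rc s) :
    C.N s u.rev = C.N r s :=
  mul_right_cancel₀ (C.len_pos u).ne' (by
    rw [← C.N_cyc' (C.ch_one_of_add e), (h u).antisymm (h.add h' e r)])

/-- The roots of a subsystem of type `A₂`. -/
def rt3 (a b c : Rt D) : Fin 3 → Fin 3 → Rt D := ![![a, a, c], ![a.rev, a, b], ![c.rev, b.rev, a]]

/-- The signs of a subsystem of type `A₂`. -/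
def sg3 (ε : F) : Fin 3 → Fin 3 → F := ![![0, 1, ε], ![1, 0, 1], ![ε, 1, 0]]

/-- The Steinberg relations for two long roots whose sum is a root. -/
def stA (S : Sys C F G) {a b c : Rt D} (ha : Lng C a) (hb : Lng C b)
    (e : C.rc c = C.rc a + C.rc b) : StA (Fin 3) F G :=
  have hc := ha.add hb e
  have n0 : (C.N a b : F) * C.N a b = 1 := by exact_mod_cast congrArg (Int.cast : ℤ → F) (ha.N_sq hb e)
  have e1 : C.rc a.rev = C.rc b + C.rc c.rev := by rw [C.rc_neg, C.rc_neg, e]; abel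
  have e2 : C.rc b.rev = C.rc c.rev + C.rc a := by rw [C.rc_neg, C.rc_neg, e]; abel
  have e3 : C.rc c.rev = C.rc b.rev + C.rc a.rev := by rw [C.rc_neg, C.rc_neg, C.rc_neg, e]; abel
  have e4 : C.rc a = C.rc c + C.rc b.rev := by rw [C.rc_neg, e]; abel
  have e5 : C.rc b = C.rc a.rev + C.rc c := by rw [C.rc_neg, e]; abel
  have n1 : C.N b c.rev = C.N a b := ha.cyc hb e
  have n2 : C.N c.rev a = C.N a b := by rw [← n1, ← hb.cyc hc.rev e1, Fin.rev_rev]
  have n3 : C.N b.rev a.rev = C.N a b := by rw [C.N_neg, C.N_anti, neg_neg]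
  have n4 : C.N c b.rev = C.N a b := by rw [← n1, C.N_anti, ← C.N_neg, Fin.rev_rev]
  have n5 : C.N a.rev c = C.N a b := by rw [← n2, C.N_anti, ← C.N_neg, Fin.rev_rev]
  have a1 := hc.A_eq_one e
  have a2 := hc.A_eq_one (e.trans (add_comm _ _))
  have a3 := ha.rev.A_eq_one e1
  have a4 := ha.rev.A_eq_one (e1.trans (add_comm _ _))
  have a5 := hb.rev.A_eq_one e2
  have a6 := hb.rev.A_eq_one (e2.trans (add_comm _ _))
  { x := fun i j t => S.x (rt3 a b c i j) (sg3 (C.N a b : F) i j * t)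
    add := fun i j s t => by simp only [mul_add, S.x_add]
    comm := fun {i j l} ⟨h1, h2, h3⟩ s t => by
      fin_cases i <;> fin_cases j <;> fin_cases l <;> simp at h1 h2 h3 <;> simp only [rt3, sg3] <;>
        simp
      · exact hc.swap S e _ _
      · rw [ha.swap S e4, n4, mul_assoc _ s, ← mul_assoc, n0, one_mul]
      · rw [hb.swap S e5, n5, mul_left_comm s, ← mul_assoc, n0, one_mul]
      · rw [ha.rev.swap S e1, n1, mul_left_comm s, ← mul_assoc, n0, one_mul]
      · rw [hb.rev.swap S e2, n2, mul_assoc _ s, ← mul_assoc, n0, one_mul]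
      · rw [hc.rev.swap S e3, n3]
    row := fun {i j l} ⟨h1, h2, h3⟩ s t => by
      fin_cases i <;> fin_cases j <;> fin_cases l <;> simp at h1 h2 h3 <;> simp only [rt3, sg3] <;>
        simp
      exacts [(hc.commute S a1.ge _ _).symm, hc.commute S a1.ge _ _, ha.rev.commute S a3.ge _ _,
        (ha.rev.commute S a3.ge _ _).symm, (hb.rev.commute S a5.ge _ _).symm, hb.rev.commute S a5.ge _ _]
    col := fun {i j l} ⟨h1, h2, h3⟩ s t => by
      fin_cases i <;> fin_cases j <;> fin_cases l <;> simp at h1 h2 h3 <;> simp only [rt3, sg3] <;>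
        simp
      exacts [hc.commute S a2.ge _ _, (hb.rev.commute S a6.ge _ _).symm, (hc.commute S a2.ge _ _).symm,
        ha.rev.commute S a4.ge _ _, hb.rev.commute S a6.ge _ _, (ha.rev.commute S a4.ge _ _).symm] }

theorem stA_x (S : Sys C F G) {a b c : Rt D} (ha : Lng C a) (hb : Lng C b)
    (e : C.rc c = C.rc a + C.rc b) (i j : Fin 3) (t : F) :
    (stA S ha hb e).x i j t = S.x (rt3 a b c i j) (sg3 (C.N a b : F) i j * t) := rfl

end Cfsg.Agent.Forms
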