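import Cfsg.Agent.Forms.LieTE
import Cfsg.Agent.Chev.ReflD4
import Cfsg.Agent.Chev.Order
import Cfsg.Agent.Tw.InvTw
import Cfsg.Agent.Tw.OutDE
import Cfsg.Agent.Tw.OutF4

/-!
The order and the minimal degree of `³D₄(q)`.
-/

set_option autoImplicit false

namespace Cfsg.Agent.Forms

open Module Finset Cfsg.Lie Cfsg.Agent.Chev Cfsg.Agent.Tw Equiv Cfsg.Agent.GLn MulAut

variable {D : ChevalleyDatum} {C : Cert D} {F : Type*} [Field F]

theorem wd_eq_iff {f : ℕ → ℕ → ℕ} (hf : ∀ (i : Nd D) (r : Rt D), (C.ss i r : ℕ) = f i r) {a b : List (Nd D)} :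
    C.wd a = C.wd b ↔ ∀ j : Nd D, actN f (a.map Fin.val) (D.simple j) = actN f (b.map Fin.val) (D.simple j) :=
  ⟨fun h j => by rw [← C.sp_val, ← Cert.wd_table hf, ← Cert.wd_table hf, h], fun h =>
    Cert.Aut.eq_of_sp (C.wd_mem_Aut a) (C.wd_mem_Aut b) fun j => Fin.ext (by
      rw [Cert.wd_table hf, Cert.wd_table hf]; exact h j)⟩

theorem ln_wd {f : ℕ → ℕ → ℕ} (hf : ∀ (i : Nd D) (r : Rt D), (C.ss i r : ℕ) = f i r) (a : List (Nd D)) :
    C.ln (C.wd a) = #{r : Rt D | D.nroots ≤ 2 * (r : ℕ) ∧ ¬ D.nroots ≤ 2 * actN f (a.map Fin.val) r} := by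
  rw [Cert.ln]; congr 1; ext r
  simp [C.mem_inv, C.pos_iff_val, Cert.wd_table hf]

/-- The relative Weyl group. -/
def wD4 (i : Fin 12) : List (Nd chevD4) := Cert.toNd chevD4 (![[], [1], [0, 2, 3], [1, 0, 2, 3], [0, 2, 3, 1],
  [1, 0, 2, 3, 1], [0, 2, 3, 1, 0, 2, 3], [1, 0, 2, 3, 1, 0, 2, 3], [0, 2, 3, 1, 0, 2, 3, 1],
  [1, 0, 2, 3, 1, 0, 2, 3, 1], [0, 2, 3, 1, 0, 2, 3, 1, 0, 2, 3], [1, 0, 2, 3, 1, 0, 2, 3, 1, 0, 2, 3]] i)

theorem cj_wD4 (φ : F ≃+* F) (i : Fin 12) : (stbD4 φ).cj (certD4.wd (wD4 i)) = certD4.wd (wD4 i) := by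
  rw [Stb.cj_wd, wd_eq_iff ssD4]
  change ∀ j : Nd chevD4, actN _ (((wD4 i).map triD4.ν).map _) _ = _
  revert i; decide +kernel

theorem exists_wD4 (φ : F ≃+* F) {w : Perm (Rt chevD4)} (hw : w ∈ certD4.W) (h : (stbD4 φ).cj w = w) :
    ∃ i, w = certD4.wd (wD4 i) := by
  refine Stb.fix_induction (P := fun w => ∃ i, w = certD4.wd (wD4 i)) ⟨0, rfl⟩ ?_ hw h
  rintro _ - - i - ⟨j, rfl⟩
  obtain ⟨l, h1, h2, h3⟩ := (by decide +kernel : ∀ i, ∃ l, (∀ a ∈ wD4 l, triD4.nodes.SameCycle i a) ∧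
    (¬ ∀ j : Nd chevD4, actN reflD4 ((wD4 l).map Fin.val) (chevD4.simple j) = chevD4.simple j) ∧ l.1 < 3) i
  rw [← Stb.eq_w0_orb (certD4.wd_mem_WJ h1) (cj_wD4 φ l) fun e => h2 ((wd_eq_iff ssD4 (b := [])).1 e),
    ← certD4.wd_append]
  simp only [wd_eq_iff ssD4]
  clear h1 h2; revert j l; decide +kernel

theorem card_D4 [Finite F] {φ : F ≃+* F} {q : ℕ} (hφ : ∀ t, φ t = t ^ q) (hF : Nat.card F = q ^ 3)
    {K : Subgroup (chevD4.group F)} (hK : (stbD4 φ).Good K) :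
    Nat.card K ∣ q ^ 12 * ((q ^ 3 - 1) ^ 4 * ((1 + q) * (1 + q ^ 3) * (1 + q ^ 4 + q ^ 8))) := by
  classical
  have h := hK.card_P Set.univ
  rw [Sys.P_univ, top_inf_eq, hK.card_B, ← Stb.Uw_w0,
    cardUw_D4 hK hφ hF (certD4.w0_mem_W _) (stbD4 φ).stable_univ.cj_w0,
    show univ.filter (fun w => w ∈ certD4.WJ Set.univ ∧ (stbD4 φ).cj w = w) = univ.image fun i => certD4.wd (wD4 i) by
      ext w
      simp only [mem_filter, mem_univ, true_and, mem_image]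
      exact ⟨fun h => (exists_wD4 φ h.1 h.2).imp fun _ => Eq.symm, by
        rintro ⟨i, rfl⟩; exact ⟨certD4.wd_mem_W _, cj_wD4 φ i⟩⟩,
    sum_image fun a _ b _ e => (by simp only [wd_eq_iff ssD4]; decide +kernel :
      ∀ a b, certD4.wd (wD4 a) = certD4.wd (wD4 b) → a = b) a b e,
    sum_congr rfl fun i _ => (cardUw_D4 hK hφ hF (certD4.wd_mem_W _) (cj_wD4 φ i)).trans (congrArg _
      ((by simp only [ln_wd ssD4]; decide +kernel :
        ∀ i, certD4.ln (certD4.wd (wD4 i)) = ![0, 1, 3, 4, 4, 5, 7, 8, 8, 9, 11, 12] i) i))] at h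
  rw [h, mul_assoc]
  refine mul_dvd_mul (pow_dvd_pow _ ?_) (mul_dvd_mul ((Subgroup.card_dvd_of_le inf_le_left).trans
    (Dvd.intro _ (hF ▸ (certD4.sys F).card_H (certD4.sys_φ_inj F)))) (dvd_of_eq ?_))
  · obtain ⟨i, e⟩ := exists_wD4 φ (certD4.w0_mem_W _) (stbD4 φ).stable_univ.cj_w0
    rw [e, ln_wd ssD4]
    clear e; revert i; decide +kernel
  · simp [Fin.sum_univ_succ]; ring

theorem arith_D4 {q : ℕ} (hq : 2 ≤ q) : ¬ (q - 1) * (q ^ 4 + q ^ 3 + 1) ∣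
    q ^ 12 * ((q ^ 3 - 1) ^ 4 * ((1 + q) * (1 + q ^ 3) * (1 + q ^ 4 + q ^ 8))) := fun h => by
  have h1 := Nat.Coprime.dvd_of_dvd_mul_left (Nat.Coprime.pow_right 12 (by
    rw [show q ^ 4 + q ^ 3 + 1 = 1 + (q ^ 3 + q ^ 2) * q by ring]; simp)) (dvd_of_mul_left_dvd h)
  zify [Nat.one_le_pow 3 q (by omega)] at h1
  rw [show ((q : ℤ) ^ 3 - 1) ^ 4 * ((1 + q) * (1 + q ^ 3) * (1 + q ^ 4 + q ^ 8)) = (q ^ 4 + q ^ 3 + 1) *
    (-18 + 9 * q - 2 * q ^ 2 - 5 * q ^ 3 + 7 * q ^ 4 - 6 * q ^ 5 + 9 * q ^ 6 - 3 * q ^ 7 - 3 * q ^ 8 - 2 * q ^ 10 +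
      5 * q ^ 11 - 3 * q ^ 12 + q ^ 13 + q ^ 14 + q ^ 15 - 3 * q ^ 17 + q ^ 20) + (19 - 8 * q + 2 * q ^ 2 + 20 * q ^ 3)
    by ring, dvd_add_right (dvd_mul_right _ _)] at h1
  by_cases h2 : q < 20
  · interval_cases q <;> norm_num at h1
  obtain ⟨n, rfl⟩ : ∃ n, q = n + 20 := ⟨q - 20, by omega⟩
  have := Int.le_of_dvd (by push_cast; ring_nf; positivity) h1
  refine absurd this (not_le.2 (sub_pos.1 ?_))
  push_cast; ring_nf; positivity

theorem sw2 [CharP F 2] {G : Type*} [Group G] (S : Sys C F G) {r s b : ℕ}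
    (h : (r < D.nroots ∧ s < D.nroots ∧ s ≠ r ∧ s + r + 1 ≠ D.nroots ∧
      (D.commTerms r s = [(b, 1, 1, 1)] ∨ D.commTerms r s = [(b, -1, 1, 1)])) ∧
      b < D.nroots ∧ s < D.nroots ∧ s ≠ b ∧ s + b + 1 ≠ D.nroots ∧ D.commTerms b s = []) (t u : F) (g : G) :
    xi S s u * (xi S r t * g) = xi S r t * (xi S b (t * u) * (xi S s u * g)) := by
  obtain ⟨⟨h1, h2, h3, h4, h5⟩, h6⟩ := h
  rw [← xi_comm S h6, ← mul_assoc]
  rcases h5 with h5 | h5 <;> simp [xi_swap S ⟨h1, h2, h3, h4, h5⟩, wd_cons, wd_nil, mul_assoc, CharTwo.neg_eq]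

theorem conjD4 [CharP F 2] {G : Type*} [Group G] (S : Sys certD4 F G) (a b c : F) :
    wd S [(12, c), (13, b), (18, a)] * xi S 14 1 * (wd S [(12, c), (13, b), (18, a)])⁻¹ =
      wd S [(14, 1), (15, c), (16, b), (17, b * c), (19, a), (20, a * c), (21, a * b), (22, a * b * c)] := by
  rw [mul_inv_eq_iff_eq_mul, ← mul_one (xi S 14 1)]
  simp only [wd_cons, wd_nil, mul_assoc, one_mul]
  rw [sw2 S (r := 14) (s := 18) (b := 19) (by decide +kernel), sw2 S (r := 14) (s := 13) (b := 16) (by decide +kernel),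
    sw2 S (r := 19) (s := 13) (b := 21) (by decide +kernel), sw2 S (r := 14) (s := 12) (b := 15) (by decide +kernel),
    sw2 S (r := 16) (s := 12) (b := 17) (by decide +kernel), sw2 S (r := 19) (s := 12) (b := 20) (by decide +kernel),
    sw2 S (r := 21) (s := 12) (b := 22) (by decide +kernel)]
  simp only [one_mul, mul_assoc]

namespace LR

variable {G : Type*} [Group G] {S : Sys C F G} {k : Type*} [Field k] (R : LR S k)

theorem conj_X_H {z : R.K} (hz : (z : G) ∈ S.H) {s : Rt D} (hs : R.T.ρ s = s) {c : k} (hc : R.ι c = S.chi z s) (u : k) :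
    conj z (R.X s u) = R.X s (c * u) := Subtype.ext (by
  rw [MulAut.conj_apply, Subgroup.coe_mul, Subgroup.coe_mul, Subgroup.coe_inv, R.X_coe hs, R.X_coe hs, Sys.H_conj_x hz,
    map_mul, hc])

theorem tor_three (hd : R.d = 3) (r : Rt D) (c : Fˣ) : ∃ z : R.K, (z : G) ∈ S.H ∧ ∀ s, (S.chi z (R.T.ρ (R.T.ρ s)) : F) =
    c ^ C.A r (R.T.ρ (R.T.ρ s)) * R.φ (c ^ C.A r (R.T.ρ s)) * R.φ (R.φ (c ^ C.A r s)) := by
  have a := S.h_mem r c
  have b := R.T.σ_H a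
  have b' := R.T.σ_H b
  have e : R.T.σ (R.T.σ (R.T.σ (S.h r c))) = S.h r c := by simpa [hd] using R.per (S.h r c)
  refine ⟨⟨S.h r c * R.T.σ (S.h r c) * R.T.σ (R.T.σ (S.h r c)), R.mem _ (by
    rw [map_mul, map_mul, e, S.H_comm R.inj (mul_mem b b') a, mul_assoc])⟩, mul_mem (mul_mem a b) b', fun s => ?_⟩
  rw [S.chi_mul (mul_mem a b) b', S.chi_mul a b, Stb.chi_σ b, Stb.chi_σ a, Stb.chi_σ a]
  simp [S.chi_h, Stb.fu_val, R.f_eq]

variable {V : Type*} [NormedAddCommGroup V] [InnerProductSpace ℂ V] [FiniteDimensional ℂ V]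
  {ρ : Representation ℂ R.K V} {ψ : AddChar k ℂ} [Fintype k]

theorem ell_le_top [Finite G] (hρ : IsUni ρ) (hψ : ψ ≠ 1) {i : Nd D} (hi : R.T.π i = i) {b : Rt D} (h : R.Pt b i) :
    ∃ c ≠ 0, Fintype.card k ^ (C.ht b - 1).toNat * finrank ℂ (R.ell ρ ψ i c) ≤ finrank ℂ (Wx ρ ψ (R.X b) 1) := by
  obtain ⟨w, a1, a2, rfl, a3⟩ := h
  obtain ⟨m, hm, a4⟩ := R.good.ex_over w a1 a2
  have h2 : R.T.ρ (w (C.sp i)) = w (C.sp i) := by rw [R.ρ_apply a2, R.fix_sp.2 hi]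
  obtain ⟨c, hc, b1⟩ := R.map_E (ρ := ρ) (ψ := ψ) (g := ⟨m, hm⟩) a4.acts (R.fix_sp.2 hi) h2
    (A := Lp C (C.sp i) 1) (B := Lp C (w (C.sp i)) w) (fun r hr => ⟨hr.1, by
      rw [← hr.2, ← Cert.Aut.A_map (C.W_le_Aut a1)]; simp⟩) one_ne_zero
  exact ⟨c, hc, le_trans (Nat.mul_le_mul_left _ (finrank_le_of_map ρ _ b1))
    (R.arm_count hρ hψ hi a1 a2 a3 one_ne_zero le_rfl (R.lev_le_Sts h2 (fun r hr => (a3 r hr.1 hr.2).ge) 1))⟩

end LR

namespace StA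

variable {ι k Γ : Type*} [Field k] [Group Γ] {A : StA ι k Γ} {i j l : ι}

theorem mem_of_normal (h : D3 i j l) {N : Subgroup Γ} [hN : N.Normal] (h1 : ∀ t, A.x i j t ∈ N) :
    (∀ t, A.x j i t ∈ N) ∧ (∀ t, A.x i l t ∈ N) ∧ ∀ t, A.x l j t ∈ N :=
  ⟨fun t => by simpa [← MulAut.conj_apply, A.n_ij h] using hN.conj_mem _ (h1 (-t)) (A.n i j 1),
    fun t => by simpa [← MulAut.conj_apply, A.n_li h.p231] using hN.conj_mem _ (h1 (-t)) (A.n j l 1),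
    fun t => by simpa [← MulAut.conj_apply, A.n_il h.p132] using hN.conj_mem _ (h1 (-t)) (A.n i l 1)⟩

end StA

theorem d4Words_sign (q : ℕ) : ∀ w ∈ d4Words F q, wd (certD4.sys F) w ∈ (certD4.sys F).Up ∨
    wd (certD4.sys F) w ∈ (certD4.sys F).Um := by
  rintro w (⟨t, -, r, hr, rfl⟩ | ⟨t, r, hr, rfl⟩) <;> refine wd_pos_or_neg ?_ <;>
    simp only [List.map] <;> revert r <;> decide +kernel

variable [Finite F] {φ : F ≃+* F} {q : ℕ} (hφ : ∀ t, φ t = t ^ q) (hF : Nat.card F = q ^ 3)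

/-- The data for `³D₄`. -/
noncomputable def lrD4 : LR (certD4.sys F) (fixF φ) :=
  lrTw triD4 triD4_ok hφ (d := 2) hF (gen (certD4.sys F) (d4Words F q)) (goodD4 hφ (frob3 hφ hF))
    (fun _ => fixD4 (goodD4 hφ (frob3 hφ hF)) (frob3 hφ hF)) lenD4_eq (by decide +kernel) (by decide +kernel)
    (fun i => (triD4_sp i).2.2) (by decide +kernel) (by decide +kernel)
    fun _ => cardUw_D4 (goodD4 hφ (frob3 hφ hF)) hφ hF

/-- The long root subgroup of type `A₂`. -/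
noncomputable def stD4 : StA (Fin 3) (fixF φ) (lrD4 hφ hF).K :=
  (lrD4 hφ hF).stK (a := ⟨14, by decide⟩) (b := ⟨22, by decide⟩) (c := ⟨23, by decide⟩) rfl rfl
    (funext (by decide +kernel))

theorem stD4_x {i j : Fin 3} (h : i ≠ j) : (stD4 hφ hF).x i j =
    (lrD4 hφ hF).X (rt3 ⟨14, by decide⟩ ⟨22, by decide⟩ ⟨23, by decide⟩ i j) := funext fun t => by
  change (lrD4 hφ hF).X _ (sg3 ((certD4.N ⟨14, by decide⟩ ⟨22, by decide⟩ : ℤ) : fixF φ) i j * t) = _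
  rw [show certD4.N ⟨14, by decide⟩ ⟨22, by decide⟩ = 1 by decide +kernel]
  fin_cases i <;> fin_cases j <;> simp_all [sg3]

theorem top_D4 {N : Subgroup (lrD4 hφ hF).K} [N.Normal] (h : ∀ t, (stD4 hφ hF).x 0 1 t ∈ N) : N = ⊤ := by
  obtain ⟨a1, a2, a3⟩ := StA.mem_of_normal d3_fin h
  obtain ⟨a4, a5, -⟩ := StA.mem_of_normal d3_fin.p132 a2
  obtain ⟨a6, -⟩ := StA.mem_of_normal d3_fin.p321 a3
  refine (lrD4 hφ hF).eq_top_of_long (fun r t => ?_) (gen_of_words _ rfl (d4Words_sign q)) (fun r h => ?_) fun r h => ?_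
  · by_cases h1 : (lrD4 hφ hF).T.ρ r = r
    · obtain ⟨i, j, e, rfl⟩ := (by decide +kernel : ∀ r, triD4.ρ r = r → ∃ i j, i ≠ j ∧
        r = rt3 ⟨14, by decide⟩ ⟨22, by decide⟩ ⟨23, by decide⟩ i j) r h1
      rw [← stD4_x hφ hF e]
      fin_cases i <;> fin_cases j <;> simp_all
    · rw [LR.X, dif_neg h1]; exact one_mem _
  · obtain ⟨b, a, e⟩ := (by decide +kernel : ∀ r : Rt chevD4, 2 * (r : ℕ) < 24 → ∃ b, triD4.ρ b = b ∧
      0 < certD4.ht r - certD4.A b r * certD4.ht b) r (by rw [certD4.pos_iff_val] at h; exact not_le.1 h)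
    exact ⟨b, a, certD4.pos_of_ht (by rwa [ht_refl])⟩
  · obtain ⟨t, ht⟩ := exists_pow_ne F (n := 3) (by norm_num) (hF ▸ lt_of_lt_of_le (by norm_num)
      (Nat.pow_le_pow_left (one_lt_of_card hF) 3))
    obtain ⟨z, z1, z2⟩ := (lrD4 hφ hF).tor_three rfl r (Units.mk0 t (by rintro rfl; simp at ht))
    obtain ⟨e1, e2, e3⟩ := (by decide +kernel : ∀ r, triD4.ρ r ≠ r → triD4.ρ (triD4.ρ (triD4.ρ r)) = r ∧
      certD4.A r (triD4.ρ r) = 0 ∧ certD4.A r (triD4.ρ (triD4.ρ r)) = 0) r h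
    have := z2 (triD4.ρ r)
    change ((certD4.sys F).chi z (triD4.ρ (triD4.ρ (triD4.ρ r))) : F) =
      t ^ certD4.A r (triD4.ρ (triD4.ρ (triD4.ρ r))) * φ (t ^ certD4.A r (triD4.ρ (triD4.ρ r))) * _ at this
    rw [e1, e2, e3, certD4.A_self] at this
    refine ⟨z, z1, fun e => ht ?_⟩
    rw [e] at this
    rw [pow_succ, show t ^ 2 = 1 by simpa using this.symm, one_mul]

theorem mu_D4 {V : Type*} [AddCommGroup V] [Module ℂ V] [FiniteDimensional ℂ V]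
    {ρ : Representation ℂ (lrD4 hφ hF).K V} {ψ : AddChar (fixF φ) ℂ} (c : (fixF φ)ˣ) :
    (stD4 hφ hF).mu ρ ψ ⊤ 0 1 2 1 c = (stD4 hφ hF).mu ρ ψ ⊤ 0 1 2 1 1 := by
  obtain ⟨t, ht⟩ := FiniteField.norm_surjective (fixF φ) F c
  have h0 : t ≠ 0 := by rintro rfl; exact c.ne_zero (by simpa using ht.symm)
  have h1 : t * φ t * φ (φ t) = (c : fixF φ) := by
    have := FiniteField.algebraMap_norm_eq_pow (K := fixF φ) (x := t)
    have h2 := one_lt_of_card hF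
    rw [ht, card_fixF hφ hF, hF, show q ^ 3 - 1 = (q - 1) * (1 + q + q * q) by
      zify [h2.le, Nat.one_le_pow 3 q (by omega)]; ring, Nat.mul_div_cancel_left _ (by omega)] at this
    rw [hφ, hφ, ← pow_mul]
    exact (by rw [pow_add, pow_add, pow_one] : _ = _).trans this.symm
  obtain ⟨z, z1, z2⟩ := (lrD4 hφ hF).tor_three rfl ⟨17, by decide⟩ (Units.mk0 t h0)
  have e : ∀ s, triD4.ρ s = s → ((certD4.sys F).chi z s : F) = (c : fixF φ) ^ certD4.A ⟨17, by decide⟩ s :=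
    fun s hs => by
      have := z2 s
      rw [show (lrD4 hφ hF).T.ρ s = s from hs, show (lrD4 hφ hF).T.ρ s = s from hs] at this
      rw [this, ← h1, mul_zpow, mul_zpow, map_zpow₀, map_zpow₀]; rfl
  simpa using StA.mu_conj (A := stD4 hφ hF) (i := 0) (j := 1) (l := 2) (ψ := ψ) (g := z) (N := ⊤) (fun _ _ => trivial)
    c c 1 (stD4_x hφ hF d3_fin.c ▸ (lrD4 hφ hF).conj_X_H z1 rfl (by
      rw [e _ rfl, show certD4.A _ _ = 1 by decide +kernel, zpow_one]; rfl))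
    (stD4_x hφ hF d3_fin.b ▸ (lrD4 hφ hF).conj_X_H z1 rfl (by
      rw [e _ rfl, show certD4.A _ _ = 1 by decide +kernel, zpow_one]; rfl))
    (stD4_x hφ hF d3_fin.a ▸ (lrD4 hφ hF).conj_X_H z1 rfl (by
      rw [e _ rfl, show certD4.A _ _ = 0 by decide +kernel, zpow_zero]; rfl)) 1 1

theorem two_D4 [CharP F 2] {V : Type*} [NormedAddCommGroup V] [InnerProductSpace ℂ V] [FiniteDimensional ℂ V]
    {ρ : Representation ℂ (lrD4 hφ hF).K V} {ψ : AddChar (fixF φ) ℂ} (hψ : ψ ≠ 1) {M : Submodule ℂ V}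
    (h1 : (lrD4 hφ hF).UK {r | certD4.Pos r} ≤ Sts ρ M) (h2 : M ≤ Wx ρ ψ ((lrD4 hφ hF).X ⟨14, by decide⟩) 1)
    (h3 : M ≤ Wx ρ ψ ((lrD4 hφ hF).X ⟨22, by decide⟩) 1) : M = ⊥ := by
  have h0 := frob3 hφ hF
  obtain ⟨s, hs⟩ := exists_ne_frob (d := 1) hφ hF
  have a1 := fun t => (parD4_s h0 _).2 ⟨t, rfl⟩
  let u : F → (lrD4 hφ hF).K := fun t => ⟨_, (lrD4 hφ hF).mem _ (a1 t).2⟩
  have a2 : ∀ t, u t ∈ Sts ρ M := fun t => h1 ((certD4.sys F).U_mono (by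
    simp only [Set.setOf_subset_setOf, certD4.pos_iff_val]; decide +kernel) (a1 t).1)
  let y := fun t => u t * (lrD4 hφ hF).X ⟨14, by decide⟩ 1 * (u t)⁻¹
  have a3 : ∀ t, ∀ v ∈ M, ρ (y t) v = ψ (1 * 1) • v := fun t v hv => by
    rw [mul_ap, mul_ap, mem_Wx.1 (h2 (inv_mem (a2 t) v hv)), map_smul, ap_inv]
  let L := fun t => [(14, 1), (15, φ (φ t)), (16, φ t), (17, φ t * φ (φ t)), (19, t), (20, t * φ (φ t)), (21, t * φ t),
    (22, t * φ t * φ (φ t))]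
  have a4 : ∀ t, (y t : chevD4.group F) = wd (certD4.sys F) (L t) := fun t => by
    rw [← conjD4, Subgroup.coe_mul, Subgroup.coe_mul, LR.X_coe _ rfl, map_one, ← xi_val]; rfl
  have a5 : ∀ r ∈ {r | 1 ≤ certD4.rc r ⟨1, by decide⟩}, (1 : ℤ) ≤
    (LinearMap.proj (⟨1, by decide⟩ : Nd chevD4) : _ →ₗ[ℤ] ℤ) (certD4.rc r) := fun _ h => h
  have a6 := fun t (r : Rt chevD4) (hr : certD4.rc r ⟨1, by decide⟩ < 2 * 1) =>
    cd_wd (certD4.sys F) zero_le_one a5 hr (w := L t) (fun p hp => (by decide +kernel :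
      ∀ r ∈ [14, 15, 16, 17, 19, 20, 21, 22], ∀ h, 1 ≤ certD4.rc ⟨r, h⟩ ⟨1, by decide⟩) p.1 (List.mem_map_of_mem hp))
  have a7 := fun t => (a6 t ⟨14, by decide⟩ (by decide +kernel)).1
  have a8 : ∀ r : Rt chevD4, certD4.rc r ⟨1, by decide⟩ < 2 * 1 →
      (certD4.sys F).cd r (y 0 * y 1 * y s * y (1 + s) : (lrD4 hφ hF).K) = ∑ t : Fin 4,
        ((L (![0, 1, s, 1 + s] t)).map fun p => if p.1 = (r : ℕ) then p.2 else 0).sum := fun r hr => by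
    simp only [Subgroup.coe_mul, a4, Fin.sum_univ_four]
    rw [Sys.cd_mul _ zero_le_one a5 hr (mul_mem (mul_mem (a7 _) (a7 _)) (a7 _)) (a7 _),
      Sys.cd_mul _ zero_le_one a5 hr (mul_mem (a7 _) (a7 _)) (a7 _), Sys.cd_mul _ zero_le_one a5 hr (a7 _) (a7 _)]
    simp only [(a6 _ r hr).2]; rfl
  obtain ⟨c, hc⟩ := exists_char_ne hψ one_ne_zero
  obtain ⟨t, ht⟩ := (lrD4 hφ hF).heis (b := ⟨22, by decide⟩) (r := ⟨18, by decide⟩) (s := ⟨17, by decide⟩) rfl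
    (funext (by decide +kernel)) (u := y 0 * y 1 * y s * y (1 + s)) (Tw.peel zero_le_one (fun a ha b hb u e => by
      simp only [Set.mem_setOf_eq, e, Pi.add_apply] at *; omega) (Cert.nil_of_fun _ a5) a5 (by
        simp only [Subgroup.coe_mul, a4]
        exact mul_mem (mul_mem (mul_mem (a7 _) (a7 _)) (a7 _)) (a7 _)) fun r hr => by
      rcases (by decide +kernel : ∀ r, 1 ≤ certD4.rc r ⟨1, by decide⟩ → 1 ≤ certD4.A ⟨22, by decide⟩ r ∨
        certD4.rc r ⟨1, by decide⟩ < 2 * 1 ∧ (r : ℕ) ∈ [14, 15, 16, 19]) r hr with h | h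
      · exact Or.inl h
      refine Or.inr ⟨h.1, ?_⟩
      rw [a8 r h.1]
      simp only [List.mem_cons, List.not_mem_nil, or_false] at h
      rcases h.2 with h | h | h | h <;> simp [h, L, Fin.sum_univ_four] <;> grind)
    (by
      rw [a8 _ (by decide +kernel)]
      simp [L, Fin.sum_univ_four]
      intro e; apply hs; apply φ.injective; grind) c
  refine (Submodule.eq_bot_iff _).2 fun v hv => ?_
  have a9 : ∀ v ∈ M, ρ (y 0 * y 1 * y s * y (1 + s)) v = ψ (1 * 1) ^ 4 • v := fun v hv => by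
    simp only [mul_ap, a3 _ v hv, map_smul, smul_smul]; congr 1; ring
  have b1 := h1 (LR.mem_UK.2 ((lrD4 hφ hF).nm_mem (A := {r | certD4.Pos r}) (fun r hr => ((lrD4 hφ hF).T.pos r).2 hr)
    (show certD4.Pos ⟨18, by decide⟩ by rw [certD4.pos_iff_val]; decide) t)) v hv
  generalize y 0 * y 1 * y s * y (1 + s) = g at ht a9
  have := congrArg (ρ · v) ht
  simp only [mul_ap, a9 v hv, mem_Wx.1 (h3 hv), map_smul, a9 _ b1] at this
  rw [smul_comm (ψ (c * 1)), smul_right_inj (pow_ne_zero _ (ψ.val_isUnit _).ne_zero)] at this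
  exact ap_eq_zero.1 (by_contra fun e => hc (smul_left_injective ℂ e (this.symm.trans (one_smul _ _).symm)))

theorem boundD4 {n : ℕ} (ρ : Representation ℂ (twistedD4 F q) (Fin n → ℂ)) (hρ : ρ.IsIrreducible) (hn : 2 ≤ n)
    (hF : Nat.card F = q ^ 3) : q * (q ^ 4 - q ^ 2 + 1) ≤ n := by
  classical
  obtain ⟨φ, hφ⟩ := exists_frob F hF
  have := Fintype.ofFinite (fixF φ)
  obtain ⟨π, a1, a2, -, a3⟩ := exists_uni (Γ := (lrD4 hφ hF).K) (eqD4 F q) ρ hρ hn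
  have hψ := psi_ne_one (fixF φ)
  generalize AddChar.FiniteField.primitiveChar_to_Complex (fixF φ) = ψ at hψ
  have hq : Fintype.card (fixF φ) = q := by rw [← Nat.card_eq_fintype_card, card_fixF hφ hF]
  have hq2 := one_lt_of_card hF
  have hA := StA.inv_top (ρ := π) (A := stD4 hφ hF)
  obtain ⟨c, hc, b1⟩ := (lrD4 hφ hF).ell_le_top a1 hψ (i := ⟨1, by decide⟩) rfl (b := ⟨23, by decide⟩)
    ⟨certD4.wd (wD4 3), certD4.wd_mem_W _, cj_wD4 φ 3, Fin.ext (by rw [Cert.wd_table ssD4]; decide +kernel), by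
      simp only [← certD4.wd_reverse, certD4.pos_iff_val, Cert.wd_table ssD4]; decide +kernel⟩
  obtain ⟨d, hd, v, -, h0, hv⟩ := ((stD4 hφ hF).add 0 1).exists_Wx π hψ (W := ⊤) (fun _ _ _ => trivial)
    fun e => a3 fun g g' v => by
      have := top_D4 hφ hF (N := π.ker) fun t => LinearMap.ext fun v => mem_Wx_zero.1 (e trivial) t
      rw [MonoidHom.mem_ker.1 (this.ge (Subgroup.mem_top g)), MonoidHom.mem_ker.1 (this.ge (Subgroup.mem_top g'))]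
  have b2 := hA.dim_eq' (ψ := ψ) d3_fin.p132 hd hc
  rw [top_inf_eq, top_inf_eq] at b2
  obtain ⟨w, hw, h2⟩ := exists_of_finrank (b2 ▸ Nat.one_le_iff_ne_zero.1 (one_le_finrank hv h0))
  obtain ⟨u, hu, h3⟩ := (lrD4 hφ hF).exists_leg_fix hψ (i := ⟨1, by decide⟩) rfl hc (stD4_x hφ hF d3_fin.a ▸ hw) h2
  have b3 := (Nat.le_mul_of_pos_right _ (one_le_finrank hu h3)).trans b1
  have b4 := hA.dim_heis hψ d3_fin one_ne_zero
  have b5 := hA.dim_heis' hψ d3_fin one_ne_zero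
  have b6 := hA.dim_total hψ d3_fin
  have b7 := hA.sum_mu' hψ d3_fin 1
  have b8 := ((stD4 hφ hF).add 0 2).finrank_eq_add π hψ (N := ⊤) (fun _ _ _ => trivial)
    fun c hc => hA.dim_eq' d3_fin hc one_ne_zero
  rw [sum_eq_add_units, sum_congr rfl fun c _ => mu_D4 hφ hF c, sum_const, card_univ, Fintype.card_units,
    smul_eq_mul] at b7
  rw [show certD4.ht ⟨23, by decide⟩ = 5 by decide +kernel, ← top_inf_eq (Wx _ _ _ _),
    show (lrD4 hφ hF).X ⟨23, by decide⟩ = _ from (stD4_x hφ hF d3_fin.c).symm, b4] at b3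
  rw [b4] at b8
  rw [b4, Nat.mul_right_inj Fintype.card_ne_zero] at b5
  rw [finrank_top, finrank_euclideanSpace_fin, hq] at b6 b8
  rw [hq] at b3 b7
  have b9 := arith_D4 hq2
  have b10 := a2.trans (card_D4 hφ hF (lrD4 hφ hF).good)
  have b11 : q = 2 → finrank ℂ ↥(⊤ ⊓ Wx π ψ ((stD4 hφ hF).x 0 2) 0) ≠
      finrank ℂ ↥(⊤ ⊓ Wx π ψ ((stD4 hφ hF).x 0 2) 0 ⊓ Wx π ψ ((stD4 hφ hF).x 1 2) 1) := by
    rintro rfl e
    have := Fintype.ofFinite F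
    have : CharP F 2 := charP_of_card_eq_prime_pow (by rw [← hF, Nat.card_eq_fintype_card])
    have e1 := Submodule.eq_of_le_of_finrank_eq inf_le_left e.symm
    have e2 := Submodule.eq_of_le_of_finrank_eq inf_le_left (e.trans b5).symm
    have := two_D4 hφ hF hψ (M := ⊤ ⊓ Wx π ψ ((stD4 hφ hF).x 0 2) 0) (fun g hg v hv => ⟨trivial,
      Wx_comm (fun t => Subtype.ext ?_) hv.2⟩) (stD4_x hφ hF d3_fin.a ▸ e2 ▸ inf_le_right)
      (stD4_x hφ hF d3_fin.b ▸ e1 ▸ inf_le_right)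
    · rw [← e, this, finrank_bot] at b3; simp at b3
    · rw [stD4_x hφ hF d3_fin.c, Subgroup.coe_mul, Subgroup.coe_mul, LR.X_coe _ rfl]
      exact commute_U _ (fun r hr s => ((lrD4 hφ hF).commute_x ((by decide +kernel : ∀ r : Rt chevD4,
        24 ≤ 2 * (r : ℕ) → 0 ≤ certD4.A (rt3 ⟨14, by decide⟩ ⟨22, by decide⟩ ⟨23, by decide⟩ 0 2) r) r
          ((certD4.pos_iff_val r).1 hr)) _ _)) hg
  rw [← b5] at b7
  generalize finrank ℂ ↥(⊤ ⊓ Wx π ψ ((stD4 hφ hF).x 0 2) 0 ⊓ Wx π ψ ((stD4 hφ hF).x 1 2) 1) = E at *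
  generalize finrank ℂ ↥(⊤ ⊓ Wx π ψ ((stD4 hφ hF).x 0 2) 0) = M at *
  generalize (stD4 hφ hF).mu π ψ ⊤ 0 1 2 0 0 = a at *
  generalize (stD4 hφ hF).mu π ψ ⊤ 0 1 2 1 0 = b at *
  generalize (stD4 hφ hF).mu π ψ ⊤ 0 1 2 1 1 = m at *
  obtain ⟨r, rfl⟩ : ∃ r, q = r + 2 := ⟨q - 2, by omega⟩
  rw [show (r + 2) ^ 4 - (r + 2) ^ 2 = (r + 2) ^ 2 * ((r + 1) * (r + 3)) from Nat.sub_eq_of_eq_add (by ring)]
  simp only [show r + 2 - 1 = r + 1 from rfl, show Int.toNat (5 - 1) = 4 from rfl] at *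
  obtain ⟨e, rfl⟩ := Nat.exists_eq_add_of_le (Nat.le_of_mul_le_mul_left (pow_succ' (r + 2) 3 ▸ b3) (by omega))
  by_contra h
  rcases e with _ | e
  · rcases b with _ | _ | b
    · obtain rfl : r = 0 := by
        have : r + 1 ∣ (r + 1) * (r ^ 2 + 5 * r + 7) + 1 := ⟨m, by rw [← zero_add (_ * m), ← b7]; ring⟩
        simpa using (Nat.dvd_add_right (dvd_mul_right _ _)).1 this
      refine b9 (.trans (dvd_of_eq ?_) b10)
      have := b11 rfl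
      omega
    · refine b9 (.trans (dvd_of_eq ?_) b10)
      rcases a with _ | a
      · rw [b6]; ring
      · exact absurd (by rw [b6]; ring_nf; omega) h
    · exact h (by rw [b6]; ring_nf; omega)
  · exact h (by rw [b6]; ring_nf; omega)

end Cfsg.Agent.Forms
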