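import Cfsg.Agent.Forms.LieTw

/-!
Weight spaces of long root subgroups: Heisenberg counts and families attached to long roots.
-/

set_option autoImplicit false

namespace Cfsg.Agent.Forms

open Module Finset Cfsg.Lie Cfsg.Agent.Chev Cfsg.Agent.Tw Equiv Cfsg.Agent.GLn MulAut

variable {D : ChevalleyDatum} {C : Cert D} {F : Type*} [Field F] {G : Type*} [Group G]

theorem ht_rev (r : Rt D) : C.ht r.rev = -C.ht r := by simp [Cert.ht, C.rc_rev]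

theorem ht_neg {r : Rt D} (h : ¬ C.Pos r) : C.ht r ≤ -1 := by
  have := C.one_le_ht ((C.pos_rev_iff r).2 h)
  rw [ht_rev] at this; omega

theorem pos_of_ht' {r : Rt D} (h : 0 ≤ C.ht r) : C.Pos r := by_contra fun e => by
  have := ht_neg e; omega

theorem ht_refl (r s : Rt D) : C.ht (C.refl r s) = C.ht s - C.A r s * C.ht r := by
  simp [Cert.ht, C.rc_refl, mul_sum]

theorem ht_ss (j : Nd D) (s : Rt D) : C.ht (C.ss j s) = C.ht s - C.A (C.sp j) s := by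
  rw [C.ss_apply, ht_refl, C.ht_sp, mul_one]

theorem comm_left (S : Sys C F G) {A : Set (Rt D)} {N : Subgroup G} {g : G}
    (h1 : ∀ y ∈ S.U A, ∀ z ∈ N, y⁻¹ * z * y ∈ N)
    (h2 : ∀ a ∈ A, ∀ t, (S.x a t)⁻¹ * g⁻¹ * S.x a t * g ∈ N) {u : G} (hu : u ∈ S.U A) :
    u⁻¹ * g⁻¹ * u * g ∈ N := by
  refine S.U_induction (P := fun u => u⁻¹ * g⁻¹ * u * g ∈ N) (by simp) (fun a ha t y hy ih => ?_) hu
  have := mul_mem (h1 y hy _ (h2 a ha t)) ih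
  simpa [mul_assoc] using this

theorem inv_conj_mem (S : Sys C F G) {A Z : Set (Rt D)} (h1 : C.Closed Z) (h2 : C.Stab A Z)
    (h3 : ∀ r ∈ A, r.rev ∉ Z) : ∀ y ∈ S.U A, ∀ z ∈ S.U Z, y⁻¹ * z * y ∈ S.U Z := fun y hy z hz => by
  simpa using S.U_conj_mem h1 h2 h3 (inv_mem hy) hz

theorem comm_two (S : Sys C F G) {A B Z : Set (Rt D)} (h1 : C.Closed Z) (h2 : C.Stab A Z)
    (h3 : C.Stab B Z) (h4 : ∀ r ∈ A, r.rev ∉ Z) (h5 : ∀ r ∈ B, r.rev ∉ Z)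
    (h6 : ∀ a ∈ A, ∀ b ∈ B, a ≠ b.rev) (h7 : ∀ a ∈ A, ∀ b ∈ B, ∀ u, C.rc u = C.rc b + C.rc a → u ∈ Z)
    {u g : G} (hu : u ∈ S.U A) (hg : g ∈ S.U B) : u⁻¹ * g⁻¹ * u * g ∈ S.U Z := by
  refine comm_left S (inv_conj_mem S h1 h2 h4) (fun a ha t => ?_) hu
  have := comm_left S (g := S.x a t) (inv_conj_mem S h1 h3 h5) (fun b hb s => by
    have := inv_mem (S.comm_mem (h6 a ha b hb) (h7 a ha b hb) (by
      rintro c hc _ (rfl | rfl)
      exacts [h3 c hc _ hb, h2 c hc _ ha]) s t)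
    simpa [mul_assoc] using this) hg
  simpa [mul_assoc] using inv_mem this

theorem ht_le_ln (hl : ∀ r, Lng C r) {w : Perm (Rt D)} (hw : w ∈ C.W) (i : Nd D) :
    C.ht (w (C.sp i)) ≤ C.ln w + 1 := by
  refine Cert.ln_induction_left (P := fun w => C.ht (w (C.sp i)) ≤ C.ln w + 1)
    (by simp [C.ht_sp, C.ln_one]) (fun w hw j hj ih => ?_) hw
  have := (hl (C.sp j)).ge (u := w (C.sp i)) fun e => by
    rw [← Perm.eq_inv_iff_eq, Cert.Aut.map_rev (inv_mem (C.W_le_Aut hw))] at e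
    exact C.not_pos_rev hj (e ▸ C.pos_sp i)
  rw [Cert.Aut.ln_ss_mul_of_pos (C.W_le_Aut hw) hj, Perm.mul_apply, ht_ss]
  push_cast; omega

theorem sp_or_add {r : Rt D} (hr : C.Pos r) : (∃ i, r = C.sp i) ∨
    ∃ a b, C.rc r = C.rc a + C.rc b ∧ C.Pos a ∧ C.Pos b := by
  obtain ⟨i, -, hi⟩ := C.exists_A_pos hr
  refine (em (r = C.sp i)).imp (fun h => ⟨i, h⟩) fun h => ?_
  obtain ⟨u, hu⟩ := C.exists_sub_of_A_pos h hi
  exact ⟨u, C.sp i, by rw [hu, sub_add_cancel], C.sub_sp_nonneg (k := -1) hr h (by rw [hu]; module),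
    C.pos_sp i⟩

theorem two_le_ht {r : Rt D} (hr : C.Pos r) (h : ∀ i, r ≠ C.sp i) : 2 ≤ C.ht r := by
  obtain ⟨a, b, e, ha, hb⟩ := (sp_or_add hr).resolve_left fun ⟨i, e⟩ => h i e
  have := C.ht_add e; have := C.one_le_ht ha; have := C.one_le_ht hb; omega

theorem two_le_ht_of_A {r : Rt D} (hr : C.Pos r) {i : Nd D} (h : C.A (C.sp i) r = 1) : 2 ≤ C.ht r :=
  two_le_ht hr fun j e => by
    by_cases h1 : i = j
    · rw [e, h1, C.A_self] at h; omega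
    · have := C.A_sp_sp_nonpos h1; rw [e] at h; omega

namespace LR

variable {S : Sys C F G} {k : Type*} [Field k] (R : LR S k) {V : Type*} [NormedAddCommGroup V]
  [InnerProductSpace ℂ V] [FiniteDimensional ℂ V] {ρ : Representation ℂ R.K V} {ψ : AddChar k ℂ}

variable (ρ ψ) in
/-- Weight vectors fixed by a unipotent subgroup. -/
noncomputable def E (b : Rt D) (A : Set (Rt D)) (c : k) : Submodule ℂ V :=
  Wx ρ ψ (R.X b) c ⊓ Fx ρ (R.UK A)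

theorem UK_le_Kil (b : Rt D) (A : Set (Rt D)) (c : k) : R.UK A ≤ Kil ρ (R.E ρ ψ b A c) :=
  fun g hg => mem_Kil.2 fun _ hv => hv.2 g hg

theorem mem_Sts_E {b : Rt D} {A Z : Set (Rt D)} {c : k} (hZ : R.UK Z ≤ Kil ρ (R.E ρ ψ b A c)) {g : R.K}
    (h : ∀ a ∈ S.U (insert b A), a⁻¹ * (g : G)⁻¹ * a * g ∈ S.U Z) : g ∈ Sts ρ (R.E ρ ψ b A c) :=
  fun v hv => by
  have e : ∀ a : R.K, (a : G) ∈ S.U (insert b A) → ρ a (ρ g v) = ρ g (ρ a v) := fun a ha => by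
    rw [ap_swap ((swap_of_comm rfl).trans (mul_assoc _ _ _)), mul_ap,
      mem_Kil.1 (hZ (show a⁻¹ * g⁻¹ * a * g ∈ _ from h a ha)) v hv]
  exact ⟨mem_Wx.2 fun t => by rw [e _ (R.X_mem (Set.mem_insert _ _) t), mem_Wx.1 hv.1, map_smul],
    fun a ha => by rw [e a (S.U_mono (Set.subset_insert _ _) ha), hv.2 a ha]⟩

theorem lev_le_Sts {b : Rt D} (hb : R.T.ρ b = b) {A : Set (Rt D)} (hA : ∀ r ∈ A, 1 ≤ C.A b r) (c : k) :
    R.UK A ≤ Sts ρ (Wx ρ ψ (R.X b) c) := fun g hg _ hv => Wx_comm (fun t => Subtype.ext (by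
  simpa [R.X_coe hb] using commute_U S (fun r hr => (R.lng b).commute S (hA r hr) _) hg)) hv

theorem pair [Fintype k] (hψ : ψ ≠ 1) {b : Rt D} (hb : R.T.ρ b = b) {A B : Set (Rt D)} (hA : R.Sb A)
    (hB : C.Closed B) (h1 : ∀ s ∈ B, C.A b s = 1) (h2 : ∀ s ∈ B, ∀ r, C.rc b = C.rc r + C.rc s → r ∈ A)
    {c : k} (hc : c ≠ 0) {W : Submodule ℂ V} (hW : W ≤ Wx ρ ψ (R.X b) c) :
    ∀ u ∈ R.UK B, u ≠ 1 → ∃ a ∈ R.UK A, ∃ z : ℂ, z ≠ 1 ∧ ∀ w ∈ W, ρ a (ρ u w) = z • ρ u (ρ a w) := by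
  intro u hu h0
  have h3 : ∀ s ∈ B, 1 ≤ C.prL b (C.rc s) := fun s hs => by rw [C.prL_rc, h1 s hs]
  obtain ⟨s, hs, h4⟩ : ∃ s ∈ B, S.cd s u ≠ 0 := by
    by_contra! h
    have := peel (B := ∅) zero_le_one hB (Cert.nil_of_fun _ h3) h3 (mem_UK.1 hu) fun s hs =>
      Or.inr ⟨by rw [C.prL_rc, h1 s hs]; omega, h s hs⟩
    rw [S.U_empty, Subgroup.mem_bot, OneMemClass.coe_eq_one] at this
    exact h0 this
  obtain ⟨r, hr⟩ := C.exists_sub_of_A_pos (r := s) (s := b)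
    (fun e => by have := h1 s hs; rw [← e, C.A_self] at this; omega)
    (by rw [(R.lng s).A_symm (R.lng b), h1 s hs]; omega)
  have e : C.rc b = C.rc r + C.rc s := by rw [hr, sub_add_cancel]
  obtain ⟨t, ht⟩ := exists_char_ne hψ hc
  obtain ⟨a, ha⟩ := R.heis hb e (S.U_mono (fun s hs => (h1 s hs).ge) hu) h4 t
  exact ⟨_, R.nm_mem hA (h2 s hs r e) a, _, ht, fun w hw => by
    rw [ap_swap (ha.trans (mul_assoc _ _ _)), mul_ap, mem_Wx.1 (hW hw), map_smul, map_smul]⟩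

theorem scal {b : Rt D} (hb : R.T.ρ b = b) {a u : R.K} (ha : a ∈ R.UK {r | 1 ≤ C.A b r})
    (hu : u ∈ R.UK {r | 1 ≤ C.A b r}) (c : k) :
    ∃ z : ℂ, ∀ w ∈ Wx ρ ψ (R.X b) c, ρ a (ρ u w) = z • ρ u (ρ a w) := by
  have h1 : C.Stab {r | 1 ≤ C.A b r} {b} := by
    rintro _ rfl r hr v e; exact absurd e ((R.lng _).not_add hr v)
  have h2 : ∀ r ∈ {r | 1 ≤ C.A b r}, r.rev ∉ ({b} : Set _) := fun r (hr : 1 ≤ C.A b r) e => by
    have := C.A_rev_right b r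
    rw [e, C.A_self] at this; omega
  obtain ⟨t, ht⟩ := S.mem_U_singleton.1 (comm_two S (Cert.closed_singleton b) h1 h1 h2 h2
    (fun r (hr : 1 ≤ C.A b r) s (hs : 1 ≤ C.A b s) => ne_rev_of_A (C := C) (b := b) (by omega))
    (fun r (hr : 1 ≤ C.A b r) s (hs : 1 ≤ C.A b s) v e => by_contra fun h => by
      have := (R.lng b).le h; have := A_add' e b; omega) (mem_UK.1 ha) (mem_UK.1 hu))
  obtain ⟨s, -, hs⟩ := R.exists_X hb (g := a⁻¹ * u⁻¹ * a * u) ht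
  exact ⟨_, fun w hw => by
    rw [ap_swap ((swap_of_comm hs).trans (mul_assoc _ _ _)), mul_ap, mem_Wx.1 hw, map_smul, map_smul]⟩

/-- The legs at a root. -/
def Lp (C : Cert D) (b : Rt D) (w : Perm (Rt D)) : Set (Rt D) := {r | C.Pos (w⁻¹ r) ∧ C.A b r = 1}

theorem exists_leg_fix [Fintype k] [Finite G] (hψ : ψ ≠ 1) {i : Nd D} (hi : R.T.π i = i) {c : k}
    (hc : c ≠ 0) {v : V} (hv : v ∈ Wx ρ ψ (R.X (C.sp i)) c) (h0 : v ≠ 0) :
    ∃ w ∈ R.E ρ ψ (C.sp i) (Lp C (C.sp i) 1) c, w ≠ 0 := by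
  have hb := R.fix_sp.2 hi
  refine heis_ne (B := R.UK {r | ¬ C.Pos r ∧ C.A (C.sp i) r = 1})
    (R.lev_le_Sts hb (fun r hr => hr.2.ge) c) (R.lev_le_Sts hb (fun r hr => hr.2.ge) c)
    (fun a ha u hu => R.scal hb (R.UK_mono (fun r hr => hr.2.ge) ha)
      (R.UK_mono (fun r hr => hr.2.ge) hu) c)
    (R.pair (A := {r | ¬ C.Pos r ∧ C.A (C.sp i) r = 1}) hψ hb (fun r hr => ⟨by rw [R.T.pos]; exact hr.1, by rw [R.A_fix hb, hr.2]⟩)
      (fun a ha r hr u e => ?_) (fun r hr => hr.2) (fun s hs r e => ⟨fun h => ?_,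
        (R.lng _).A_eq_one e⟩) hc le_rfl) hv h0
  · have h1 := A_add' e (C.sp i)
    have h2 := C.ht_add e
    have := C.one_le_ht ha.1; have := C.one_le_ht hr.1
    have h3 : u = C.sp i := by_contra fun h => by have := (R.lng _).le h; rw [ha.2, hr.2] at h1; omega
    rw [h3, C.ht_sp] at h2; simp only [inv_one, Perm.coe_one, id] at *; omega
  · have h2 := C.ht_add e
    have := C.one_le_ht h; have := C.one_le_ht hs.1
    rw [C.ht_sp] at h2; simp only [inv_one, Perm.coe_one, id] at *; omega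

/-- A chain from a simple root to a positive root. -/
def Pt (b : Rt D) (i : Nd D) : Prop := ∃ w ∈ C.W, R.T.cj w = w ∧ w (C.sp i) = b ∧
  ∀ r, C.Pos r → ¬ C.Pos (w⁻¹ r) → C.A b r = 1

theorem ρ_apply {w : Perm (Rt D)} (h : R.T.cj w = w) (r : Rt D) : R.T.ρ (w r) = w (R.T.ρ r) := by
  rw [← R.T.cj_apply, h]

theorem cj_inv {w : Perm (Rt D)} (h : R.T.cj w = w) : R.T.cj w⁻¹ = w⁻¹ := by rw [R.T.cj_inv, h]

theorem arm_count [Fintype k] [Finite G] (hρ : IsUni ρ) (hψ : ψ ≠ 1) {i : Nd D} (hi : R.T.π i = i)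
    {w : Perm (Rt D)} (hw : w ∈ C.W) (h1 : R.T.cj w = w)
    (h2 : ∀ r, C.Pos r → ¬ C.Pos (w⁻¹ r) → C.A (w (C.sp i)) r = 1) {c : k} (hc : c ≠ 0)
    {W : Submodule ℂ V} (hW : W ≤ Wx ρ ψ (R.X (w (C.sp i))) c)
    (hW' : R.UK {r | C.Pos r ∧ ¬ C.Pos (w⁻¹ r)} ≤ Sts ρ W) :
    Fintype.card k ^ (C.ht (w (C.sp i)) - 1).toNat *
      finrank ℂ ↥(W ⊓ Fx ρ (R.UK (Lp C (w (C.sp i)) w))) ≤ finrank ℂ W := by
  have hb : R.T.ρ (w (C.sp i)) = w (C.sp i) := by rw [R.ρ_apply h1, R.fix_sp.2 hi]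
  have h3 := C.W_le_Aut (inv_mem hw)
  refine le_trans (Nat.mul_le_mul_right _ ?_) (heis_card hρ hW' (R.pair (A := Lp C _ w) hψ hb
    (fun r hr => ⟨by rw [← R.ρ_apply (R.cj_inv h1), R.T.pos]; exact hr.1, by rw [R.A_fix hb, hr.2]⟩)
    (Cert.closed_inv h3) (fun r hr => h2 r hr.1 hr.2) (fun s hs r e => ⟨?_, (R.lng _).A_eq_one e⟩) hc hW))
  · rw [card_UK, ← Sys.Uw, R.card _ (inv_mem hw) (R.cj_inv h1), Nat.card_eq_fintype_card,
      Cert.Aut.ln_inv (C.W_le_Aut hw)]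
    have := ht_le_ln R.lng hw i
    exact Nat.pow_le_pow_right Fintype.card_pos (by omega)
  · have a1 := C.ht_add (Cert.Aut.map_add h3 e)
    have := ht_neg hs.2
    rw [show w⁻¹ (w (C.sp i)) = C.sp i by simp, C.ht_sp] at a1
    exact pos_of_ht' (by omega)

theorem pt_sp (i : Nd D) : R.Pt (C.sp i) i := ⟨1, one_mem _, R.T.cj_one, rfl, fun _ h h' => (h' h).elim⟩

/-- The type of the diagram automorphism. -/
def Inv2 : Prop := ∀ j, R.T.π j = j ∨ (R.T.π (R.T.π j) = j ∧ C.A (C.sp j) (C.sp (R.T.π j)) = 0)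

theorem exists_refl (h : R.Inv2) (j : Nd D) : ∃ s ∈ C.W, R.T.cj s = s ∧ s⁻¹ = s ∧
    s (C.sp j) = (C.sp j).rev ∧ (∀ r, C.Pos r → ¬ C.Pos (s r) → r = C.sp j ∨ r = C.sp (R.T.π j)) ∧
    ∃ m : ℤ, 0 < m ∧ ∀ r, R.T.ρ r = r → C.ht (s r) = C.ht r - m * C.A (C.sp j) r := by
  rcases h j with h | ⟨h, h'⟩
  · exact ⟨C.ss j, C.ss_mem_W j, by rw [R.T.cj_ss, h], C.ss_inv j, C.ss_sp j,
      fun r h1 h2 => Or.inl (C.eq_sp_of_not_pos_ss h1 h2), 1, one_pos, fun r _ => by rw [ht_ss, one_mul]⟩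
  have e1 : C.ss (R.T.π j) (C.sp j) = C.sp j := C.refl_of_A_zero (C.A_eq_zero_comm.1 h')
  have e2 : C.ss (R.T.π j) * C.ss j = C.ss j * C.ss (R.T.π j) := by
    rw [Cert.ss.eq_1 C j, Cert.Aut.mul_sr (C.ss_mem_Aut _), e1]
  refine ⟨C.ss j * C.ss (R.T.π j), mul_mem (C.ss_mem_W _) (C.ss_mem_W _),
    by rw [R.T.cj_mul, R.T.cj_ss, R.T.cj_ss, h, e2], by rw [mul_inv_rev, C.ss_inv, C.ss_inv, e2],
    by rw [Perm.mul_apply, e1, C.ss_sp], fun r h1 h2 => ?_, 2, two_pos, fun r hr => ?_⟩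
  · by_cases h3 : C.Pos (C.ss (R.T.π j) r)
    · exact Or.inl (by rw [← C.ss_ss (R.T.π j) r, C.eq_sp_of_not_pos_ss h3 h2, e1])
    · exact Or.inr (C.eq_sp_of_not_pos_ss h1 h3)
  · have e3 : C.A (C.sp (R.T.π j)) r = C.A (C.sp j) r := by rw [← R.T.sp, ← hr, R.A_ρ, hr]
    rw [Perm.mul_apply, ht_ss, ht_ss, e3, ← e1, Cert.Aut.A_map (C.ss_mem_Aut _), e1]; ring

theorem Pt.step {R : LR S k} {b : Rt D} {i j : Nd D} (h : R.Pt b i) {s : Perm (Rt D)} (h1 : s ∈ C.W)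
    (h2 : R.T.cj s = s) (h3 : s⁻¹ = s) (hb : R.T.ρ (s b) = s b) (h4 : C.A (C.sp j) (s b) = 1)
    (h5 : ∀ r, C.Pos r → ¬ C.Pos (s r) → r = C.sp j ∨ r = C.sp (R.T.π j)) : R.Pt (s b) i := by
  obtain ⟨w, a1, a2, rfl, a4⟩ := h
  refine ⟨s * w, mul_mem h1 a1, by rw [R.T.cj_mul, h2, a2], rfl, fun r b1 b2 => ?_⟩
  by_cases b3 : C.Pos (s r)
  · rw [mul_inv_rev, h3] at b2
    rw [← a4 _ b3 b2, ← Cert.Aut.A_map (C.W_le_Aut h1) _ (s r), ← Perm.mul_apply s s r]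
    nth_rw 3 [← h3]
    rw [inv_mul_cancel]; rfl
  · rcases h5 r b1 b3 with rfl | rfl
    · rw [(R.lng _).A_symm (R.lng _), h4]
    · rw [← R.T.sp, R.A_fix hb, (R.lng _).A_symm (R.lng _), h4]

theorem exists_pt (h : R.Inv2) {b : Rt D} (h1 : C.Pos b) (h2 : R.T.ρ b = b) :
    ∃ i, R.T.π i = i ∧ R.Pt b i := by
  induction hn : (C.ht b).toNat using Nat.strong_induction_on generalizing b with
  | _ n ih =>
  obtain ⟨j, -, hj⟩ := C.exists_A_pos h1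
  by_cases e : b = C.sp j
  · subst e; exact ⟨j, R.fix_sp.1 h2, R.pt_sp j⟩
  obtain ⟨s, a1, a2, a3, a4, a5, m, a6, a7⟩ := R.exists_refl h j
  have b0 : s (s b) = b := by nth_rw 1 [← a3]; simp
  have b1 : C.A (C.sp j) b = 1 := ((R.lng _).le e).antisymm hj
  have b2 : C.Pos (s b) := by_contra fun f => e ((a5 b h1 f).elim id fun f => by
    rw [← R.T.sp] at f; exact R.T.ρ.injective (h2.trans f))
  have := a7 b h2
  have := C.one_le_ht b2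
  obtain ⟨i, c1, c2⟩ := ih _ (by rw [b1] at *; omega) b2 (by rw [R.ρ_apply a2, h2]) rfl
  exact ⟨i, c1, b0 ▸ c2.step a1 a2 a3 (b0.symm ▸ h2) (b0.symm ▸ b1) a5⟩

theorem pt_top (h : R.Inv2) {i : Nd D} (hi : R.T.π i = i) : R.Pt C.top i := by
  have key : ∀ b, C.Pos b → R.T.ρ b = b → R.Pt b i → R.Pt C.top i := fun b => by
    induction hn : (C.ht C.top - C.ht b).toNat using Nat.strong_induction_on generalizing b with
    | _ n ih =>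
    intro h1 h2 h3
    by_cases e : C.Dom b
    · exact e.eq_of_len C.dom_top (R.len _ _) ▸ h3
    obtain ⟨j, hj⟩ := not_forall.1 e
    obtain ⟨s, a1, a2, a3, a4, a5, m, a6, a7⟩ := R.exists_refl h j
    have b1 : C.A (C.sp j) b = -1 := by
      have := (R.lng (C.sp j)).ge (u := b) fun f => C.not_pos_rev (C.pos_sp j) (f ▸ h1)
      omega
    have := a7 b h2
    have := C.one_le_ht h1
    have : C.ht (s b) ≤ C.ht C.top := sum_le_sum fun i _ => C.rc_le_top _ i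
    have b2 : R.T.ρ (s b) = s b := by rw [R.ρ_apply a2, h2]
    refine ih _ (by rw [b1] at *; omega) _ rfl (pos_of_ht' (by rw [b1] at *; omega)) b2
      (h3.step a1 a2 a3 b2 ?_ a5)
    rw [← Cert.Aut.A_map (C.W_le_Aut a1), a4, C.A_rev_left, ← Perm.mul_apply]
    nth_rw 1 [← a3]
    rw [inv_mul_cancel, Perm.one_apply, b1, neg_neg]
  exact key _ (C.pos_sp i) (R.fix_sp.2 hi) (R.pt_sp i)

theorem map_E {g : R.K} {w : Perm (Rt D)} (hg : S.Acts g w) {b : Rt D} (h : R.T.ρ b = b)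
    (h' : R.T.ρ (w b) = w b) {A B : Set (Rt D)} (hA : ∀ r ∈ B, w⁻¹ r ∈ A) {c : k} (hc : c ≠ 0) :
    ∃ d ≠ 0, ∀ v ∈ R.E ρ ψ b A d, ρ g v ∈ R.E ρ ψ (w b) B c := by
  obtain ⟨a, ha⟩ := R.conj_X hg h h'
  exact ⟨a * c, mul_ne_zero a.ne_zero hc, fun v hv => ⟨by simpa using Wx_conj a ha hv.1,
    map_mem_Fx (fun u hu => mem_UK.2 (hg.inv_conj_mem hA hu)) hv.2⟩⟩

end LR

end Cfsg.Agent.Forms
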