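import Cfsg.Agent.Forms.StA2
import Cfsg.Agent.Forms.LieA2
import Cfsg.Agent.Chev.ReflG2
import Cfsg.Agent.Chev.Gen
import Cfsg.Agent.Tw.Twist
import Cfsg.Agent.Tw.OutF4

/-!
Representations of `G₂(q)`: characteristic different from three.
-/

set_option autoImplicit false

namespace Cfsg.Agent.Forms

open Module Finset Cfsg.Lie Cfsg.Agent.Chev Cfsg.Agent.Tw Cfsg.Agent.GLn MulAut

theorem dvd_sum_of_inv {Γ : Type*} [Group Γ] [Fintype Γ] (C : Subgroup Γ) {f : Γ → ℕ}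
    (h : ∀ g, ∀ c ∈ C, f (g * c) = f g) : Nat.card C ∣ ∑ g, f g := by
  classical
  have := Fintype.ofFinite (Γ ⧸ C)
  rw [← sum_fiberwise univ (QuotientGroup.mk (s := C))]
  refine dvd_sum fun a _ => ⟨f a.out, ?_⟩
  rw [sum_congr rfl (g := fun _ => f a.out) fun c hc => by
    rw [← h a.out _ (QuotientGroup.eq.1 (a.out_eq'.trans (mem_filter.1 hc).2.symm)), mul_inv_cancel_left], sum_const,
    smul_eq_mul, ← Nat.card_congr (Subgroup.leftCosetEquivSubgroup a.out), ← Nat.card_eq_finsetCard]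
  congr 1
  exact Nat.card_congr (Equiv.subtypeEquivRight fun c => by
    rw [mem_filter, mem_leftCoset_iff, SetLike.mem_coe, ← QuotientGroup.eq, QuotientGroup.out_eq']; simp [eq_comm])

variable {F : Type*} [Field F] {G : Type*} [Group G]

theorem x_mem_normal {D : ChevalleyDatum} {C : Cert D} (S : Sys C F G) {N : Subgroup G} [hN : N.Normal] {r s : Rt D}
    (h : ∀ t, S.x r t ∈ N) (e : C.len r = C.len s) (t : F) : S.x s t ∈ N := by
  obtain ⟨w, hw, rfl⟩ := Cert.exists_conj_of_len e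
  obtain ⟨m, hm⟩ := S.exists_over hw
  obtain ⟨c, hc⟩ := hm.acts r
  have := hN.conj_mem _ (h ((c⁻¹ : Fˣ) * t)) m
  rwa [hc, Units.mul_inv_cancel_left] at this

variable (S : Sys certG2 F G)

theorem xi_ad (r : ℕ) : Ad1 (xi S r) := fun s t => (xi_add S r s t).symm

theorem xi_cm {r s : ℕ} (h : r < 12 ∧ s < 12 ∧ s ≠ r ∧ s + r + 1 ≠ 12 ∧ chevG2.commTerms r s = []) (t u : F) :
    xi S s u * xi S r t = xi S r t * xi S s u := by simpa using xi_comm S h t u 1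

theorem sw79 (t u : F) : xi S 9 u * xi S 7 t = xi S 7 t * (xi S 9 u * xi S 10 (u * (-3 * t))) := by
  rw [xi_swap S (L := [(10, 3, 1, 1)]) (by decide +kernel)]
  simp only [List.map, wd_cons, wd_nil, mul_one]; congr 3; push_cast; ring

theorem sw89 (t u : F) : xi S 9 u * xi S 8 t = xi S 8 t * (xi S 9 u * xi S 11 (u * (-3 * t))) := by
  rw [xi_swap S (L := [(11, 3, 1, 1)]) (by decide +kernel)]
  simp only [List.map, wd_cons, wd_nil, mul_one]; congr 3; push_cast; ring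

theorem sw67 (t u : F) : xi S 7 u * xi S 6 t = xi S 6 t * (xi S 7 u * (xi S 8 (u * -t) * (xi S 9 (-(t * u ^ 2)) *
    (xi S 10 (u ^ 3 * t) * xi S 11 (u ^ 3 * (-2 * t ^ 2)))))) := by
  rw [xi_swap S (L := [(8, 1, 1, 1), (9, 1, 1, 2), (10, -1, 1, 3), (11, -2, 2, 3)]) (by decide +kernel)]
  simp only [List.map, wd_cons, wd_nil, mul_one]
  congr 2
  refine xi_congr (by push_cast; ring) (xi_congr (by push_cast; ring) (xi_congr (by push_cast; ring) ?_))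
  congr 1; push_cast; ring

/-- The long root subgroup of type `A₂`. -/
noncomputable def stG2 : StA (Fin 3) F G :=
  stA S (a := ⟨6, by decide⟩) (b := ⟨10, by decide⟩) (c := ⟨11, by decide⟩) (by unfold Lng; decide +kernel)
    (by unfold Lng; decide +kernel) (funext (by decide +kernel))

theorem stG2_x {i j : Fin 3} (h : i ≠ j) : (stG2 S).x i j =
    S.x (rt3 ⟨6, by decide⟩ ⟨10, by decide⟩ ⟨11, by decide⟩ i j) := funext fun t => by
  rw [stG2, stA_x, show certG2.N ⟨6, by decide⟩ ⟨10, by decide⟩ = 1 by decide +kernel]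
  fin_cases i <;> fin_cases j <;> simp_all [sg3]

theorem stG2_01 : (stG2 S).x 0 1 = xi S 6 := (stG2_x S d3_fin.a).trans (funext fun t => (xi_val S _ t).symm)
theorem stG2_12 : (stG2 S).x 1 2 = xi S 10 := (stG2_x S d3_fin.b).trans (funext fun t => (xi_val S _ t).symm)
theorem stG2_02 : (stG2 S).x 0 2 = xi S 11 := (stG2_x S d3_fin.c).trans (funext fun t => (xi_val S _ t).symm)

theorem top_G2 {c : F} (h0 : c ≠ 0) (h1 : c ≠ 1) {N : Subgroup G} [hN : N.Normal] (h : ∀ t, xi S 11 t ∈ N) :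
    N = ⊤ := by
  have a1 := fun r e => x_mem_normal S (r := ⟨11, by decide⟩) (s := r) (fun t => xi_val S ⟨11, _⟩ t ▸ h t) e
  have a2 : ∀ a u, u ≠ 0 → xi S 8 a * xi S 9 (a * u) ∈ N := fun a u hu => by
    have b1 : xi S 6 (-(a / u)) ∈ N := xi_eq S (r := 6) (by decide) _ ▸ a1 _ (by decide +kernel) _
    have b2 := mul_mem (hN.conj_mem _ (inv_mem b1) (xi S 7 u)⁻¹) b1
    rw [inv_inv, mul_assoc, mul_assoc, sw67, inv_mul_cancel_left, inv_mul_cancel_left, ← mul_assoc,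
      mul_mem_cancel_right (mul_mem (xi_eq S (r := 10) (by decide) _ ▸ a1 _ (by decide +kernel) _) (h _))] at b2
    convert b2 using 3 <;> field_simp
  have a3 : ∀ t, S.x ⟨9, by decide⟩ t ∈ N := fun t => by
    have := mul_mem (inv_mem (a2 (t / (c - 1)) 1 one_ne_zero)) (a2 (t / (c - 1)) c h0)
    rw [mul_inv_rev, mul_assoc, inv_mul_cancel_left, xi_inv, xi_add] at this
    convert this using 1
    rw [← xi_val]; congr 1
    have := sub_ne_zero.2 h1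
    field_simp; ring
  exact S.eq_top_of fun r => ((by decide +kernel : ∀ r, certG2.len ⟨11, by decide⟩ = certG2.len r ∨
    certG2.len ⟨9, by decide⟩ = certG2.len r) r).elim (a1 r) (x_mem_normal S a3)

theorem conj_h (r : Rt chevG2) (c : Fˣ) {s : ℕ} {n : ℤ} (h : ∃ h : s < 12, certG2.A r ⟨s, h⟩ = n) (u : F) :
    conj (S.h r c) (xi S s u) = xi S s ((c ^ n : Fˣ) * u) := by
  rw [xi_eq S h.1, xi_eq S h.1, conj_apply, Sys.H_conj_x (S.h_mem r c), S.chi_h, h.2]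

variable [Fintype F] {V : Type*} [NormedAddCommGroup V] [InnerProductSpace ℂ V] [FiniteDimensional ℂ V]
  {ρ : Representation ℂ G V} {ψ : AddChar F ℂ}

theorem pos_G2 (hψ : ψ ≠ 1) (hq : 2 < Fintype.card F) (hnc : ¬ ∀ g h v, ρ g (ρ h v) = ρ h (ρ g v)) :
    1 ≤ finrank ℂ (Wx ρ ψ (xi S 11) 1) := by
  obtain ⟨c, hc⟩ := exists_pow_ne F (n := 2) one_lt_two (by rwa [Nat.card_eq_fintype_card])
  obtain ⟨d, hd, v, -, h0, hv⟩ := (xi_ad S 11).exists_Wx ρ hψ (W := ⊤) (fun _ _ _ => trivial)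
    fun e => hnc fun g g' v => by
      have := top_G2 S (c := c) (by rintro rfl; simp at hc) (by rintro rfl; simp at hc) (N := ρ.ker) fun t =>
        LinearMap.ext fun v => mem_Wx_zero.1 (e trivial) t
      rw [MonoidHom.mem_ker.1 (this.ge (Subgroup.mem_top g)), MonoidHom.mem_ker.1 (this.ge (Subgroup.mem_top g'))]
  have := (StA.inv_top (ρ := ρ) (A := stG2 S)).dim_eq' (ψ := ψ) d3_fin hd one_ne_zero
  rw [top_inf_eq, top_inf_eq, stG2_02] at this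
  exact this ▸ one_le_finrank hv h0

theorem central_G2 (hρ : IsUni ρ) (hψ : ψ ≠ 1) (h3 : (3 : F) ≠ 0) {ω : Fˣ} (hω : ω ^ 3 = 1) (hω' : ω ≠ 1)
    (h1 : finrank ℂ (Wx ρ ψ (xi S 11) 1) = Fintype.card F * Fintype.card F)
    (h2 : (stG2 S).mu ρ ψ ⊤ 0 1 2 1 0 = 1) : 2 ≤ (stG2 S).mu ρ ψ ⊤ 0 1 2 0 0 := by
  classical
  by_contra h4
  have a1 : ∀ i j, i ≠ j → ∀ t, S.h ⟨9, by decide⟩ ω * (stG2 S).x i j t = (stG2 S).x i j t * S.h ⟨9, by decide⟩ ω :=
    fun i j h t => by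
      obtain ⟨n, hn⟩ := (by decide +kernel : ∀ i j, 3 ∣ certG2.A ⟨9, by decide⟩
        (rt3 ⟨6, by decide⟩ ⟨10, by decide⟩ ⟨11, by decide⟩ i j)) i j
      rw [← mul_inv_eq_iff_eq_mul, stG2_x S h, Sys.H_conj_x (S.h_mem _ _), S.chi_h, hn, zpow_mul, zpow_ofNat, hω]
      simp
  obtain ⟨v, hv, h0⟩ := exists_of_finrank (h2 ▸ one_ne_zero : (stG2 S).mu ρ ψ ⊤ 0 1 2 1 0 ≠ 0)
  obtain ⟨z, hz⟩ := exists_smul_of_line h2.le hv h0 (w := ρ (S.h ⟨9, by decide⟩ ω) v)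
    ⟨⟨⟨trivial, Wx_comm (fun t => (a1 _ _ d3_fin.c t).symm) hv.1.1.2⟩, Wx_comm (fun t => (a1 _ _ d3_fin.b t).symm) hv.1.2⟩,
      Wx_comm (fun t => (a1 _ _ d3_fin.a t).symm) hv.2⟩
  have hN : (stG2 S).Inv ρ (End.eigenspace (ρ (S.h ⟨9, by decide⟩ ω)) z) := fun i j h t w hw =>
    End.mem_eigenspace_iff.2 (by rw [ap_swap (a1 i j h t), End.mem_eigenspace_iff.1 hw, map_smul])
  have a2 : 1 ≤ (stG2 S).mu ρ ψ (End.eigenspace (ρ (S.h ⟨9, by decide⟩ ω)) z) 0 1 2 1 0 :=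
    one_le_finrank ⟨⟨⟨End.mem_eigenspace_iff.2 hz, hv.1.1.2⟩, hv.1.2⟩, hv.2⟩ h0
  have a3 := hN.dim_heis' hψ d3_fin one_ne_zero
  rw [hN.sum_mu' hψ d3_fin, stG2_02] at a3
  have a4 := Submodule.eq_of_le_of_finrank_le (inf_le_right (a := End.eigenspace (ρ (S.h ⟨9, by decide⟩ ω)) z)
    (b := Wx ρ ψ (xi S 11) 1)) (by
      rw [h1, a3]
      refine Nat.mul_le_mul_left _ ((by simp : Fintype.card F = ∑ _ : F, 1).trans_le (sum_le_sum fun c _ => ?_))
      by_cases hc : c = 0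
      · exact hc ▸ a2
      · exact StA.gen_weight' hρ hψ d3_fin hN one_ne_zero hc a2 (le_trans (Submodule.finrank_mono
          (inf_le_inf_right _ (inf_le_inf_right _ (inf_le_inf_right _ le_top)))) (Nat.le_of_lt_succ (not_le.1 h4))))
  have a5 : ∀ w ∈ Wx ρ ψ (xi S 11) 1, ρ (S.h ⟨9, by decide⟩ ω) w = z • w := fun w hw =>
    End.mem_eigenspace_iff.1 (a4.ge hw).1
  have a6 : ∀ t, ∀ w ∈ Wx ρ ψ (xi S 11) 1, ρ (xi S 8 t) w = w := fun t w hw => by
    have b1 := sub_ne_zero.2 (mt Units.val_eq_one.1 hω')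
    have b2 := a5 _ (Wx_comm (fun s => xi_cm S (by decide +kernel) (t / (ω - 1)) s) hw : ρ (xi S 8 _) w ∈ _)
    rw [ap_swap (conj_swap (conj_h S _ ω (n := 1) (by decide +kernel) _)), a5 w hw, map_smul,
      smul_right_inj (by rintro rfl; exact h0 (ap_eq_zero.1 (by simpa using hz))), zpow_one,
      show ω * (t / (ω - 1)) = t / (ω - 1) + t by field_simp; ring, xi_ad, mul_ap] at b2
    exact ap_inj _ b2
  obtain ⟨w, hw, w0⟩ := exists_of_finrank (h1 ▸ mul_ne_zero Fintype.card_ne_zero Fintype.card_ne_zero :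
    finrank ℂ (Wx ρ ψ (xi S 11) 1) ≠ 0)
  obtain ⟨t, ht⟩ := exists_char_ne hψ one_ne_zero
  have a7 := congrArg (ρ · w) (sw89 S (-t / 3) 1)
  simp only [mul_ap, a6 _ w hw, mem_Wx.1 hw, map_smul, a6 _ _ (Wx_comm (fun s => xi_cm S (by decide +kernel) 1 s) hw :
    ρ (xi S 9 1) w ∈ _)] at a7
  refine ht (.trans ?_ (smul_left_injective ℂ (mt ap_eq_zero.1 w0) ((one_smul _ _).trans a7)).symm)
  congr 1; field_simp

omit [Fintype F] in
theorem mu_G2 (s c : Fˣ) : (stG2 S).mu ρ ψ ⊤ 0 1 2 1 (c * s ^ 3 : Fˣ) = (stG2 S).mu ρ ψ ⊤ 0 1 2 1 c := by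
  have := StA.mu_conj (A := stG2 S) (i := 0) (j := 1) (l := 2) (ρ := ρ) (ψ := ψ) (N := ⊤) (g := S.h ⟨9, by decide⟩ s)
    (fun _ _ => trivial) (s ^ (3 : ℤ)) (s ^ (3 : ℤ)) (s ^ (0 : ℤ))
    (by rw [stG2_02]; exact conj_h S _ _ (by decide +kernel)) (by rw [stG2_12]; exact conj_h S _ _ (by decide +kernel))
    (by rw [stG2_01]; exact conj_h S _ _ (by decide +kernel)) 1 c
  rwa [zpow_zero, zpow_ofNat, Units.val_one, mul_one, ← Units.val_mul, mul_comm] at this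

include S in
theorem bound_G2 (hρ : IsUni ρ) (hψ : ψ ≠ 1) (h3 : (3 : F) ≠ 0) (hq : 4 < Fintype.card F)
    (hnc : ¬ ∀ g h v, ρ g (ρ h v) = ρ h (ρ g v)) : Fintype.card F ^ 3 - 1 ≤ finrank ℂ V ∧
      (Fintype.card F % 3 = 1 → Fintype.card F ^ 3 + 1 ≤ finrank ℂ V) := by
  classical
  have hA := StA.inv_top (ρ := ρ) (A := stG2 S)
  have b1 := pos_G2 S hψ (by omega) hnc
  have b4 := hA.dim_heis hψ d3_fin one_ne_zero
  have b5 := hA.dim_heis' hψ d3_fin one_ne_zero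
  have b6 := hA.dim_total hψ d3_fin
  have b7 := hA.sum_mu' hψ d3_fin 1
  have b8 := heis_mul hψ (xi_ad S 9) (N := ⊤ ⊓ Wx ρ ψ (xi S 11) 0 ⊓ Wx ρ ψ (xi S 10) 1) (fun t v hv =>
    ⟨⟨trivial, Wx_comm (fun s => xi_cm S (by decide +kernel) t s) hv.1.2⟩,
      Wx_comm (fun s => xi_cm S (by decide +kernel) t s) hv.2⟩) (fun e => ⟨xi S 7 (-e / 3), fun v hv =>
    ⟨⟨trivial, Wx_comm (fun s => xi_cm S (by decide +kernel) _ s) hv.1.2⟩,
      Wx_comm (fun s => xi_cm S (by decide +kernel) _ s) hv.2⟩, fun t v hv => by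
      rw [← mul_ap, sw79, mul_ap, mul_ap, mem_Wx.1 hv.2, map_smul, map_smul]
      congr 2; field_simp⟩) 0
  rw [b4, Nat.mul_right_inj Fintype.card_ne_zero] at b5
  rw [← b5, sum_eq_add_units] at b7
  rw [finrank_top] at b6
  rw [stG2_02, stG2_12, b8] at b4 b6 b7
  rw [top_inf_eq] at b4
  have b2 : Fintype.card F % 3 = 1 → finrank ℂ (Wx ρ ψ (xi S 11) 1) = Fintype.card F * Fintype.card F →
      (stG2 S).mu ρ ψ ⊤ 0 1 2 1 0 = 1 → 2 ≤ (stG2 S).mu ρ ψ ⊤ 0 1 2 0 0 := fun h => by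
    have : Fact (Nat.Prime 3) := ⟨Nat.prime_three⟩
    obtain ⟨ω, hω⟩ := exists_prime_orderOf_dvd_card (G := Fˣ) 3 (by rw [Fintype.card_units]; omega)
    exact central_G2 S hρ hψ h3 (hω ▸ pow_orderOf_eq_one ω) (by rintro rfl; simp at hω)
  obtain ⟨s, hs⟩ := exists_pow_ne F (n := 4) (by norm_num) (by rwa [Nat.card_eq_fintype_card])
  have s0 : s ≠ 0 := by rintro rfl; simp at hs
  have b3 := dvd_sum_of_inv (Subgroup.zpowers (Units.mk0 s s0 ^ 3)) (f := fun c : Fˣ => (stG2 S).mu ρ ψ ⊤ 0 1 2 1 c) (by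
    rintro c _ ⟨n, rfl⟩
    simp only [← mu_G2 S (Units.mk0 s s0 ^ n) c, ← zpow_natCast, ← zpow_mul, mul_comm n])
  have b9 := (Subgroup.zpowers (Units.mk0 s s0 ^ 3)).card_subgroup_dvd_card
  have b10 : Nat.card (Subgroup.zpowers (Units.mk0 s s0 ^ 3)) ≠ 1 := fun e => hs (by
    rw [Nat.card_zpowers, orderOf_eq_one_iff, Units.ext_iff] at e
    rw [pow_succ, show s ^ 3 = 1 from e, one_mul])
  rw [Nat.card_units, Nat.card_eq_fintype_card (α := F)] at b9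
  simp only [b4] at b1 b2
  clear b4 b5 b8
  generalize finrank ℂ ↥(⊤ ⊓ Wx ρ ψ (xi S 11) 0 ⊓ Wx ρ ψ (xi S 10) 1 ⊓ Wx ρ ψ (xi S 9) 0) = e at *
  generalize (stG2 S).mu ρ ψ ⊤ 0 1 2 0 0 = a at *
  generalize (stG2 S).mu ρ ψ ⊤ 0 1 2 1 0 = b at *
  generalize Fintype.card F = q at *
  obtain ⟨r, rfl⟩ : ∃ r, q = r + 5 := ⟨q - 5, by omega⟩
  simp only [show r + 5 - 1 = r + 4 from rfl] at *
  rw [b6, tsub_le_iff_right]
  rcases e with _ | _ | e
  · simp at b1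
  · rcases b with _ | _ | b
    · rw [zero_add, mul_one, zero_add] at b7
      exact absurd (Nat.dvd_one.1 ((Nat.dvd_add_right b9).1 (b7 ▸ b3 : _ ∣ r + 4 + 1))) b10
    · refine ⟨by ring_nf; omega, fun h => ?_⟩
      have := b2 h (by simp) rfl
      ring_nf; omega
    · constructor <;> intros <;> ring_nf <;> omega
  · constructor <;> intros <;> ring_nf <;> omega

end Cfsg.Agent.Forms
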