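import Cfsg.Agent.Forms.LieFam
import Cfsg.Agent.Tw.BN

/-!
Representations in which the weight spaces of long root subgroups are minimal.
-/

set_option autoImplicit false

namespace Cfsg.Agent.Forms

open Module Finset Cfsg.Lie Cfsg.Agent.Chev Cfsg.Agent.Tw Equiv Cfsg.Agent.GLn MulAut

variable {D : ChevalleyDatum} {C : Cert D} {F : Type*} [Field F] {G : Type*} [Group G]

namespace LR

variable {S : Sys C F G} {k : Type*} [Field k] (R : LR S k) {V : Type*} [NormedAddCommGroup V]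
  [InnerProductSpace ℂ V] [FiniteDimensional ℂ V] {ρ : Representation ℂ R.K V} {ψ : AddChar k ℂ}

theorem nm_of_torus {M : Subgroup R.K} {z : R.K} (hz : (z : G) ∈ S.H) {r : Rt D} (h : S.chi z r ≠ 1)
    (h' : ∀ t, z * R.nm r t * z⁻¹ * (R.nm r t)⁻¹ ∈ M) (t : F) : R.nm r t ∈ M := by
  have := h' (t / (S.chi z r - 1))
  rwa [R.nm_conj hz, ← Ad1.neg (R.nm_add r), ← R.nm_add, ← sub_eq_add_neg, ← sub_one_mul,
    mul_div_cancel₀ _ (sub_ne_zero.2 (Units.val_eq_one.not.2 h))] at this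

theorem nOf_coe {r : Rt D} (h : R.T.ρ r = r) (t : kˣ) :
    ((nOf (R.X r) (R.X r.rev) t : R.K) : G) = S.n r (Units.map (R.ι : k →* F) t) := by
  simp [nOf, Sys.n, R.X_coe h, R.X_coe (R.fix_rev h)]

theorem eq_top_of_long [Finite F] {N : Subgroup R.K} [N.Normal] (hX : ∀ r t, R.X r t ∈ N)
    (gen : ∀ M, R.UK {r | C.Pos r} ≤ M → R.UK {r | ¬ C.Pos r} ≤ M → M = ⊤)
    (neg : ∀ r, ¬ C.Pos r → ∃ b, R.T.ρ b = b ∧ C.Pos (C.refl b r))
    (hz : ∀ r, R.T.ρ r ≠ r → ∃ z : R.K, (z : G) ∈ S.H ∧ S.chi z r ≠ 1) : N = ⊤ := by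
  obtain ⟨m, hm, h0⟩ := R.good.ex_w0
  have h1 := R.T.stable_univ.cj_w0
  have key : ∀ M, N ≤ M → R.UK {r | C.Pos r} ≤ M → M = ⊤ := fun M hM hU => gen M hU fun u hu => by
    have := R.UK_le (A := {r | C.Pos r}) (fun r hr => (R.T.pos r).2 hr) Cert.closed_pos (fun _ h => h)
      (M := M.comap (conj (⟨m, hm⟩ : R.K)).toMonoidHom) (fun r hr t => ?_)
      (show (⟨m, hm⟩ : R.K)⁻¹ * u * ⟨m, hm⟩ ∈ _ from h0.acts.inv_conj_mem (fun r hr => by
        rw [Cert.w0_inv]; exact Cert.pos_w0_univ_iff.2 hr) hu)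
    · simpa [mul_assoc] using this
    obtain ⟨b, b1, b2⟩ := neg (C.w0 Set.univ r) fun h => Cert.pos_w0_univ_iff.1 h hr
    have a1 : nOf (R.X b) (R.X b.rev) 1 ∈ M := hM (mul_mem (mul_mem (hX _ _) (hX _ _)) (hX _ _))
    have a2 : nOf (R.X b) (R.X b.rev) 1 * (⟨m, hm⟩ * R.nm r t * (⟨m, hm⟩ : R.K)⁻¹) *
        (nOf (R.X b) (R.X b.rev) 1)⁻¹ ∈ R.UK {r | C.Pos r} := by
      have := ((S.acts_n b 1).mul h0.acts).conj_mem (T' := {r | C.Pos r}) (fun s hs =>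
        (R.Ob_inv (f := fun s => C.Pos (C.refl b (C.w0 Set.univ s))) (fun s => by
          rw [← R.ρ_apply h1, ← b1, ← Cert.Aut.map_refl R.aut, R.T.pos, b1]) hs).ge b2)
        (R.nm_mem (R.sb_Ob r) (R.mem_Ob r) t)
      simpa [mem_UK, R.nOf_coe b1, mul_assoc] using this
    simpa [mul_assoc] using mul_mem (mul_mem (inv_mem a1) (hU a2)) a1
  refine key N le_rfl (R.UK_le (fun r hr => (R.T.pos r).2 hr) Cert.closed_pos (fun _ h => h) fun r _ t => ?_)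
  by_cases h : R.T.ρ r = r
  · obtain ⟨s, hs⟩ := R.nm_eq_X h t
    exact hs ▸ hX r s
  obtain ⟨z, z1, z2⟩ := hz r h
  obtain ⟨p, hp⟩ := CharP.exists F
  have : Fact p.Prime := ⟨CharP.char_is_prime F p⟩
  obtain ⟨u, hu, n, hn, e⟩ := Subgroup.mem_sup_of_normal_right.1
    ((key _ le_sup_right le_sup_left).ge (Subgroup.mem_top z))
  obtain ⟨a, ha⟩ := S.isPGroup_Up p ⟨u, hu⟩
  have z3 : z ∈ N := by
    rw [← QuotientGroup.eq_one_iff]
    refine (pow_eq_one_iff_of_coprime ((Sys.coprime_card_sub_one F p).pow_left a)).1 ⟨?_, ?_⟩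
    · rw [← e, QuotientGroup.mk_mul, (QuotientGroup.eq_one_iff n).2 hn, mul_one, ← QuotientGroup.mk_pow,
        show u ^ p ^ a = 1 from Subtype.ext (congrArg (fun x : S.Up => (x : G)) ha), QuotientGroup.mk_one]
    · rw [← QuotientGroup.mk_pow, show z ^ (Nat.card F - 1) = 1 from Subtype.ext (S.eq_of_chi R.inj
        (pow_mem z1 _) (one_mem _) fun i => by
          rw [Subgroup.coe_pow, Sys.chi_pow z1, ← Nat.card_units, pow_card_eq_one', OneMemClass.coe_one,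
            Sys.chi_one]), QuotientGroup.mk_one]
  exact R.nm_of_torus z1 z2 (fun t => by
    simpa [mul_assoc] using mul_mem z3 (‹N.Normal›.conj_mem _ (inv_mem z3) (R.nm r t))) t

theorem X_mem_of_pt {N : Subgroup R.K} [N.Normal] {b : Rt D} {i : Nd D} (hi : R.T.π i = i)
    (h : R.Pt b i) : (∀ t, R.X b t ∈ N) ↔ ∀ t, R.X (C.sp i) t ∈ N := by
  obtain ⟨w, h1, h2, rfl, -⟩ := h
  obtain ⟨m, hm, h3⟩ := R.good.ex_over w h1 h2
  obtain ⟨a, ha⟩ := R.conj_X (g := ⟨m, hm⟩) h3.acts (R.fix_sp.2 hi) (by rw [R.ρ_apply h2, R.fix_sp.2 hi])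
  refine ⟨fun h t => by
    simpa [← ha, mul_assoc] using ‹N.Normal›.conj_mem _ (h (a * t)) (⟨m, hm⟩ : R.K)⁻¹, fun h t => ?_⟩
  rw [← Units.mul_inv_cancel_left a t, ← ha]
  exact ‹N.Normal›.conj_mem _ (h _) _

theorem X_mem_of_sp (h : R.Inv2) {N : Subgroup R.K} [N.Normal] {i : Nd D} (hi : R.T.π i = i)
    (hX : ∀ t, R.X (C.sp i) t ∈ N) (r : Rt D) (t : k) : R.X r t ∈ N := by
  have key : ∀ r, C.Pos r → R.T.ρ r = r → ∀ t, R.X r t ∈ N := fun r h1 h2 => by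
    obtain ⟨j, hj, h3⟩ := R.exists_pt h h1 h2
    exact (R.X_mem_of_pt hj h3).2 ((R.X_mem_of_pt hj (R.pt_top h hj)).1
      ((R.X_mem_of_pt hi (R.pt_top h hi)).2 hX))
  by_cases h2 : R.T.ρ r = r
  swap
  · simp [X, h2]
  refine (C.pos_or_pos_rev r).elim (fun h1 => key r h1 h2 t) fun h1 => ?_
  obtain ⟨a, ha⟩ := R.conj_X (g := nOf (R.X r) (R.X r.rev) 1) (R.nOf_coe h2 1 ▸ S.acts_n r _)
    (R.fix_rev h2) (by rwa [C.sr_apply, C.refl_self_rev])
  rw [C.sr_apply, C.refl_self_rev] at ha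
  rw [← Units.mul_inv_cancel_left a t, ← ha]
  exact ‹N.Normal›.conj_mem _ (key _ h1 (R.fix_rev h2) _) _

theorem X_mem_Kil {N : Submodule ℂ V} (hN : finrank ℂ N ≤ 1) {b r s : Rt D} (hb : R.T.ρ b = b)
    (e : C.rc b = C.rc r + C.rc s) (h1 : ∀ t, R.nm r t ∈ Sts ρ N) (h2 : ∀ t, R.nm s t ∈ Sts ρ N)
    (c : k) : R.X b c ∈ Kil ρ N := by
  have a1 := (R.lng b).A_eq_one (e.trans (add_comm _ _))
  obtain ⟨t, ht⟩ := R.exists_cd_nm (f := C.prL b) (fun r => by rw [C.prL_rc, C.prL_rc, R.A_fix hb])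
    (r := s) (by rw [C.prL_rc, a1]; omega) (c := 1) fun _ => map_one _
  obtain ⟨u, hu⟩ := R.heis hb e (R.nm_mem (A := {a | 1 ≤ C.A b a})
    (fun r hr => by simpa [R.A_fix hb] using hr) a1.ge t) (ht ▸ one_ne_zero) c
  have := comm_mem_Kil hN (h1 u) (h2 t)
  rwa [mul_assoc, hu, ← mul_assoc, ← mul_inv_rev, inv_mul_cancel, one_mul] at this

/-- Roots stabilising the legs. -/
def Al (C : Cert D) (i : Nd D) (r : Rt D) : Prop := C.A (C.sp i) r = 0 ∧ -1 ≤ C.ht r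

/-- Simple roots which are sums of allowed roots. -/
def Gd (C : Cert D) (i j : Nd D) : Prop := ∃ r s, C.rc (C.sp j) = C.rc r + C.rc s ∧
  (Al C i r ∨ 0 < C.ht r) ∧ (Al C i s ∨ 0 < C.ht s)

/-- The combinatorial data. -/
structure KD : Prop where
  inv2 : R.Inv2
  d1 : ∀ i, R.T.π i = i → ∀ b, R.T.ρ b = b → 2 ≤ C.ht b → C.A (C.sp i) b = 0 →
    ∃ r s, C.rc b = C.rc r + C.rc s ∧ Al C i r ∧ Al C i s
  d2 : ∀ i, R.T.π i = i → ∀ b, R.T.ρ b = b → 1 ≤ C.rc b i → C.A (C.sp i) b = -1 →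
    ∃ r s, C.rc b = C.rc r + C.rc s ∧ R.T.ρ r = r ∧ R.T.ρ s = s ∧ 0 < C.ht r ∧ 0 < C.ht s
  d3 : ∀ i j, R.T.π i = i → R.T.π j = j → i ≠ j → Gd C i j ∨ Gd C j i
  tor : ∀ r, R.T.ρ r ≠ r → ∃ z : R.K, (z : G) ∈ S.H ∧ S.chi z r ≠ 1 ∧
    ∀ s, R.T.ρ s = s → S.chi z s = 1
  gen : ∀ M, R.UK {r | C.Pos r} ≤ M → R.UK {r | ¬ C.Pos r} ≤ M → M = ⊤
  neg : ∀ r, ¬ C.Pos r → ∃ b, R.T.ρ b = b ∧ C.Pos (C.refl b r)

variable (ρ ψ) in
/-- The lines at the simple roots. -/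
noncomputable def ell (i : Nd D) (c : k) : Submodule ℂ V := R.E ρ ψ (C.sp i) (Lp C (C.sp i) 1) c

theorem leg_cases {i : Nd D} {a : Rt D} (h : a ∈ insert (C.sp i) (Lp C (C.sp i) 1)) :
    1 ≤ C.ht a ∧ 1 ≤ C.A (C.sp i) a ∧ 1 ≤ C.rc a i := by
  rcases h with rfl | h
  · simp [C.ht_sp, C.A_self, C.rc_sp_apply]
  refine ⟨C.one_le_ht h.1, h.2.ge, by_contra fun e => ?_⟩
  have h1 := h.2
  have h2 : C.rc a i = 0 := by have := h.1 i; simp only [inv_one, Perm.one_apply] at this; omega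
  rw [C.A_eq_sum'] at h1
  refine absurd h1.ge (not_le.2 (lt_of_le_of_lt (sum_nonpos fun j _ => ?_) one_pos))
  by_cases h3 : i = j
  · rw [← h3, h2, zero_mul]
  · exact mul_nonpos_of_nonneg_of_nonpos (h.1 j) (C.A_sp_sp_nonpos h3)

variable {R}

theorem KD.kill1 (H : R.KD) {i : Nd D} (hi : R.T.π i = i) {c : k} (hl : finrank ℂ (R.ell ρ ψ i c) ≤ 1) :
    R.UK {r | C.Pos r} ≤ Sts ρ (R.ell ρ ψ i c) ∧ R.UK {r | 2 ≤ C.ht r} ≤ Kil ρ (R.ell ρ ψ i c) ∧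
    (∀ r, C.Pos r → R.T.ρ r ≠ r → ∀ t, R.nm r t ∈ Kil ρ (R.ell ρ ψ i c)) ∧
    ∀ j, R.T.π j = j → Gd C i j → ∀ t, R.X (C.sp j) t ∈ Kil ρ (R.ell ρ ψ i c) := by
  have hb := R.fix_sp.2 hi
  have lg := R.lng (C.sp i)
  have a2 : ∀ u, 2 ≤ C.A (C.sp i) u → C.ht u = 1 := fun u h => by
    rw [show u = C.sp i from by_contra fun e => by have := lg.le e; omega, C.ht_sp]
  have k0 : R.UK (Lp C (C.sp i) 1) ≤ Kil ρ (R.ell ρ ψ i c) := R.UK_le_Kil _ _ _
  have s0 : ∀ r, Al C i r → ∀ t, R.nm r t ∈ Sts ρ (R.ell ρ ψ i c) := fun r hr t => by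
    refine R.mem_Sts_E k0 fun a ha => comm_two S (B := {r | Al C i r}) (fun a ha b hb u e => ?_)
      (fun a ha b hb u e => ?_) (fun a ha b hb u e => ?_) (fun a ha e => ?_) (fun a ha e => ?_)
      (fun a ha b hb e => ?_) (fun a ha b hb u e => ?_) ha
      (R.nm_mem (A := {r | Al C i r})
        (fun r hr => ⟨by rw [R.A_fix hb, hr.1], by rw [R.ht_ρ]; exact hr.2⟩) hr t)
    · have := leg_cases (Or.inr ha); have := leg_cases (Or.inr hb)
      have := a2 u; have := A_add' e (C.sp i); have := C.ht_add e; omega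
    · have := leg_cases (Or.inr ha); have := leg_cases hb
      have := a2 u; have := A_add' e (C.sp i); have := C.ht_add e; omega
    · have := leg_cases (Or.inr ha); have := C.ht_add e; have := hb.2
      exact ⟨pos_of_ht' (by simp only [inv_one, Perm.one_apply]; omega), by rw [A_add' e, ha.2, hb.1]; rfl⟩
    · have := leg_cases ha; have := e.2; rw [C.A_rev_right] at this; omega
    · have := ha.1; have := e.2; rw [C.A_rev_right] at this; omega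
    · have := leg_cases ha; have := hb.1; rw [e, C.A_rev_right] at *; omega
    · rcases ha with rfl | ha
      · exact absurd (C.rc_inj (a₁ := u) (a₂ := C.sp i) (congrArg C.rc (by_contra fun f => by
          have := lg.le f; have := A_add' e (C.sp i); have := hb.1; rw [C.A_self] at *; omega)))
          fun f => C.rc_ne_zero b (by rw [f] at e; simpa using e)
      · have := leg_cases (Or.inr ha); have := C.ht_add e; have := hb.2
        exact ⟨pos_of_ht' (by simp only [inv_one, Perm.one_apply]; omega),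
          by rw [A_add' e, ha.2, hb.1]; rfl⟩
  have kz : ∀ r, R.T.ρ r ≠ r → (∀ t, R.nm r t ∈ Sts ρ (R.ell ρ ψ i c)) →
      ∀ t, R.nm r t ∈ Kil ρ (R.ell ρ ψ i c) := fun r hr h => by
    obtain ⟨z, z1, z2, z3⟩ := H.tor r hr
    have : z ∈ Sts ρ (R.ell ρ ψ i c) := fun v hv => ⟨Wx_comm (fun t => Subtype.ext (by
      simpa [R.X_coe hb, z3 _ hb] using
        (mul_inv_eq_iff_eq_mul.1 (Sys.H_conj_x z1 (C.sp i) (R.ι t))).symm))
      hv.1, map_mem_Fx (fun u hu => mem_UK.2 (Sys.H_inv_conj_U z1 hu)) hv.2⟩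
    exact R.nm_of_torus z1 z2 fun t => by simpa using comm_mem_Kil hl (inv_mem this) (inv_mem (h t))
  have kx : ∀ {M : Subgroup R.K} {r}, R.T.ρ r = r → (∀ t, R.X r t ∈ M) → ∀ t, R.nm r t ∈ M :=
    fun h h' t => by obtain ⟨s, hs⟩ := R.nm_eq_X h t; exact hs ▸ h' s
  have c1 : C.Closed {r | 2 ≤ C.ht r ∧ 0 ≤ C.A (C.sp i) r} := fun a ha b hb u e => by
    have := ha.1; have := ha.2; have := hb.1; have := hb.2
    exact ⟨by rw [C.ht_add e]; omega, by rw [A_add' e]; omega⟩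
  have k1 : R.UK {r | 2 ≤ C.ht r ∧ 0 ≤ C.A (C.sp i) r} ≤ Kil ρ (R.ell ρ ψ i c) := by
    refine R.UK_le (fun r hr => by simpa [R.ht_ρ, R.A_fix hb] using hr) c1
      (fun r hr => pos_of_ht' (by have := hr.1; omega)) fun r hr => ?_
    have := hr.1; have := hr.2; have := a2 r
    by_cases e : C.A (C.sp i) r = 0
    · by_cases e1 : R.T.ρ r = r
      · obtain ⟨a, b, e2, h1, h2⟩ := H.d1 i hi r e1 hr.1 e
        exact kx e1 (R.X_mem_Kil hl e1 e2 (s0 a h1) (s0 b h2))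
      · exact kz r e1 (s0 r ⟨e, by omega⟩)
    · exact fun t => k0 (R.nm_mem (A := Lp C (C.sp i) 1) (fun r hr => ⟨(R.T.pos r).2 hr.1, by rw [R.A_fix hb, hr.2]⟩)
        ⟨pos_of_ht' (by simp only [inv_one, Perm.one_apply]; omega), by omega⟩ t)
  have s1 : ∀ r, R.T.ρ r = r → 0 < C.ht r → ∀ t, R.nm r t ∈ Sts ρ (R.ell ρ ψ i c) := fun r h1 h2 =>
    kx h1 fun t => R.mem_Sts_E k1 fun a ha => comm_left S (inv_conj_mem S c1 (fun a ha b hb u e => by
      have := ha.1; have := ha.2; have := leg_cases hb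
      exact ⟨by rw [C.ht_add e]; omega, by rw [A_add' e]; omega⟩) fun a ha e => by
        have := leg_cases ha; have := e.1; rw [ht_rev] at this; omega) (fun a ha s => by
      have := leg_cases ha
      have e1 : a ≠ r.rev := fun e => by rw [e, ht_rev] at this; omega
      rw [R.X_coe h1]
      by_cases e : ∃ u, C.rc u = C.rc r + C.rc a
      · obtain ⟨u, e⟩ := e
        rw [S.comm_simple e ((R.lng u).not_add ((R.lng u).A_eq_one e).ge)
          ((R.lng u).not_add ((R.lng u).A_eq_one (e.trans (add_comm _ _))).ge)]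
        have := lg.ge (u := r) fun e => by rw [e, ht_rev, C.ht_sp] at h2; omega
        exact S.x_mem_U (by exact ⟨by rw [C.ht_add e]; omega, by rw [A_add' e]; omega⟩) _
      · rw [mul_assoc, ← S.commute_of_not_add e1 (not_exists.1 e)]; simp) ha
  have c2 : ∀ h, C.Stab {r | C.Pos r} {r | 1 ≤ C.rc r i ∧ h ≤ C.ht r} := fun h a ha b hb u e => by
    have := ha.1; have := ha.2; have := hb i; have := C.one_le_ht hb
    exact ⟨by rw [e, Pi.add_apply]; omega, by rw [C.ht_add e]; omega⟩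
  have p2 : ∀ {h}, ∀ r ∈ {r | 1 ≤ C.rc r i ∧ h ≤ C.ht r}, C.Pos r := fun r hr => Cert.pos_of_coord_pos hr.1
  have s2 : ∀ h, 1 ≤ h → R.UK {r | 1 ≤ C.rc r i ∧ h + 1 ≤ C.ht r} ≤ Kil ρ (R.ell ρ ψ i c) →
      R.UK {r | h ≤ C.ht r} ≤ Sts ρ (R.ell ρ ψ i c) := fun h h1 h2 g hg =>
    R.mem_Sts_E h2 fun a ha => comm_two S (B := {r | h ≤ C.ht r}) ((c2 _).mono p2)
      ((c2 _).mono fun r hr => C.pos_of_ht (leg_cases hr).1)
      ((c2 _).mono fun r hr => C.pos_of_ht (h1.trans hr))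
      (fun r hr e => C.not_pos_rev (C.pos_of_ht (leg_cases hr).1) (p2 _ e))
      (fun r hr e => C.not_pos_rev (C.pos_of_ht (h1.trans hr)) (p2 _ e))
      (fun a ha b hb e => C.not_pos_rev (C.pos_of_ht (h1.trans hb)) (e ▸ C.pos_of_ht (leg_cases ha).1))
      (fun a ha b (hb : h ≤ C.ht b) u e => by
        have := leg_cases ha; have := C.pos_of_ht (h1.trans hb) i
        exact ⟨by rw [e, Pi.add_apply]; omega, by rw [C.ht_add e]; omega⟩) ha hg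
  have sb : ∀ h, R.Sb {r | h ≤ C.ht r} := fun h r hr => by simpa [R.ht_ρ] using hr
  have k2 : ∀ h, 2 ≤ h → R.UK {r | 1 ≤ C.rc r i ∧ h ≤ C.ht r} ≤ Kil ρ (R.ell ρ ψ i c) := fun h => by
    induction hn : (C.ht C.top + 1 - h).toNat using Nat.strong_induction_on generalizing h with
    | _ n ih =>
    refine fun h2 => R.UK_le (fun r hr => by
      exact ⟨by have := R.rc_ρ r i; rw [hi] at this; exact this ▸ hr.1, sb h r hr.2⟩) ((c2 _).mono p2) p2 fun r hr => ?_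
    have := hr.2
    by_cases e1 : R.T.ρ r = r
    · refine kx e1 fun t => ?_
      by_cases e2 : 0 ≤ C.A (C.sp i) r
      · exact k1 (R.X_mem (by exact ⟨by omega, e2⟩) t)
      have := lg.ge (u := r) fun e => by rw [e, ht_rev, C.ht_sp] at this; omega
      obtain ⟨a, b, e3, h3, h4, h5, h6⟩ := H.d2 i hi r e1 hr.1 (by omega)
      exact R.X_mem_Kil hl e1 e3 (s1 a h3 h5) (s1 b h4 h6) t
    · have : C.ht r ≤ C.ht C.top := sum_le_sum fun i _ => C.rc_le_top _ i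
      exact kz r e1 fun t => s2 h (by omega) (ih _ (by omega) _ rfl (by omega)) (R.nm_mem (sb h) hr.2 t)
  have s3 : ∀ r, 0 < C.ht r → ∀ t, R.nm r t ∈ Sts ρ (R.ell ρ ψ i c) := fun r hr t =>
    s2 1 le_rfl (k2 2 le_rfl) (R.nm_mem (sb 1) hr t)
  refine ⟨(R.UK_mono fun r hr => C.one_le_ht hr).trans (s2 1 le_rfl (k2 2 le_rfl)),
    R.UK_le (sb 2) (fun a (ha : 2 ≤ C.ht a) b (hb : 2 ≤ C.ht b) u e =>
      show 2 ≤ C.ht u by rw [C.ht_add e]; omega) (fun r (hr : 2 ≤ C.ht r) => pos_of_ht' (by omega)) fun r (hr : 2 ≤ C.ht r) => ?_,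
    fun r h1 h2 => kz r h2 (s3 r (C.one_le_ht h1)), fun j hj ⟨r, s, e, h1, h2⟩ =>
      R.X_mem_Kil hl (R.fix_sp.2 hj) e (h1.elim (s0 r) (s3 r)) (h2.elim (s0 s) (s3 s))⟩
  by_cases e1 : R.T.ρ r = r
  · obtain ⟨a, b, e, h1, h2⟩ := (sp_or_add (C := C) (r := r) (pos_of_ht' (by omega))).resolve_left fun ⟨j, e⟩ => by
      rw [e, C.ht_sp] at hr; omega
    exact kx e1 (R.X_mem_Kil hl e1 e (s3 a (C.one_le_ht h1)) (s3 b (C.one_le_ht h2)))
  · exact kz r e1 (s3 r (by omega))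

theorem KD.kill [Fintype k] (H : R.KD) (hψ : ψ ≠ 1)
    (hl : ∀ i, R.T.π i = i → ∀ c ≠ 0, finrank ℂ (R.ell ρ ψ i c) ≤ 1) {i : Nd D} (hi : R.T.π i = i)
    {c : k} (hc : c ≠ 0) : R.UK {r | C.Pos r ∧ r ≠ C.sp i} ≤ Kil ρ (R.ell ρ ψ i c) := by
  obtain ⟨h1, h2, h3, h4⟩ := H.kill1 hi (hl i hi c hc)
  refine R.UK_le (fun r hr => by exact ⟨(R.T.pos r).2 hr.1, fun e => hr.2
    (R.T.ρ.injective (e.trans (R.fix_sp.2 hi).symm))⟩) (Sys.closed_pos_ne i) (fun r hr => hr.1)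
    fun r hr t => ?_
  by_cases e1 : R.T.ρ r = r
  swap
  · exact h3 r hr.1 e1 t
  obtain ⟨s, hs⟩ := R.nm_eq_X e1 t
  rw [hs]
  by_cases e2 : ∃ j, r = C.sp j
  swap
  · exact h2 (R.X_mem (two_le_ht hr.1 (not_exists.1 e2)) s)
  obtain ⟨j, rfl⟩ := e2
  have hj := R.fix_sp.1 e1
  refine (H.d3 i j hi hj fun e => hr.2 (e ▸ rfl)).elim (fun e => h4 j hj e s) fun e => ?_
  refine mem_Kil.2 fun v hv => mem_Wx_zero.1 ((R.X_add (C.sp j)).induction ρ hψ (N := Wx ρ ψ _ 0)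
    (fun t => h1 (R.X_mem (C.pos_sp j) t)) (fun d w hw hd => ?_) hv) s
  by_cases e3 : d = 0
  · exact e3 ▸ hd
  have := (H.kill1 hj (hl j hj d e3)).2.2.2 i hi e
  rw [eq_zero_of_Wx hψ hc hw.1 (mem_Wx_zero.2 fun t => mem_Kil.1 (this t) w
    ⟨hd, fun g hg => mem_Kil.1 (h2 (R.UK_mono (fun r hr => two_le_ht_of_A hr.1 hr.2) hg)) w hw⟩)]
  exact zero_mem _

end LR

end Cfsg.Agent.Forms
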