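import Cfsg.Agent.Forms.LieKill

/-!
The lower bound for the degrees of representations of groups of type `E`.
-/

set_option autoImplicit false

namespace Cfsg.Agent.Forms

open Module Finset Cfsg.Lie Cfsg.Agent.Chev Cfsg.Agent.Tw Equiv Cfsg.Agent.GLn MulAut
open scoped InnerProductSpace

variable {D : ChevalleyDatum} {C : Cert D} {F : Type*} [Field F] {G : Type*} [Group G]

theorem rc_of_inJ (hl : ∀ r, Lng C r) {i j : Nd D} (hij : i ≠ j) {r : Rt D} (h0 : C.Pos r)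
    (h : C.InJ {i, j} r) (h1 : C.A (C.sp i) r = 1) :
    C.A (C.sp i) (C.sp j) = -1 ∧ C.rc r = C.rc (C.sp i) + C.rc (C.sp j) := by
  have e : C.rc r = C.rc r i • C.rc (C.sp i) + C.rc r j • C.rc (C.sp j) := funext fun l => by
    by_cases h2 : l = i
    · simp [C.rc_sp_apply, h2, hij]
    by_cases h3 : l = j
    · simp [C.rc_sp_apply, h3, hij.symm]
    simp [C.rc_sp_apply, h2, h3, h l (by simp [h2, h3])]
  have e1 : ∀ b, C.A b r = C.rc r i * C.A b (C.sp i) + C.rc r j * C.A b (C.sp j) := fun b => by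
    rw [← C.pr_rc, ← C.pr_rc, ← C.pr_rc, ← C.pr_smul, ← C.pr_smul, ← C.pr_add, ← e]
  have a1 := e1 (C.sp i)
  have a2 := e1 (C.sp j)
  have a3 := e1 r
  have a4 := C.A_sp_sp_nonpos hij
  have a5 := (hl (C.sp i)).ge (u := C.sp j) fun f => C.not_pos_rev (C.pos_sp i) (f ▸ C.pos_sp j)
  have a6 := h0 i
  have a7 := h0 j
  rw [(hl r).A_symm (hl (C.sp i)), (hl r).A_symm (hl (C.sp j)), h1, a2] at a3
  rw [(hl (C.sp j)).A_symm (hl (C.sp i)), C.A_self, C.A_self] at a3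
  rw [C.A_self, h1] at a1
  have a8 : C.A (C.sp i) (C.sp j) = -1 := by
    by_contra f
    rw [show C.A (C.sp i) (C.sp j) = 0 by omega] at a1; omega
  rw [a8] at a1 a3
  have a9 : C.rc r i = 1 := by nlinarith
  exact ⟨a8, by rw [e, a9, show C.rc r j = 1 by omega, one_smul, one_smul]⟩

namespace LR

variable {S : Sys C F G} {k : Type*} [Field k] (R : LR S k) {V : Type*} [NormedAddCommGroup V]
  [InnerProductSpace ℂ V] [FiniteDimensional ℂ V] {ρ : Representation ℂ R.K V} {ψ : AddChar k ℂ}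

theorem X_rt3 {a b c : Rt D} (ha : R.T.ρ a = a) (hb : R.T.ρ b = b) (e : C.rc c = C.rc a + C.rc b)
    (i j : Fin 3) (t : k) : (R.X (rt3 a b c i j) (sg3 (C.N a b : k) i j * t) : G) =
      (stA S (R.lng a) (R.lng b) e).x i j (R.ι t) := by
  have hc := R.fix_add ha hb e
  rw [R.X_coe, stA_x]
  · fin_cases i <;> fin_cases j <;> simp [sg3]
  · fin_cases i <;> fin_cases j <;> simp [rt3, R.T.rev, ha, hb, hc]

/-- The Steinberg relations for long root elements. -/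
noncomputable def stK {a b c : Rt D} (ha : R.T.ρ a = a) (hb : R.T.ρ b = b)
    (e : C.rc c = C.rc a + C.rc b) : StA (Fin 3) k R.K where
  x i j t := R.X (rt3 a b c i j) (sg3 (C.N a b : k) i j * t)
  add i j s t := by simp only [mul_add, R.X_add _ _ _]
  comm h s t := Subtype.ext (by simp only [Subgroup.coe_mul, R.X_rt3 ha hb e, map_mul, StA.comm _ h])
  row h s t := Subtype.ext (by simp only [Subgroup.coe_mul, R.X_rt3 ha hb e, StA.row _ h])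
  col h s t := Subtype.ext (by simp only [Subgroup.coe_mul, R.X_rt3 ha hb e, StA.col _ h])

section
variable {a b c : Rt D} (ha : R.T.ρ a = a) (hb : R.T.ρ b = b) (e : C.rc c = C.rc a + C.rc b)
theorem stK_01 : (R.stK ha hb e).x 0 1 = R.X a := funext fun t => by simp [stK, rt3, sg3]
theorem stK_10 : (R.stK ha hb e).x 1 0 = R.X a.rev := funext fun t => by simp [stK, rt3, sg3]
theorem stK_12 : (R.stK ha hb e).x 1 2 = R.X b := funext fun t => by simp [stK, rt3, sg3]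
theorem stK_21 : (R.stK ha hb e).x 2 1 = R.X b.rev := funext fun t => by simp [stK, rt3, sg3]
theorem stK_02 (t : k) : (R.stK ha hb e).x 0 2 t = R.X c (C.N a b * t) := by simp [stK, rt3, sg3]

theorem stK_02' (t : k) : R.X c t = (R.stK ha hb e).x 0 2 (C.N a b * t) := by
  have n0 : (C.N a b : k) * C.N a b = 1 := by
    exact_mod_cast congrArg (Int.cast : ℤ → k) ((R.lng a).N_sq (R.lng b) e)
  rw [stK_02, ← mul_assoc, n0, one_mul]
end

theorem conj_mem_Sts {A : Set (Rt D)} {g : R.K} (h : ∀ u ∈ S.U A, (g : G)⁻¹ * u * g ∈ S.U A) :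
    g ∈ Sts ρ (Fx ρ (R.UK A)) := fun _ hv => map_mem_Fx (fun u hu => mem_UK.2 (h u hu)) hv

theorem X_mem_Sts {J : Set (Nd D)} {r : Rt D} (h : C.InJ J r) (t : k) :
    R.X r t ∈ Sts ρ (Fx ρ (R.UK {r | C.Pos r ∧ ¬ C.InJ J r})) := R.conj_mem_Sts fun u hu => by
  have := S.P_conj_UJ (inv_mem ((S.U_le (T := {s | C.InJ J s}) (K := S.P J)).2 (fun s hs t =>
    S.x_mem_P (Or.inr hs) t) (R.X_mem h t))) hu
  rwa [inv_inv] at this

theorem mem_ell {i j : Nd D} (hi : R.T.π i = i) (hj : R.T.π j = j) (hij : i ≠ j) {c : k} {v : V}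
    (h1 : v ∈ Fx ρ (R.UK {r | C.Pos r ∧ ¬ C.InJ {i, j} r})) (h2 : v ∈ Wx ρ ψ (R.X (C.sp i)) c)
    (h3 : C.A (C.sp i) (C.sp j) = -1 → ∀ r, C.rc r = C.rc (C.sp i) + C.rc (C.sp j) → ∀ t, ρ (R.X r t) v = v) :
    v ∈ R.ell ρ ψ i c := by
  refine ⟨h2, R.UK_le (M := Stv ρ v) (fun r hr => by
    exact ⟨(R.T.pos r).2 hr.1, by rw [R.A_fix (R.fix_sp.2 hi), hr.2]⟩) (fun a ha b hb u e => ?_)
    (fun r hr => hr.1) fun r hr t => ?_⟩
  · have := leg_cases (Or.inr ha); have := leg_cases (Or.inr hb)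
    have := A_add' e (C.sp i); have := C.ht_add e
    have h3 : u = C.sp i := by_contra fun h => by have := (R.lng _).le h; omega
    rw [h3, C.ht_sp] at this; omega
  by_cases h : C.InJ {i, j} r
  · obtain ⟨a1, a2⟩ := rc_of_inJ R.lng hij hr.1 h hr.2
    obtain ⟨s, hs⟩ := R.nm_eq_X (R.fix_add (R.fix_sp.2 hi) (R.fix_sp.2 hj) a2) t
    exact hs ▸ h3 a1 r a2 s
  · refine h1 _ (R.nm_mem (fun r hr => ?_) (by exact ⟨hr.1, h⟩) t)
    refine ⟨(R.T.pos r).2 hr.1, fun h => hr.2 fun l hl => (R.rc_ρ r l).symm.trans (h _ ?_)⟩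
    rintro (e | e)
    exacts [hl (Or.inl (R.T.π.injective (e.trans hi.symm))), hl (Or.inr (R.T.π.injective (e.trans hj.symm)))]

theorem pos_ne_eq (i : Nd D) : {r | C.Pos r ∧ ¬ C.InJ {i} r} = {r | C.Pos r ∧ r ≠ C.sp i} :=
  Set.ext fun _ => and_congr_right fun h => not_congr
    ⟨Cert.eq_sp_of_inJ_singleton h, fun e => e ▸ C.inJ_sp.2 rfl⟩

variable {R} [Fintype k]

/-- The Hecke algebra data. -/
noncomputable def KD.hk (H : R.KD) (hρ : IsUni ρ) (hψ : ψ ≠ 1)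
    (hl : ∀ i, R.T.π i = i → ∀ c ≠ 0, finrank ℂ (R.ell ρ ψ i c) ≤ 1)
    (hne : ∀ i, R.T.π i = i → ∃ c ≠ 0, ∃ v ∈ R.ell ρ ψ i c, v ≠ 0) {I : Type*} (e : I → Nd D)
    (he : Function.Injective e) (h1 : ∀ i, R.T.π (e i) = e i)
    (h2 : ∀ i, ∃ j, C.A (C.sp (e i)) (C.sp (e j)) = -1) : HK ρ ψ I where
  x i := R.X (C.sp (e i))
  y i := R.X (C.sp (e i)).rev
  adj i j := C.A (C.sp (e i)) (C.sp (e j)) = -1
  Y := Fx ρ (R.UK {r | C.Pos r})
  N i := Fx ρ (R.UK {r | C.Pos r ∧ ¬ C.InJ {e i} r})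
  uni := hρ
  hψ := hψ
  symm h := ((R.lng _).A_symm (R.lng _)).trans h
  nbr := h2
  x_mem i := R.X_mem_Sts (C.inJ_sp.2 rfl)
  y_mem i := R.X_mem_Sts (C.inJ_rev.2 (C.inJ_sp.2 rfl))
  Y_eq i := le_antisymm (fun v hv => ⟨Fx_anti (R.UK_mono fun r hr => hr.1) hv,
    mem_Wx_zero.2 fun t => hv _ (R.X_mem (C.pos_sp _) t)⟩) fun v hv =>
      R.UK_le (M := Stv ρ v) (fun r hr => (R.T.pos r).2 hr) Cert.closed_pos (fun _ h => h) fun r hr t => by
        by_cases h : r = C.sp (e i)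
        · obtain ⟨s, hs⟩ := R.nm_eq_X (R.fix_sp.2 (h1 i)) t
          exact h ▸ hs ▸ mem_Wx_zero.1 hv.2 s
        · refine hv.1 _ (R.nm_mem ?_ (by rw [pos_ne_eq]; exact ⟨hr, h⟩) t)
          rw [pos_ne_eq]
          exact fun r hr => ⟨(R.T.pos r).2 hr.1, fun f => hr.2
            (R.T.ρ.injective (f.trans (R.fix_sp.2 (h1 i)).symm))⟩
  line i := le_trans (Submodule.finrank_mono fun v hv => by
    exact ⟨hv.2, Fx_anti (R.UK_mono fun r hr => by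
      rw [pos_ne_eq]; exact ⟨hr.1, fun f => by have := hr.2; rw [f, C.A_self] at this; omega⟩) hv.1⟩)
    (hl _ (h1 i) 1 one_ne_zero)
  ne i := by
    obtain ⟨c, hc, v, hv, h0⟩ := hne _ (h1 i)
    exact ⟨c, hc, v, fun g hg => mem_Kil.1 (H.kill hψ hl (h1 i) hc (pos_ne_eq (C := C) (e i) ▸ hg)) v hv,
      h0, hv.1⟩
  tor i j s t := by
    have : ∀ i t, ((hOf (R.X (C.sp (e i))) (R.X (C.sp (e i)).rev) t : R.K) : G) ∈ S.H := fun i t => by
      rw [hOf, Subgroup.coe_mul, Subgroup.coe_inv, R.nOf_coe (R.fix_sp.2 (h1 i)),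
        R.nOf_coe (R.fix_sp.2 (h1 i)), ← S.n_neg]
      exact S.n_mul_n_mem_H _ _ _
    exact Subtype.ext (S.H_comm R.inj (this _ _) (this _ _))
  a2 i j h := by
    have ha := R.fix_sp.2 (h1 i)
    have hb := R.fix_sp.2 (h1 j)
    have hij : e i ≠ e j := fun f => by rw [f, C.A_self] at h; omega
    obtain ⟨c, hc⟩ := C.exists_add_of_A_neg (r := C.sp (e i)) (s := C.sp (e j))
      (fun f => C.not_pos_rev (C.pos_sp _) (f ▸ C.pos_sp _)) (by omega)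
    have a1 : C.InJ {e i, e j} (C.sp (e i)) := C.inJ_sp.2 (Or.inl rfl)
    have a2 : C.InJ {e i, e j} (C.sp (e j)) := C.inJ_sp.2 (Or.inr rfl)
    have a3 := Cert.closed_inJ _ _ a1 _ a2 c hc
    refine ⟨R.stK ha hb hc, Fx ρ (R.UK {r | C.Pos r ∧ ¬ C.InJ {e i, e j} r}), (R.stK_01 ha hb hc).symm,
      (R.stK_10 ha hb hc).symm, (R.stK_12 ha hb hc).symm, (R.stK_21 ha hb hc).symm,
      fun a b _ t => R.X_mem_Sts ?_ _, fun d hd v h3 h4 h5 => ?_, fun d hd v h3 h4 h5 => ?_,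
      fun v hv => ⟨Fx_anti (R.UK_mono fun r hr => by exact ⟨hr.1, fun f => hr.2 (f.mono (by simp))⟩) hv,
        mem_Wx_zero.2 fun t => hv _ (R.stK_02 ha hb hc t ▸ R.X_mem (by
          exact ⟨Cert.closed_pos _ (C.pos_sp _) _ (C.pos_sp _) c hc, fun f => by
            have := f (e i) hij; simp [hc, C.rc_sp_apply, hij] at this⟩) _)⟩⟩
    · fin_cases a <;> fin_cases b <;> simp [rt3, C.inJ_rev, a1, a2] <;> exact a3
    · rw [stK_01] at h4
      rw [stK_12]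
      exact mem_Wx_zero.2 fun t => mem_Kil.1 (H.kill hψ hl (h1 i) hd (R.X_mem
        (by exact ⟨C.pos_sp _, C.sp_inj.ne hij.symm⟩) t)) v (R.mem_ell (h1 i) (h1 j) hij h3 h4 fun _ r hr t => by
          rw [C.rc_inj (hr.trans hc.symm), R.stK_02' ha hb hc, mem_Wx_zero.1 h5])
    · rw [stK_12] at h4
      rw [stK_01]
      exact mem_Wx_zero.2 fun t => mem_Kil.1 (H.kill hψ hl (h1 j) hd (R.X_mem
        (by exact ⟨C.pos_sp _, C.sp_inj.ne hij⟩) t)) v (R.mem_ell (h1 j) (h1 i) hij.symm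
          (by rwa [Set.pair_comm]) h4 fun _ r hr t => by
          rw [C.rc_inj (hr.trans (hc.trans (add_comm _ _)).symm), R.stK_02' ha hb hc, mem_Wx_zero.1 h5])
  a11 i j hij h := by
    have ha := R.fix_sp.2 (h1 i)
    have hb := R.fix_sp.2 (h1 j)
    have a0 : C.A (C.sp (e i)) (C.sp (e j)) = 0 := by
      have := C.A_sp_sp_nonpos (he.ne hij)
      have := (R.lng (C.sp (e i))).ge (u := C.sp (e j))
        fun f => C.not_pos_rev (C.pos_sp _) (f ▸ C.pos_sp _)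
      omega
    have a1 : C.InJ {e i, e j} (C.sp (e i)) := C.inJ_sp.2 (Or.inl rfl)
    have a2 : C.InJ {e i, e j} (C.sp (e j)) := C.inJ_sp.2 (Or.inr rfl)
    have cm : ∀ {a b}, R.T.ρ a = a → R.T.ρ b = b → C.A a b = 0 → ∀ s t,
        R.X a s * R.X b t = R.X b t * R.X a s := fun ha hb h s t =>
      Subtype.ext (by simpa [R.X_coe ha, R.X_coe hb] using R.commute_x h.ge _ _)
    refine ⟨cm ha hb a0, cm ha (R.fix_rev hb) (by rw [C.A_rev_right, a0, neg_zero]),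
      cm (R.fix_rev ha) (R.fix_rev hb) (by rw [C.A_rev_right, C.A_rev_left, a0, neg_neg]),
      Fx ρ (R.UK {r | C.Pos r ∧ ¬ C.InJ {e i, e j} r}), Fx_anti (R.UK_mono fun r hr => hr.1),
      R.X_mem_Sts a1, R.X_mem_Sts (C.inJ_rev.2 a1), R.X_mem_Sts a2, R.X_mem_Sts (C.inJ_rev.2 a2),
      fun d hd v h3 h4 => mem_Wx_zero.2 fun t => mem_Kil.1 (H.kill hψ hl (h1 i) hd (R.X_mem
        (by exact ⟨C.pos_sp _, C.sp_inj.ne (he.ne hij).symm⟩) t)) v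
          (R.mem_ell (h1 i) (h1 j) (he.ne hij) h3 h4 fun f => (h f).elim)⟩

theorem KD.family [Finite G] (H : R.KD) (hρ : IsUni ρ) (hψ : ψ ≠ 1)
    (hl : ∀ i, R.T.π i = i → ∀ c ≠ 0, finrank ℂ (R.ell ρ ψ i c) ≤ 1)
    (hne : ∀ i, R.T.π i = i → ∀ c ≠ 0, ∃ v ∈ R.ell ρ ψ i c, v ≠ 0) {b : Rt D} (h1 : C.Pos b)
    (h2 : R.T.ρ b = b) {c : k} (hc : c ≠ 0) : Fintype.card k ^ (C.ht b - 1).toNat ≤
      finrank ℂ (R.E ρ ψ b {r | C.ht b ≤ C.ht r ∧ r ≠ b} c) := by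
  obtain ⟨i, hi, w, a1, a2, rfl, a3⟩ := R.exists_pt H.inv2 h1 h2
  obtain ⟨m, hm, a4⟩ := R.good.ex_over w a1 a2
  have a5 := C.one_le_ht h1
  have a6 := C.W_le_Aut (inv_mem a1)
  have c2 : ∀ h, C.Stab {r | C.Pos r} {r | h ≤ C.ht r} := fun h a (ha : h ≤ C.ht a) b hb u e => by
    have := C.one_le_ht hb
    exact show h ≤ C.ht u by rw [C.ht_add e]; omega
  refine le_trans ?_ (R.arm_count hρ hψ hi a1 a2 a3 hc inf_le_left fun g hg => ?_)
  · obtain ⟨d, hd, b1⟩ := R.map_E (ρ := ρ) (ψ := ψ) (g := ⟨m, hm⟩) a4.acts (R.fix_sp.2 hi) h2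
      (A := {r | C.Pos r ∧ r ≠ C.sp i}) (B := {r | C.Pos (w⁻¹ r) ∧ r ≠ w (C.sp i)})
      (fun r hr => ⟨hr.1, fun e => hr.2 (by rw [← e]; simp)⟩) hc
    obtain ⟨v, hv, h0⟩ := hne i hi d hd
    have b2 := b1 v ⟨hv.1, fun g hg => mem_Kil.1 (H.kill hψ hl hi hd hg) v hv⟩
    refine Nat.le_mul_of_pos_right _ (one_le_finrank (v := ρ ⟨m, hm⟩ v) ⟨⟨b2.1, Fx_anti (R.UK_mono
      fun r hr => ?_) b2.2⟩, Fx_anti (R.UK_mono fun r hr => by exact ⟨hr.1, fun f => by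
        have := hr.2; rw [f, C.A_self] at this; omega⟩) b2.2⟩ (mt ap_eq_zero.1 h0))
    refine ⟨by_contra fun f => ?_, hr.2⟩
    have b3 := hr.1
    have b4 := a3 r (pos_of_ht' (by omega)) f
    obtain ⟨s, hs⟩ := C.exists_sub_of_A_pos (r := r) (s := w (C.sp i)) (Ne.symm hr.2)
      (by rw [(R.lng _).A_symm (R.lng _), b4]; omega)
    have b5 : C.rc (w (C.sp i)) = C.rc s + C.rc r := by rw [hs, sub_add_cancel]
    have b6 := C.ht_add b5
    have b7 := C.ht_add (Cert.Aut.map_add a6 b5)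
    have b8 := ht_neg f
    rw [show w⁻¹ (w (C.sp i)) = C.sp i by simp, C.ht_sp] at b7
    have b9 := a3 s.rev ((C.pos_rev_iff s).2 fun f => by have := C.one_le_ht f; omega)
      (by rw [Cert.Aut.map_rev a6]; exact C.not_pos_rev (pos_of_ht' (by omega)))
    rw [C.A_rev_right, (R.lng _).A_eq_one b5] at b9
    omega
  · have p1 : ∀ r ∈ insert (w (C.sp i)) {r | C.ht (w (C.sp i)) ≤ C.ht r ∧ r ≠ w (C.sp i)},
        C.ht (w (C.sp i)) ≤ C.ht r := by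
      rintro r (rfl | hr); exacts [le_rfl, hr.1]
    have p2 : ∀ r ∈ {r | C.ht (w (C.sp i)) + 1 ≤ C.ht r}, C.Pos r := fun r (hr : _ ≤ C.ht r) =>
      pos_of_ht' (by omega)
    refine R.mem_Sts_E (Z := {r | C.ht (w (C.sp i)) + 1 ≤ C.ht r}) ((R.UK_mono fun r (hr : _ ≤ C.ht r) => by
      exact ⟨by omega, fun f => by rw [f] at hr; omega⟩).trans (R.UK_le_Kil _ _ _)) fun a ha =>
      comm_two S ((c2 _).mono p2) ((c2 _).mono fun r hr => C.pos_of_ht (a5.trans (p1 r hr)))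
        ((c2 _).mono fun r hr => hr.1)
        (fun r hr e => C.not_pos_rev (C.pos_of_ht (a5.trans (p1 r hr))) (p2 _ e))
        (fun r hr e => C.not_pos_rev hr.1 (p2 _ e))
        (fun a ha b hb e => C.not_pos_rev hb.1 (e ▸ C.pos_of_ht (a5.trans (p1 a ha))))
        (fun a ha b hb u e => by
          have := p1 a ha; have := C.one_le_ht hb.1
          exact show _ ≤ C.ht u by rw [C.ht_add e]; omega) ha hg

theorem sum_families [DecidableEq k] (hρ : IsUni ρ) (hψ : ψ ≠ 1) (B : Finset (Rt D)) (hB : ∀ b ∈ B, C.Pos b) :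
    ∑ b ∈ B, ∑ c : kˣ, finrank ℂ (R.E ρ ψ b {r | C.ht b ≤ C.ht r ∧ r ≠ b} c) +
      finrank ℂ (Fx ρ (R.UK {r | C.Pos r})) ≤ finrank ℂ V := by
  classical
  have := sum_finrank_le_orth (ι := Option (B × kˣ)) (fun o => o.elim (Fx ρ (R.UK {r | C.Pos r}))
    fun p => R.E ρ ψ p.1 {r | C.ht p.1 ≤ C.ht r ∧ r ≠ p.1} p.2) ?_ ⊤ fun _ => le_top
  · rw [Fintype.sum_option, Fintype.sum_prod_type, finrank_top, add_comm] at this
    rw [← sum_coe_sort B]; exact this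
  have key : ∀ (b b' : B) (c c' : kˣ), C.ht b ≤ C.ht b' → (b, c) ≠ (b', c') →
      ∀ v ∈ R.E ρ ψ b {r | C.ht b ≤ C.ht r ∧ r ≠ b} c,
      ∀ w ∈ R.E ρ ψ b' {r | C.ht b' ≤ C.ht r ∧ r ≠ b'} c', ⟪v, w⟫_ℂ = 0 := fun b b' c c' h h' v hv w hw => by
    by_cases e : b = b'
    · subst e
      exact inner_eq_zero_of_Wx hρ hψ (fun f => h' (by rw [Units.ext f])) hv.1 hw.1
    · exact inner_eq_zero_of_Wx hρ hψ c'.ne_zero.symm (mem_Wx_zero.2 fun t => hv.2 _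
        (R.X_mem (by exact ⟨h, fun f => e (Subtype.ext f.symm)⟩) t)) hw.1
  rintro (_ | ⟨b, c⟩) (_ | ⟨b', c'⟩) h v hv w hw
  · exact (h rfl).elim
  · exact inner_eq_zero_of_Wx hρ hψ c'.ne_zero.symm
      (mem_Wx_zero.2 fun t => hv _ (R.X_mem (hB _ b'.2) t)) hw.1
  · exact inner_eq_zero_of_Wx hρ hψ c.ne_zero hv.1 (mem_Wx_zero.2 fun t => hw _ (R.X_mem (hB _ b.2) t))
  · rcases le_total (C.ht b) (C.ht b') with e | e
    · exact key b b' c c' e (fun f => h (congrArg some f)) v hv w hw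
    · exact inner_eq_zero_symm.1 (key b' b c' c e (fun f => h (congrArg some f.symm)) w hw v hv)

theorem ell_le_Wx [Finite G] (h : R.Inv2) (hρ : IsUni ρ) (hψ : ψ ≠ 1) {i : Nd D} (hi : R.T.π i = i) :
    ∃ c ≠ 0, ∃ d ≠ 0, Fintype.card k ^ (C.ht C.top - 1).toNat * finrank ℂ (R.ell ρ ψ i c) ≤
      finrank ℂ (Wx ρ ψ (R.X (C.sp i)) d) := by
  obtain ⟨w, a1, a2, a0, a3⟩ := R.pt_top h hi
  obtain ⟨m, hm, a4⟩ := R.good.ex_over w a1 a2
  rw [← a0] at a3 ⊢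
  have h2 : R.T.ρ (w (C.sp i)) = w (C.sp i) := by rw [R.ρ_apply a2, R.fix_sp.2 hi]
  obtain ⟨c, hc, b1⟩ := R.map_E (ρ := ρ) (ψ := ψ) (g := ⟨m, hm⟩) a4.acts (R.fix_sp.2 hi) h2
    (A := Lp C (C.sp i) 1) (B := Lp C (w (C.sp i)) w) (fun r hr => ⟨hr.1, by
      rw [← hr.2, ← Cert.Aut.A_map (C.W_le_Aut a1)]; simp⟩) one_ne_zero
  obtain ⟨a, ha⟩ := R.conj_X (g := ⟨m, hm⟩) a4.acts (R.fix_sp.2 hi) h2
  refine ⟨c, hc, a * 1, by simp, le_trans (Nat.mul_le_mul_left _ (finrank_le_of_map ρ _ b1))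
    ((R.arm_count hρ hψ hi a1 a2 a3 one_ne_zero le_rfl
      (R.lev_le_Sts h2 (fun r hr => (a3 r hr.1 hr.2).ge) 1)).trans
      (finrank_le_of_map ρ _ fun v hv => Wx_conj' a ha hv))⟩

theorem exists_ell [Finite F] [Finite G] (h : R.Inv2)
    (gen : ∀ M, R.UK {r | C.Pos r} ≤ M → R.UK {r | ¬ C.Pos r} ≤ M → M = ⊤)
    (neg : ∀ r, ¬ C.Pos r → ∃ b, R.T.ρ b = b ∧ C.Pos (C.refl b r))
    (hz : ∀ r, R.T.ρ r ≠ r → ∃ z : R.K, (z : G) ∈ S.H ∧ S.chi z r ≠ 1) (hψ : ψ ≠ 1)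
    (hnc : ¬ ∀ g h v, ρ g (ρ h v) = ρ h (ρ g v)) {i : Nd D} (hi : R.T.π i = i) {b : Rt D}
    (hb : R.T.ρ b = b) (h1 : C.A (C.sp i) b = -1) {c : k} (hc : c ≠ 0) :
    ∃ v ∈ R.ell ρ ψ i c, v ≠ 0 := by
  obtain ⟨d, hd, v, -, h0, hv⟩ := (R.X_add (C.sp i)).exists_Wx ρ hψ (W := ⊤) (fun _ _ _ => trivial)
    fun e => hnc fun g g' v => by
      have := R.eq_top_of_long (R.X_mem_of_sp h (N := ρ.ker) hi fun t =>
        LinearMap.ext fun v => mem_Wx_zero.1 (e trivial) t) gen neg hz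
      rw [MonoidHom.mem_ker.1 (this.ge (Subgroup.mem_top g)),
        MonoidHom.mem_ker.1 (this.ge (Subgroup.mem_top g'))]
  obtain ⟨u, hu⟩ := C.exists_add_of_A_neg (r := C.sp i) (s := b)
    (fun f => by rw [f, C.A_rev_right, C.A_self] at h1; omega) (by omega)
  have := (StA.inv_top (ρ := ρ) (A := R.stK (R.fix_sp.2 hi) hb hu)).dim_eq' (ψ := ψ) d3_fin.p132 hd hc
  rw [stK_01, top_inf_eq, top_inf_eq] at this
  obtain ⟨w, hw, h2⟩ := exists_of_finrank (this ▸ Nat.one_le_iff_ne_zero.1 (one_le_finrank hv h0))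
  exact R.exists_leg_fix hψ hi hc hw h2

theorem big [Finite G] (h : R.Inv2) (hρ : IsUni ρ) (hψ : ψ ≠ 1) {i : Nd D} (hi : R.T.π i = i)
    {b : Rt D} (hb : R.T.ρ b = b) (h1 : C.A (C.sp i) b = -1) {c : k} (hc : c ≠ 0) :
    (Fintype.card k - 1) * (Fintype.card k + 1) * Fintype.card k ^ (C.ht C.top - 1).toNat *
      finrank ℂ (R.ell ρ ψ i c) ≤ Fintype.card k * finrank ℂ V := by
  obtain ⟨u, hu⟩ := C.exists_add_of_A_neg (r := C.sp i) (s := b)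
    (fun f => by rw [f, C.A_rev_right, C.A_self] at h1; omega) (by omega)
  have ha := R.fix_sp.2 hi
  have hA := StA.inv_top (ρ := ρ) (A := R.stK ha hb hu)
  obtain ⟨d, hd, e, he, h2⟩ := ell_le_Wx h hρ hψ hi
  have h3 := hA.dim_eq' (ψ := ψ) d3_fin.p132 he one_ne_zero
  rw [hA.dim_heis hψ d3_fin.p132 one_ne_zero, stK_01, top_inf_eq] at h3
  have h4 := hA.dim_total hψ d3_fin.p132
  rw [finrank_top, stK_01] at h4
  have h5 : finrank ℂ (R.ell ρ ψ i c) ≤ finrank ℂ (R.ell ρ ψ i d) := by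
    have e1 := (R.stK ha hb hu).hh_li d3_fin.p231 (Units.mk0 (c / d) (div_ne_zero hc hd))
    rw [stK_01] at e1
    refine finrank_le_of_map ρ _ fun v hv => ⟨by simpa [hc] using Wx_conj _ e1 hv.1,
      map_mem_Fx (fun u hu => mem_UK.2 (Sys.H_inv_conj_U ?_ hu)) hv.2⟩
    rw [StA.hh, StA.n, StA.n, stK_12, stK_21, Subgroup.coe_mul, Subgroup.coe_inv, ← nOf, ← nOf,
      R.nOf_coe hb, R.nOf_coe hb, ← S.n_neg]
    exact S.n_mul_n_mem_H _ _ _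
  rw [h4, mul_assoc]
  refine (Nat.mul_le_mul_left _ ((Nat.mul_le_mul_left _ h5).trans h2)).trans ?_
  rw [h3]
  nlinarith [Nat.zero_le ((R.stK ha hb hu).mu ρ ψ ⊤ 0 2 1 0 0),
    Nat.zero_le ((Fintype.card k - 1) * (R.stK ha hb hu).mu ρ ψ ⊤ 0 2 1 1 0)]

/-- The main bound. -/
theorem KD.bound [Finite F] [Finite G] (H : R.KD) (hρ : IsUni ρ) (hψ : ψ ≠ 1)
    (hnc : ¬ ∀ g h v, ρ g (ρ h v) = ρ h (ρ g v)) {I : Type*} (e : I → Nd D)
    (he : Function.Injective e) (h1 : ∀ i, R.T.π i = i ↔ ∃ j, e j = i)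
    (h2 : ∀ i, ∃ j, C.A (C.sp (e i)) (C.sp (e j)) = -1) (B : Finset (Rt D))
    (hB : ∀ b ∈ B, C.Pos b ∧ R.T.ρ b = b) :
    (Fintype.card k - 1) * (Fintype.card k + 1) * Fintype.card k ^ (C.ht C.top - 1).toNat * 2 ≤
      Fintype.card k * finrank ℂ V ∨ ∃ Q : HK ρ ψ I,
      (∀ i j, Q.adj i j ↔ C.A (C.sp (e i)) (C.sp (e j)) = -1) ∧
      (Fintype.card k - 1) * ∑ b ∈ B, Fintype.card k ^ (C.ht b - 1).toNat + finrank ℂ Q.Y ≤
        finrank ℂ V := by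
  classical
  have h3 : ∀ i, R.T.π i = i → ∃ b, R.T.ρ b = b ∧ C.A (C.sp i) b = -1 := fun i hi => by
    obtain ⟨i, rfl⟩ := (h1 i).1 hi
    obtain ⟨j, hj⟩ := h2 i
    exact ⟨_, R.fix_sp.2 ((h1 _).2 ⟨j, rfl⟩), hj⟩
  by_cases hl : ∀ i, R.T.π i = i → ∀ c ≠ 0, finrank ℂ (R.ell ρ ψ i c) ≤ 1
  swap
  · push Not at hl
    obtain ⟨i, hi, c, hc, h⟩ := hl
    obtain ⟨b, b1, b2⟩ := h3 i hi
    exact Or.inl ((Nat.mul_le_mul_left _ h).trans (big H.inv2 hρ hψ hi b1 b2 hc))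
  have hne : ∀ i, R.T.π i = i → ∀ c ≠ 0, ∃ v ∈ R.ell ρ ψ i c, v ≠ 0 := fun i hi c hc => by
    obtain ⟨b, b1, b2⟩ := h3 i hi
    exact exists_ell H.inv2 H.gen H.neg (fun r hr => (H.tor r hr).imp fun z hz => ⟨hz.1, hz.2.1⟩) hψ
      hnc hi b1 b2 hc
  refine Or.inr ⟨H.hk hρ hψ hl (fun i hi => ⟨1, one_ne_zero, hne i hi 1 one_ne_zero⟩) e he
    (fun i => (h1 _).2 ⟨i, rfl⟩) h2, fun _ _ => Iff.rfl, le_trans (Nat.add_le_add_right ?_ _)
    (sum_families hρ hψ B fun b hb => (hB b hb).1)⟩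
  rw [mul_sum]
  refine sum_le_sum fun b hb => ?_
  rw [← Fintype.card_units, ← card_univ, ← smul_eq_mul, ← sum_const]
  exact sum_le_sum fun c _ => H.family hρ hψ hl hne (hB b hb).1 (hB b hb).2 c.ne_zero

end LR

end Cfsg.Agent.Forms
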