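import Cfsg.Agent.Forms.StA
import Cfsg.Agent.Tw.Ree3

/-!
The minimal degree of the small Ree groups.
-/

set_option autoImplicit false

namespace Cfsg.Agent.Forms

open Module Finset Cfsg.Lie Cfsg.Agent.Chev Cfsg.Agent.Tw Cfsg.Agent.GLn MulAut Cfsg.Agent.Lang

theorem ree_conj {F : Type*} [Field F] [Finite F] {m : ℕ} (h : Nat.card F = 3 ^ (2 * m + 1)) [CharP F 3]
    {a b : twistedG2 F (3 ^ m)} (ha : a ≠ 1) (ha' : a * a = 1) (hb : b ≠ 1) (hb' : b * b = 1) : IsConj a b := by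
  have hφ : ∀ t, iterateFrobeniusEquiv F 3 m t = t ^ 3 ^ m := fun _ => rfl
  have : CharP (AlgebraicClosure F) 3 := charP_of_injective_algebraMap (algebraMap F _).injective 3
  have key : ∀ a : gen (certG2.sys F) (g2Words F (3 ^ m)), a ≠ 1 → a * a = 1 →
      ∃ c : gen (certG2.sys F) (g2Words F (3 ^ m)), (c * a * (c : chevG2.group F)⁻¹ : chevG2.group F) = hz (-1) (-1) := fun a h1 h2 => by
    obtain ⟨c, h4, h5⟩ := exists_conj_J (k := AlgebraicClosure F) (ψ := iterateFrobeniusEquiv _ 3 m) hφ (fun _ => rfl) h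
      (frobAlg_of_isAlgebraic F) ((goodG2 hφ (frobp hφ h)).fix a a.2) (fun e => h1 (Subtype.ext e))
      (congrArg Subtype.val h2)
    exact ⟨⟨c, fixG2 hφ h h4⟩, h5⟩
  obtain ⟨a, rfl⟩ := (eqG2 F (3 ^ m)).surjective a
  obtain ⟨b, rfl⟩ := (eqG2 F (3 ^ m)).surjective b
  obtain ⟨c, hc⟩ := key a (by simpa using ha) (by simpa [← map_mul] using ha')
  obtain ⟨d, hd⟩ := key b (by simpa using hb) (by simpa [← map_mul] using hb')
  refine (eqG2 F (3 ^ m)).toMonoidHom.map_isConj (isConj_iff.2 ⟨d⁻¹ * c, Subtype.ext ?_⟩)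
  calc _ = (d : chevG2.group F)⁻¹ * (c * a * (c : chevG2.group F)⁻¹) * d := by simp [mul_assoc]
    _ = _ := by rw [hc, ← hd]; simp [mul_assoc]

theorem four_dvd {Γ V : Type*} [Group Γ] [AddCommGroup V] [Module ℂ V] [FiniteDimensional ℂ V]
    (ρ : Representation ℂ Γ V) {a b : Γ} (ha : a * a = 1) (hb : b * b = 1) (h : a * b = b * a)
    (h1 : LinearMap.trace ℂ V (ρ a) = 0) (h2 : LinearMap.trace ℂ V (ρ b) = 0)
    (h3 : LinearMap.trace ℂ V (ρ (a * b)) = 0) : 4 ∣ finrank ℂ V := by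
  have e : IsIdempotentElem ((4⁻¹ : ℂ) • ((1 + ρ a) * (1 + ρ b))) := by
    have e1 : ρ a * ρ a = 1 := by rw [← map_mul, ha, map_one]
    have e2 : ρ b * ρ b = 1 := by rw [← map_mul, hb, map_one]
    have e3 : Commute (1 + ρ a) (1 + ρ b) := by
      refine Commute.add_left (Commute.one_left _) (Commute.add_right (Commute.one_right _) ?_)
      rw [Commute, SemiconjBy, ← map_mul, h, map_mul]
    have e4 : ∀ x : End ℂ V, x * x = 1 → (1 + x) * (1 + x) = (2 : ℂ) • (1 + x) := fun x hx => by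
      rw [add_mul, mul_add, mul_add, hx, two_smul]; simp only [one_mul, mul_one]; abel
    rw [IsIdempotentElem, smul_mul_smul_comm, e3.symm.mul_mul_mul_comm, e4 _ e1, e4 _ e2, smul_mul_smul_comm, smul_smul]
    norm_num
  have := (LinearMap.IsIdempotentElem.isProj_range _ e).trace
  generalize finrank ℂ (LinearMap.range ((4⁻¹ : ℂ) • ((1 + ρ a) * (1 + ρ b)))) = r at this
  rw [map_smul, add_mul, mul_add, mul_add, ← map_mul] at this
  simp only [map_add, one_mul, mul_one, h1, h2, h3, LinearMap.trace_one, add_zero, smul_eq_mul] at this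
  exact ⟨r, by exact_mod_cast (by rw [← this]; ring : (finrank ℂ V : ℂ) = 4 * r)⟩

variable {R : Type*} [Group R] [Finite R] {F : Type*} [Field F] [Fintype F] [CharP F 3] (P : RBN R F)

theorem ree_U_le (hq : ∃ s : F, s ^ 3 ≠ s) {M : Subgroup R} [hM : M.Normal] (h4 : ∀ t, ∃ v w, P.X t v w ∈ M) :
    P.U ≤ M := by
  have h5 : ∀ w, P.X 0 0 w ∈ M := fun w => by
    obtain ⟨v, w', h⟩ := h4 (-(w ^ 2 / P.θ w))
    convert pow_mem h 3 using 1
    rw [P.cube]
    by_cases hw : w = 0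
    · simp [hw]
    have : P.θ w ≠ 0 := by simpa using hw
    simp only [map_neg, map_div₀, map_pow, P.θθ]
    congr 1; field_simp
  have h6 : ∀ {v w}, P.X 0 v w ∈ M → ∀ w', P.X 0 v w' ∈ M := fun {v w} h w' => by
    simpa [P.mul] using mul_mem h (h5 (w' - w))
  let A : Subring F :=
    { carrier := {c | ∀ v, P.X 0 v 0 ∈ M → P.X 0 (c * v) 0 ∈ M}
      one_mem' := fun v h => by simpa using h
      mul_mem' := fun ha hb v h => by rw [mul_assoc]; exact ha _ (hb v h)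
      zero_mem' := fun v _ => by simpa using h5 0
      add_mem' := fun ha hb v h => by simpa [P.mul, add_mul] using mul_mem (ha v h) (hb v h)
      neg_mem' := fun {a} ha v h => by
        convert inv_mem (ha v h) using 1
        exact eq_inv_of_mul_eq_one_left (by simp [P.mul, P.X_zero]) }
  have h7 : ∀ c, c ∈ A := fun c => mem_of_sq ⊤ (fun a _ ha v h => by
    have : P.θ a ≠ 0 := by simpa using ha
    have h7 := hM.conj_mem _ h (P.h (Units.mk0 _ (div_ne_zero this ha)))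
    rw [P.conj, mul_zero] at h7
    convert h6 h7 0 using 2
    simp only [Units.val_mk0, map_div₀, P.θθ]; field_simp) trivial
  obtain ⟨t, ht⟩ : ∃ t, P.θ t - t ≠ 0 := by
    by_contra! h
    obtain ⟨s, hs⟩ := hq
    exact hs (by rw [← P.θθ, sub_eq_zero.1 (h _), sub_eq_zero.1 (h _)])
  have h8 : ∀ v w, P.X 0 v w ∈ M := fun v w => by
    obtain ⟨a, b, h⟩ := h4 t
    obtain ⟨c, d, h'⟩ := h4 1
    have : P.X t a b * P.X 1 c d = P.X 1 c d * P.X t a b * P.X 0 (P.θ t - t) (t * c - a + P.θ t - t ^ 2) := by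
      simp only [P.mul, map_one]; congr 1 <;> ring
    have := h7 (v / (P.θ t - t)) _ (h6 ((mul_mem_cancel_left (mul_mem h' h)).1 (this ▸ mul_mem h h')) 0)
    rw [div_mul_cancel₀ _ ht] at this
    exact h6 this w
  intro u hu
  obtain ⟨t, v, w, rfl⟩ := P.mem_U.1 hu
  obtain ⟨a, b, h⟩ := h4 t
  simpa [P.mul] using mul_mem h (h8 (v - a) (w - b))

theorem ree_comm (hq : ∃ s : F, s ^ 3 ≠ s) {M : Subgroup R} [hM : M.Normal] (h : P.X 0 0 1 ∈ M) (g : R) :
    ∃ s, g * (P.h s)⁻¹ ∈ M := by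
  obtain ⟨y, hy, s, h1⟩ : ∃ y ∈ P.U, ∃ s, y * P.h s * P.n ∈ M := by
    have h1 := hM.conj_mem _ h P.n
    rw [P.n_inv] at h1
    obtain ⟨b, hb, u, hu, e⟩ := (P.cell _).resolve_left fun e => one_ne_zero
      (P.X_eq_one.1 (P.ti0 _ (P.X_mem 0 0 1) e)).2.2
    obtain ⟨y, hy, s, e'⟩ := P.mem_B.1 (mul_mem (P.U_le_B hu) hb)
    exact ⟨y, hy, s, by convert hM.conj_mem _ (e ▸ h1) u using 1; rw [← e']; group⟩
  have h2 : P.U ≤ M := ree_U_le P hq fun t => by
    obtain ⟨a, ha⟩ := hq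
    have h0 : a ≠ 0 := by rintro rfl; simp at ha
    set c := Units.mk0 a h0
    have hc : (c * c : Fˣ) - (1 : F) ≠ 0 := fun e => ha (by
      rw [pow_succ, sq, show a * a = 1 from sub_eq_zero.1 e, one_mul])
    have h2 : y * (P.h c * y⁻¹ * (P.h c)⁻¹) * P.h (c * c) ∈ M := by
      convert mul_mem h1 (hM.conj_mem _ (inv_mem h1) (P.h c)⁻¹) using 1
      rw [show ∀ x h n a : R, x * h * n * (a⁻¹ * (x * h * n)⁻¹ * a⁻¹⁻¹) = x * h * (n * a⁻¹ * n⁻¹) * h⁻¹ * x⁻¹ * a from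
        fun _ _ _ _ => by group, P.n_inv, ← map_inv P.h c, P.n_h, inv_inv, mul_assoc y (P.h s), ← map_mul, mul_comm s,
        map_mul, map_mul, map_inv]
      group
    obtain ⟨t', v', w', e⟩ := P.mem_U.1 (mul_mem hy (P.conj_U (P.h_mem c) (inv_mem hy)))
    rw [e] at h2
    generalize c * c = d at *
    obtain ⟨t, rfl⟩ : ∃ u, t = (d - 1) * u := ⟨t / (d - 1), by field_simp⟩
    have h3 := mul_mem h2 (hM.conj_mem _ (inv_mem h2) (P.X t 0 0))
    rw [show ∀ x h a : R, x * h * (a * (x * h)⁻¹ * a⁻¹) = x * (h * a * h⁻¹) * (a * x)⁻¹ from fun _ _ _ => by group,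
      P.conj, P.mul, P.mul] at h3
    have : ∀ v w t' v' w', ∃ a b, P.X ((d - 1) * t + t') v w = P.X ((d - 1) * t) a b * P.X t' v' w' :=
      fun v w t' v' w' => ⟨v - v' - t' * P.θ ((d - 1) * t), w - w' + t' * (v - v' - t' * P.θ ((d - 1) * t)) -
        t' ^ 2 * P.θ ((d - 1) * t), by rw [P.mul]; congr 1 <;> ring⟩
    obtain ⟨a, b, e⟩ := this _ _ (t + t') _ _
    rw [show t' + d * t = (d - 1) * t + (t + t') by ring, e, mul_inv_cancel_right] at h3
    exact ⟨a, b, h3⟩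
  have h3 : P.h s * P.n ∈ M := by rwa [mul_assoc, mul_mem_cancel_left (h2 hy)] at h1
  rcases P.cell g with hg | ⟨b, hb, u, hu, rfl⟩
  · obtain ⟨u, hu, a, rfl⟩ := P.mem_B.1 hg
    exact ⟨a, by simpa using h2 hu⟩
  · obtain ⟨v, hv, a, rfl⟩ := P.mem_B.1 hb
    refine ⟨a * s⁻¹, ?_⟩
    convert mul_mem (h2 hv) (hM.conj_mem _ (mul_mem h3 (h2 hu)) (P.h (a * s⁻¹))) using 1
    rw [map_mul, map_inv]; group

include P in
theorem ree_bound (hq : ∃ s : F, s ^ 3 ≠ s) (h4 : ¬ 4 ∣ Fintype.card F * (Fintype.card F - 1))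
    (hc : ∀ a b : R, a ≠ 1 → a * a = 1 → b ≠ 1 → b * b = 1 → IsConj a b)
    {V : Type*} [AddCommGroup V] [Module ℂ V] [FiniteDimensional ℂ V] {ρ : Representation ℂ R V}
    (hnc : ¬ ∀ g h v, ρ g (ρ h v) = ρ h (ρ g v)) :
    Fintype.card F * (Fintype.card F - 1) + 1 ≤ finrank ℂ V := by
  classical
  have hψ := psi_ne_one F
  generalize AddChar.FiniteField.primitiveChar_to_Complex F = ψ at hψ
  have hz : Ad1 (P.X 0 0) := fun s t => by simp [P.mul]
  have hy : Ad1 (P.X 0 · 0) := fun s t => by simp [P.mul]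
  have h1 : ∀ c ≠ 0, finrank ℂ ↥(⊤ ⊓ Wx ρ ψ (P.X 0 0) c) = finrank ℂ ↥(⊤ ⊓ Wx ρ ψ (P.X 0 0) 1) := fun c hc => by
    have : P.θ c ≠ 0 := by simpa using hc
    set s := Units.mk0 (c ^ 2 / P.θ c) (by positivity)
    have e : ∀ u, conj (P.h s) (P.X 0 0 u) = P.X 0 0 (Units.mk0 c hc * u) := fun u => by
      rw [conj_apply, P.conj]
      simp only [s, Units.val_mk0, mul_zero, map_div₀, map_pow, P.θθ]
      congr 2; field_simp
    exact finrank_eq_of_map ρ (P.h s) (fun v hv => ⟨trivial, by simpa [hc] using Wx_conj _ e hv.2⟩)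
      fun v hv => ⟨trivial, by simpa using Wx_conj' _ e hv.2⟩
  have h2 := hz.finrank_eq_add ρ hψ (N := ⊤) (fun _ _ _ => trivial) h1
  have h3 : ∀ t d v, v ∈ Wx ρ ψ (P.X 0 0) 1 ⊓ Wx ρ ψ (P.X 0 · 0) d →
      ρ (P.X t 0 0) v ∈ Wx ρ ψ (P.X 0 0) 1 ⊓ Wx ρ ψ (P.X 0 · 0) (d - t) := fun t d v hv =>
    ⟨Wx_comm (fun u => by simp [P.mul]) hv.1, mem_Wx.2 fun u => by
      rw [← mul_ap, show P.X 0 u 0 * P.X t 0 0 = P.X t 0 0 * (P.X 0 u 0 * P.X 0 0 (-(t * u))) by simp [P.mul], mul_ap,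
        mul_ap, mem_Wx.1 hv.1, map_smul, mem_Wx.1 hv.2, map_smul, map_smul, smul_smul, ← AddChar.map_add_eq_mul]
      congr 2; ring⟩
  have h5 := hy.finrank_eq_mul ρ hψ (N := Wx ρ ψ (P.X 0 0) 1) (fun t v hv => Wx_comm (fun u => by simp [P.mul]) hv)
    (d := finrank ℂ ↥(Wx ρ ψ (P.X 0 0) 1 ⊓ Wx ρ ψ (P.X 0 · 0) 0)) fun d => le_antisymm
      (finrank_le_of_map ρ _ fun v hv => by simpa using h3 d d v hv)
      (finrank_le_of_map ρ _ fun v hv => by simpa using h3 (-d) 0 v hv)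
  rw [top_inf_eq, top_inf_eq, finrank_top, h5] at h2
  generalize finrank ℂ ↥(Wx ρ ψ (P.X 0 0) 1 ⊓ Wx ρ ψ (P.X 0 · 0) 0) = e at h2
  have hq2 : 1 < Fintype.card F := Fintype.one_lt_card
  rcases e with _ | _ | e
  · have : Wx ρ ψ (P.X 0 0) 0 = ⊤ := Submodule.eq_top_of_finrank_eq (by simpa using h2.symm)
    have h6 := ree_comm P hq (M := ρ.ker) (LinearMap.ext fun v => mem_Wx_zero.1 (this.ge trivial) 1)
    refine (hnc fun g h v => ?_).elim
    obtain ⟨s, hs⟩ := h6 g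
    obtain ⟨t, ht⟩ := h6 h
    have e : ∀ {g s}, g * (P.h s)⁻¹ ∈ ρ.ker → ρ g = ρ (P.h s) := fun {g s} h => by
      rw [← inv_mul_cancel_right g (P.h s), map_mul, MonoidHom.mem_ker.1 h, one_mul]
    rw [e hs, e ht, ← mul_ap, ← mul_ap, ← map_mul, mul_comm, map_mul]
  · by_contra h6
    have h7 : Wx ρ ψ (P.X 0 0) 0 = ⊥ := Submodule.finrank_eq_zero.1 (by nlinarith)
    have hJ : P.h (-1) * P.h (-1) = 1 := by rw [← map_mul]; simp
    have hJ' : P.h (-1) ≠ 1 := fun e => P.J_ne (t := 0) (v := 0) (w := 0) (k := 0) (by simp [P.X_zero, e])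
    have h8 : LinearMap.trace ℂ V (ρ (P.h (-1))) = 0 := by
      have : Sm ρ (P.X 0 0) = 0 := LinearMap.ext fun v => h7.le (hz.Sm_mem (ψ := ψ) v)
      have h8 := congrArg (fun f => LinearMap.trace ℂ V (f * ρ (P.h (-1)))) this
      simp only [Sm, sum_mul, map_sum, zero_mul, map_zero, ← map_mul] at h8
      rw [sum_congr rfl (g := fun _ => LinearMap.trace ℂ V (ρ (P.h (-1)))) fun u _ => ?_] at h8
      · simpa using h8
      rw [show P.X 0 0 u * P.h (-1) = P.X 0 0 (-u) * (P.h (-1) * (P.X 0 0 (-u))⁻¹) by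
        rw [← hz.neg, neg_neg, show P.h (-1) * P.X 0 0 u = P.X 0 0 (-u) * P.h (-1) by
          rw [← mul_inv_eq_iff_eq_mul, P.conj]; simp, ← mul_assoc, ← hz]
        congr 2; grind, map_mul, LinearMap.trace_mul_comm, ← map_mul, inv_mul_cancel_right]
    have h9 : ∀ a : R, a ∉ P.B → a * a = 1 → LinearMap.trace ℂ V (ρ a) = 0 := fun a ha ha' => by
      obtain ⟨c, rfl⟩ := isConj_iff.1 (hc _ a hJ' hJ (fun e => ha (e ▸ one_mem _)) ha')
      rw [map_mul, LinearMap.trace_mul_comm, ← map_mul, inv_mul_cancel_left, h8]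
    have := four_dvd ρ hJ P.n_sq (by
      rw [eq_comm, ← mul_inv_eq_iff_eq_mul, ← P.n_inv, inv_inv, P.n_inv, P.n_h, inv_neg_one]) h8
      (h9 _ P.n_notMem P.n_sq) (h9 _ (by simpa using P.cell_notMem (P.h_mem (-1)) (one_mem _)) (P.hn_sq _))
    rw [h2, h7, finrank_bot] at this
    exact h4 (by simpa [mul_comm] using this)
  · obtain ⟨n, hn⟩ : ∃ n, Fintype.card F = n + 2 := ⟨Fintype.card F - 2, by omega⟩
    rw [h2, hn]
    simp only [show n + 2 - 1 = n + 1 from rfl]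
    exact le_add_left (by ring_nf; omega)

end Cfsg.Agent.Forms
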