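import Cfsg.Agent.Forms.LieE
import Cfsg.Agent.Tw.TwPar
import Cfsg.Agent.Tw.Eqv
import Cfsg.Agent.Polar.ULoc

/-!
Twisted groups of simply laced type; the minimal degree of `²E₆(q)`.
-/

set_option autoImplicit false

namespace Cfsg.Agent.Forms

open Module Finset Cfsg.Lie Cfsg.Agent.Chev Cfsg.Agent.Tw Equiv Cfsg.Agent.GLn MulAut

variable {D : ChevalleyDatum} {C : Cert D} {F : Type*} [Field F]

/-- The fixed field. -/
def fixF (φ : F ≃+* F) : Subfield F := RingHom.eqLocusField (φ : F →+* F) (RingHom.id F)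

theorem card_fixF [Finite F] {φ : F ≃+* F} {q d : ℕ} (hφ : ∀ t, φ t = t ^ q) (h : Nat.card F = q ^ d) :
    Nat.card (fixF φ) = q := card_fixed' hφ h

theorem iter_frob {φ : F ≃+* F} {q : ℕ} (hφ : ∀ t, φ t = t ^ q) (j : ℕ) (t : F) : φ^[j] t = t ^ q ^ j := by
  induction j with
  | zero => simp
  | succ j ih => rw [Function.iterate_succ_apply', ih, hφ, ← pow_mul, pow_succ]

theorem exists_tr [Finite F] {φ : F ≃+* F} {q d : ℕ} (hφ : ∀ t, φ t = t ^ q) (h : Nat.card F = q ^ (d + 1))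
    (s : fixF φ) : ∃ t, ∑ j ∈ range (d + 1), φ^[j] t = s := by
  classical
  have := Fintype.ofFinite F
  have hq : 1 < q := by
    have := Finite.one_lt_card (α := F)
    rw [h] at this
    exact (Nat.one_lt_pow_iff (by omega)).1 this
  obtain ⟨t, ht⟩ : ∃ t, ∑ j ∈ range (d + 1), φ^[j] t ≠ 0 := by
    by_contra h1
    push Not at h1
    have := Polynomial.eq_zero_of_natDegree_lt_card_of_eval_eq_zero
      (∑ j ∈ range (d + 1), Polynomial.X ^ q ^ j : Polynomial F) Function.injective_id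
      (fun t => by simpa [Polynomial.eval_finset_sum, iter_frob hφ] using h1 t)
      (lt_of_le_of_lt (Polynomial.natDegree_sum_le_of_forall_le _ _ (n := q ^ d) fun j hj => by
        rw [Polynomial.natDegree_X_pow]
        exact Nat.pow_le_pow_right hq.le (by simpa [Nat.lt_succ_iff] using hj))
        (by rw [← Nat.card_eq_fintype_card, h]; exact Nat.pow_lt_pow_right hq d.lt_succ_self))
    have h2 := congrArg (Polynomial.coeff · (q ^ d)) this
    simp [Polynomial.finset_sum_coeff, Polynomial.coeff_X_pow, (Nat.pow_right_injective hq).eq_iff] at h2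
  have h1 : φ (∑ j ∈ range (d + 1), φ^[j] t) = ∑ j ∈ range (d + 1), φ^[j] t := by
    rw [map_sum, sum_range_succ, sum_range_succ', ← Function.iterate_succ_apply' φ d, iter_frob hφ (d + 1),
      pow_card' h]
    simp only [Function.iterate_succ_apply', Function.iterate_zero, id]
  set c := ∑ j ∈ range (d + 1), φ^[j] t
  have h2 : φ (s * c⁻¹) = s * c⁻¹ := by rw [map_mul, map_inv₀, h1, show φ s = s from s.2]
  refine ⟨s * c⁻¹ * t, ?_⟩
  rw [sum_congr rfl fun j _ => show φ^[j] (s * c⁻¹ * t) = s * c⁻¹ * φ^[j] t by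
    rw [iterate_map_mul, Function.iterate_fixed h2], ← mul_sum, inv_mul_cancel_right₀ ht]

theorem stb_iter (P : SPerm C) (h : P.Ok) (φ : F ≃+* F) {A : Set (Rt D)} (hA : ∀ r ∈ A, P.ρ r ∈ A ∧ P.ε r = 1)
    {r : Rt D} (hr : r ∈ A) (j : ℕ) (t : F) :
    P.ρ^[j] r ∈ A ∧ (P.stb h φ).σ^[j] ((C.sys F).x r t) = (C.sys F).x (P.ρ^[j] r) (φ^[j] t) := by
  induction j with
  | zero => exact ⟨hr, rfl⟩
  | succ j ih =>
    simp only [Function.iterate_succ_apply']
    refine ⟨(hA _ ih.1).1, ?_⟩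
    rw [ih.2, Stb.σ_x]
    change (C.sys F).x (P.ρ _) ((P.ε _ : F) * φ _) = _
    rw [(hA _ ih.1).2, Int.cast_one, one_mul]

/-- The twisted case. -/
noncomputable def lrTw [Finite F] (P : SPerm C) (h : P.Ok) {φ : F ≃+* F} {q d : ℕ} (hφ : ∀ t, φ t = t ^ q)
    (hF : Nat.card F = q ^ (d + 1)) (K : Subgroup (D.group F)) (hK : (P.stb h φ).Good K)
    (h0 : ∀ g, (P.stb h φ).σ g = g → g ∈ K) (hl : ∀ r s, C.len r = C.len s)
    (h1 : ∀ r i, C.rc (P.ρ r) (P.ν i) = C.rc r i) (h2 : ∀ r, P.ρ r = r → P.ε r = 1)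
    (h3 : ∀ i, P.ε (C.sp i) = 1 ∧ P.ε (C.sp i).rev = 1) (h4 : ∀ r, P.ρ^[d + 1] r = r)
    (h5 : ∀ r, ∀ j < d + 1, 0 ≤ C.A r (P.ρ^[j] r) ∧ (P.ρ r ≠ r → 0 < j → P.ρ^[j] r ≠ r))
    (h6 : ∀ w ∈ C.W, (P.stb h φ).cj w = w → Nat.card ↥((C.sys F).Uw w ⊓ K) = q ^ C.ln w) :
    LR (C.sys F) (fixF φ) where
  T := P.stb h φ
  K := K
  good := hK
  mem := h0
  inj := C.sys_φ_inj F
  len := hl
  rc_ρ := h1
  ι := (fixF φ).subtype
  φ := φ
  f_eq _ := rfl
  e_eq r hr := Units.ext (by change ((P.ε r : ℤ) : F) = 1; rw [h2 r hr, Int.cast_one])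
  range t := ⟨fun e => ⟨⟨t, e⟩, rfl⟩, fun ⟨s, e⟩ => e ▸ s.2⟩
  d := d + 1
  per g := by
    have a : ∀ r ∈ {r | ∃ i, r = C.sp i ∨ r = (C.sp i).rev}, ∀ t,
        (P.stb h φ).σ^[d + 1] ((C.sys F).x r t) = (C.sys F).x r t := fun r hr t => by
      rw [(stb_iter P h φ ?_ hr _ t).2, h4, iter_frob hφ, pow_card' hF]
      rintro _ ⟨i, rfl | rfl⟩
      · exact ⟨⟨_, Or.inl (h.2 i)⟩, (h3 i).1⟩
      · exact ⟨⟨_, Or.inr (by rw [(h.1 _).2.1, h.2])⟩, (h3 i).2⟩
    exact DFunLike.congr_fun ((C.sys F).hom_ext_sp (g := MonoidHom.id _)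
      (f := MonoidHom.mk' (P.stb h φ).σ^[d + 1] (iterate_map_mul _ _))
      (fun i t => a _ ⟨i, Or.inl rfl⟩ t) (fun i t => a _ ⟨i, Or.inr rfl⟩ t)) g
  tr := exists_tr hφ hF
  orb r j := by
    change 0 ≤ C.A r (P.ρ^[j] r)
    rw [← Nat.mod_add_div j (d + 1), Function.iterate_add_apply, Function.iterate_mul,
      Function.iterate_fixed (h4 r)]
    exact (h5 r _ (Nat.mod_lt _ d.succ_pos)).1
  free r := (em (P.ρ r = r)).imp_right fun e j a b => (h5 r j b).2 e a
  card w hw e := by rw [h6 w hw e, card_fixF hφ hF]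

theorem gen_of_words {G : Type*} [Group G] {S : Sys C F G} {k : Type*} [Field k] (R : LR S k)
    {W : Set (List (ℕ × F))} (h : R.K = gen S W) (hW : ∀ w ∈ W, wd S w ∈ S.Up ∨ wd S w ∈ S.Um)
    (M : Subgroup R.K) (a1 : R.UK {r | C.Pos r} ≤ M) (a2 : R.UK {r | ¬ C.Pos r} ≤ M) : M = ⊤ := by
  have : gen S W ≤ M.map R.K.subtype := (gen_le S).2 fun w hw => ⟨⟨_, h ▸ wd_mem_gen S hw⟩,
    (hW w hw).elim (fun e => a1 (LR.mem_UK.2 e)) fun e => a2 (LR.mem_UK.2 e), rfl⟩
  refine eq_top_iff.2 fun g _ => ?_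
  obtain ⟨x, hx, e⟩ := this (h ▸ g.2 : (g : G) ∈ gen S W)
  exact Subtype.ext e ▸ hx

theorem tor_two {G : Type*} [Group G] {S : Sys C F G} {k : Type*} [Field k] (R : LR S k) (hd : R.d = 2)
    {c : Fˣ} (h1 : (c : F) * R.φ c = 1) (h2 : (c : F) * c ≠ 1) (r : Rt D) (h : C.A r (R.T.ρ r) = 0)
    (h' : R.T.ρ (R.T.ρ r) = r) :
    ∃ z : R.K, (z : G) ∈ S.H ∧ S.chi z r ≠ 1 ∧ ∀ s, R.T.ρ s = s → S.chi z s = 1 := by
  have a := S.h_mem r c
  have b := R.T.σ_H a
  have e : R.T.σ (R.T.σ (S.h r c)) = S.h r c := by simpa [hd] using R.per (S.h r c)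
  have f : ∀ s, S.chi (S.h r c * R.T.σ (S.h r c)) (R.T.ρ s) =
      c ^ C.A r (R.T.ρ s) * (c ^ C.A r s)⁻¹ := fun s => by
    rw [S.chi_mul a b, Stb.chi_σ a, S.chi_h, S.chi_h, map_zpow, ← inv_zpow]
    congr 2
    exact Units.ext (by rw [Stb.fu_val, R.f_eq, Units.val_inv_eq_inv_val, eq_inv_of_mul_eq_one_right h1])
  refine ⟨⟨S.h r c * R.T.σ (S.h r c), R.mem _ (by rw [map_mul, e, S.H_comm R.inj a b])⟩, mul_mem a b, ?_,
    fun s hs => by simpa [hs] using f s⟩
  have := f (R.T.ρ r)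
  rw [h', h, C.A_self, zpow_zero, inv_one, mul_one] at this
  rw [this]
  exact fun e => h2 (by rw [← sq, ← Units.val_pow_eq_pow_val, ← zpow_natCast]; exact congrArg Units.val e)

theorem e6Words_sign (q : ℕ) : ∀ w ∈ e6Words F q, wd (certE6.sys F) w ∈ (certE6.sys F).Up ∨
    wd (certE6.sys F) w ∈ (certE6.sys F).Um := by
  rintro w (⟨t, -, r, hr, rfl⟩ | ⟨t, r, hr, rfl⟩) <;> refine wd_pos_or_neg ?_ <;>
    simp only [List.map] <;> revert r <;> decide +kernel

/-- The data for `²E₆`. -/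
noncomputable def lrE6 [Finite F] {φ : F ≃+* F} {q : ℕ} (hφ : ∀ t, φ t = t ^ q) (hF : Nat.card F = q ^ 2) :
    LR (certE6.sys F) (fixF φ) :=
  lrTw symE6 symE6_ok hφ (d := 1) hF (gen (certE6.sys F) (e6Words F q)) (goodE6 hφ (frob2 hφ hF))
    (fun _ => fixE6 (goodE6 hφ (frob2 hφ hF)) (frob2 hφ hF)) lenE6_eq (by decide +kernel) (by decide +kernel)
    (fun i => (symE6_sp i).2.2) (by decide +kernel) (by decide +kernel)
    fun _ => cardUw_E6 (goodE6 hφ (frob2 hφ hF)) hφ hF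

/-- Witnesses. -/
def waT6 (i : Nd chevE6) (b : Rt chevE6) : Rt chevE6 :=
  ⟨fld (nat_lit 0x30002c00000000002e00002400000000000000002c0000000000000f00000000000000000000000000000000000000000000000000000000000000000000000000000000000000000000000000000000000000000000000000000000000000000000000000000000000000000000000000000000000000000000000000000000000000000000000000000000000000000027250000001d00000000000000000000000f000000000000000000000000001d000000000000000000000000000000000000000000000000000000000000000000000000000000000000000000000000000000000000000000000000000000000000000000000000000000000000000000000000000000000000000000000000000000000000000000000000000000) 8 255 (72 * i + b) % 72, Nat.mod_lt _ (by decide)⟩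

/-- Witnesses. -/
def wbT6 (i : Nd chevE6) (b : Rt chevE6) : Rt chevE6 :=
  ⟨fld (nat_lit 0x44003f00000000003c00003b00000000000000002e0000000000003b000000000000000000000000000000000000000000000000000000000000000000000000000000000000000000000000000000000000000000000000000000000000000000000000000000000000000000000000000000000000000000000000000000000000000000000000000000000000000000454400000044000000000000000000000040000000000000000000000000002b000000000000000000000000000000000000000000000000000000000000000000000000000000000000000000000000000000000000000000000000000000000000000000000000000000000000000000000000000000000000000000000000000000000000000000000000000000) 8 255 (72 * i + b) % 72, Nat.mod_lt _ (by decide)⟩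

/-- Witnesses. -/
def wcT6 (b : Rt chevE6) : Rt chevE6 :=
  ⟨fld (nat_lit 0x60202010101020101010000000000000000000006020101010000000000000000000000) 8 255 b % 72, Nat.mod_lt _ (by decide)⟩

theorem kdE6 [Finite F] {φ : F ≃+* F} {q : ℕ} (hφ : ∀ t, φ t = t ^ q) (hF : Nat.card F = q ^ 2) :
    (lrE6 hφ hF).KD where
  inv2 := by
    have : ∀ j, symE6.ν j = j ∨ (symE6.ν (symE6.ν j) = j ∧ certE6.A (certE6.sp j) (certE6.sp (symE6.ν j)) = 0) := by
      decide +kernel
    exact this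
  d1 i hi b hb a1 a2 := by
    have : ∀ i b, symE6.ν i = i → symE6.ρ b = b → caE6 i b = 0 → 2 ≤ certE6.ht b →
        Dc certE6 b (waT6 i b) (wbT6 i b) ∧ Alc certE6 caE6 i (waT6 i b) ∧ Alc certE6 caE6 i (wbT6 i b) := by
      decide +kernel
    obtain ⟨b1, b2, b3⟩ := this i b hi hb (by rw [← cartanE6, ← certE6.A_sp, a2]) a1
    exact ⟨_, _, funext b1, b2.al cartanE6, b3.al cartanE6⟩
  d2 i hi b hb a1 a2 := by
    have : ∀ i b, symE6.ν i = i → symE6.ρ b = b → caE6 i b = -1 → 1 ≤ certE6.rc b i →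
        Dc certE6 b (waT6 i b) (wbT6 i b) ∧ symE6.ρ (waT6 i b) = waT6 i b ∧ symE6.ρ (wbT6 i b) = wbT6 i b ∧
          0 < certE6.ht (waT6 i b) ∧ 0 < certE6.ht (wbT6 i b) := by
      decide +kernel
    obtain ⟨b1, b2⟩ := this i b hi hb (by rw [← cartanE6, ← certE6.A_sp, a2]) a1
    exact ⟨_, _, funext b1, b2⟩
  d3 i j hi hj h := by
    have : ∀ i j, symE6.ν i = i → symE6.ν j = j → i ≠ j →
        Gdc certE6 caE6 waT6 wbT6 i j ∨ Gdc certE6 caE6 waT6 wbT6 j i := by decide +kernel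
    exact (this i j hi hj h).imp (Gdc.gd cartanE6) (Gdc.gd cartanE6)
  tor r h := by
    have := Fintype.ofFinite F
    obtain ⟨t, h1, h2⟩ := Polar.PQ.exists_norm_one_sq_ne (F := F) (q := q) (by rw [← hF, Nat.card_eq_fintype_card])
    have : ∀ r, symE6.ρ r ≠ r → certE6.A r (symE6.ρ r) = 0 ∧ symE6.ρ (symE6.ρ r) = r := by decide +kernel
    exact tor_two _ rfl (c := Units.mk0 t (left_ne_zero_of_mul_eq_one h1)) (by
      change t * φ t = 1; rw [hφ]; exact h1) h2 r (this r h).1 (this r h).2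
  gen := gen_of_words _ rfl (e6Words_sign q)
  neg r h := by
    have : ∀ r : Rt chevE6, 2 * (r : ℕ) < 72 → symE6.ρ (wcT6 r) = wcT6 r ∧
      0 < certE6.ht r - certE6.A (wcT6 r) r * certE6.ht (wcT6 r) := by decide +kernel
    obtain ⟨a, b⟩ := this r (by rw [certE6.pos_iff_val] at h; exact not_le.1 h)
    exact ⟨_, a, certE6.pos_of_ht (by rwa [ht_refl])⟩

theorem boundT6 [Fintype F] {q : ℕ} (hF : Fintype.card F = q ^ 2) {n : ℕ}
    (ρ : Representation ℂ (twistedE6 F q) (Fin n → ℂ)) (hρ : ρ.IsIrreducible) (hn : 2 ≤ n) :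
    (q - 1) * (q + 1) * q ^ 10 * 2 ≤ q * n ∨
      (q - 1) * (List.map (q ^ ·) [0, 2, 0, 1, 3, 4, 4, 5, 6, 8, 9, 10]).sum + 2 ≤ n := by
  classical
  rw [← Nat.card_eq_fintype_card] at hF
  obtain ⟨φ, hφ⟩ := exists_frob F hF
  have := Fintype.ofFinite (fixF φ)
  obtain ⟨π, a1, -, -, a2⟩ := exists_uni (Γ := (lrE6 hφ hF).K) (eqE6 F q) ρ hρ hn
  have h := (kdE6 hφ hF).bound a1 (psi_ne_one (fixF φ)) a2
    (![⟨1, by decide⟩, ⟨3, by decide⟩] : Fin 2 → Nd chevE6) (by decide +kernel)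
    (by change ∀ i, symE6.ν i = i ↔ _; decide +kernel) (by decide +kernel)
    ((List.finRange chevE6.nroots).filter fun r : Rt chevE6 => 0 < certE6.ht r ∧ symE6.ρ r = r).toFinset fun b hb =>
      have := of_decide_eq_true (List.mem_filter.1 (List.mem_toFinset.1 hb)).2
      ⟨certE6.pos_of_ht this.1, this.2⟩
  rw [finrank_euclideanSpace_fin, ← Nat.card_eq_fintype_card, card_fixF hφ hF,
    show (certE6.ht certE6.top - 1).toNat = 10 by decide +kernel] at h
  refine h.imp_right fun ⟨Q, b1, b2⟩ => le_trans ?_ b2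
  rw [List.sum_toFinset _ ((List.nodup_finRange _).filter _), show [0, 2, 0, 1, 3, 4, 4, 5, 6, 8, 9, 10] =
    ((List.finRange chevE6.nroots).filter fun r : Rt chevE6 => 0 < certE6.ht r ∧ symE6.ρ r = r).map
      (fun r => (certE6.ht r - 1).toNat) by decide +kernel, List.map_map]
  exact Nat.add_le_add_left (Q.card_le_chain (N := 0) fun i j => (b1 i j).trans (by revert i j; decide +kernel)) _

end Cfsg.Agent.Forms
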