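import Cfsg.Agent.Forms.StA

/-!
Lower bounds for the dimension of the space of vectors fixed by a maximal unipotent subgroup in a
representation in which long root subgroups have minimal multiplicities.
-/

set_option autoImplicit false

namespace Cfsg.Agent.Forms

open Module Finset Cfsg.Agent.GLn MulAut
open scoped InnerProductSpace

variable {k Γ : Type*} [Field k] [Fintype k] [Group Γ] {V : Type*} [NormedAddCommGroup V]
  [InnerProductSpace ℂ V] [FiniteDimensional ℂ V] {ρ : Representation ℂ Γ V} {ψ : AddChar k ℂ}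

theorem ap_Px_conj {x y : k → Γ} {g : Γ} (a : kˣ) (h : ∀ u, conj g (x u) = y (a * u)) (c : k)
    (v : V) : ρ g (Px ρ ψ x (a * c) v) = Px ρ ψ y c (ρ g v) := by
  rw [Px_apply, Px_apply, map_smul, map_sum, ← Equiv.sum_comp (Units.mulLeft a) fun t =>
    ψ (-(t * c)) • ρ (y t) (ρ g v)]
  congr 1
  refine sum_congr rfl fun t _ => ?_
  rw [map_smul, ap_swap (conj_swap (h t)), Units.mulLeft_apply, mul_left_comm, mul_assoc]

/-- Weyl elements. -/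
def nOf (x y : k → Γ) (t : kˣ) : Γ := x t * y (-(t⁻¹ : kˣ)) * x t

/-- Torus elements. -/
def hOf (x y : k → Γ) (t : kˣ) : Γ := (nOf x y 1)⁻¹ * nOf x y t

variable (ρ ψ) in
/-- The data for the Hecke algebra argument. -/
structure HK (I : Type*) where
  x : I → k → Γ
  y : I → k → Γ
  adj : I → I → Prop
  Y : Submodule ℂ V
  N : I → Submodule ℂ V
  uni : IsUni ρ
  hψ : ψ ≠ 1
  symm : ∀ {i j}, adj i j → adj j i
  nbr : ∀ i, ∃ j, adj i j
  x_mem : ∀ i t, x i t ∈ Sts ρ (N i)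
  y_mem : ∀ i t, y i t ∈ Sts ρ (N i)
  Y_eq : ∀ i, Y = N i ⊓ Wx ρ ψ (x i) 0
  line : ∀ i, finrank ℂ ↥(N i ⊓ Wx ρ ψ (x i) 1) ≤ 1
  ne : ∀ i, ∃ c ≠ 0, ∃ v ∈ N i, v ≠ 0 ∧ v ∈ Wx ρ ψ (x i) c
  tor : ∀ i j s t, hOf (x i) (y i) s * hOf (x j) (y j) t = hOf (x j) (y j) t * hOf (x i) (y i) s
  a2 : ∀ i j, adj i j → ∃ (A : StA (Fin 3) k Γ) (M : Submodule ℂ V), x i = A.x 0 1 ∧ y i = A.x 1 0 ∧
    x j = A.x 1 2 ∧ y j = A.x 2 1 ∧ A.Inv ρ M ∧ A.Kl ρ ψ M 0 1 2 ∧ A.Kr ρ ψ M 0 1 2 ∧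
    N j ≤ M ⊓ Wx ρ ψ (A.x 0 2) 0
  a11 : ∀ i j, i ≠ j → ¬ adj i j → (∀ s t, x i s * x j t = x j t * x i s) ∧
    (∀ s t, x i s * y j t = y j t * x i s) ∧ (∀ s t, y i s * y j t = y j t * y i s) ∧
    ∃ M : Submodule ℂ V, Y ≤ M ∧ (∀ t, x i t ∈ Sts ρ M) ∧ (∀ t, y i t ∈ Sts ρ M) ∧
      (∀ t, x j t ∈ Sts ρ M) ∧ (∀ t, y j t ∈ Sts ρ M) ∧
      ∀ c ≠ 0, ∀ v ∈ M, v ∈ Wx ρ ψ (x i) c → v ∈ Wx ρ ψ (x j) 0

namespace HK

variable {I : Type*} (H : HK ρ ψ I)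

/-- Weyl elements. -/
def n (i : I) (t : kˣ) : Γ := nOf (H.x i) (H.y i) t

/-- Torus elements. -/
def hh (i : I) (t : kˣ) : Γ := hOf (H.x i) (H.y i) t

/-- Hecke operators. -/
noncomputable def T (i : I) : End ℂ V := Sm ρ (H.x i) * ρ (H.n i 1)

theorem T_apply (i : I) (v : V) : H.T i v = Sm ρ (H.x i) (ρ (H.n i 1) v) := rfl

theorem hh_eq (i : I) (t : kˣ) : H.hh i t = (H.n i 1)⁻¹ * H.n i t := rfl

theorem loc {i j : I} (h : H.adj i j) : ∃ (A : StA (Fin 3) k Γ) (M : Submodule ℂ V),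
    H.x i = A.x 0 1 ∧ H.y i = A.x 1 0 ∧ H.x j = A.x 1 2 ∧ H.n i = A.n 0 1 ∧ H.n j = A.n 1 2 ∧
    H.hh i = A.hh 0 1 ∧ H.hh j = A.hh 1 2 ∧ H.T i = A.T ρ 0 1 ∧ H.T j = A.T ρ 1 2 ∧
    A.Inv ρ M ∧ A.Kl ρ ψ M 0 1 2 ∧ A.Kr ρ ψ M 0 1 2 ∧ H.N j ≤ M ⊓ Wx ρ ψ (A.x 0 2) 0 := by
  obtain ⟨A, M, h1, h2, h3, h4, h5⟩ := H.a2 i j h
  refine ⟨A, M, h1, h2, h3, ?_, ?_, ?_, ?_, ?_, ?_, h5⟩ <;>
    simp only [funext_iff, n, hh, T, h1, h2, h3, h4] <;> intros <;> rfl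

theorem add (i : I) : Ad1 (H.x i) := by
  obtain ⟨j, hj⟩ := H.nbr i
  obtain ⟨A, M, h1, -⟩ := H.loc hj
  exact h1 ▸ A.add _ _

theorem ne_of_adj {i j : I} (h : H.adj i j) : i ≠ j := by
  rintro rfl
  obtain ⟨A, M, h1, -, h2, -, -, -, -, -, -, h3, h4, -, h5⟩ := H.loc h
  obtain ⟨c, hc, v, hv, h0, h6⟩ := H.ne i
  exact h0 (eq_zero_of_Wx H.hψ hc h6 (h2 ▸ h4 c hc v (h5 hv).1 (h1 ▸ h6) (h5 hv).2))

theorem n_x (i : I) (t : kˣ) (u : k) :
    conj (H.n i t) (H.x i u) = H.y i ((-(t⁻¹ * t⁻¹) : kˣ) * u) := by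
  obtain ⟨j, hj⟩ := H.nbr i
  obtain ⟨A, M, h1, h2, -, h3, -⟩ := H.loc hj
  rw [h1, h2, h3, A.n_ij d3_fin]; simp

theorem n_y (i : I) (t : kˣ) (u : k) : conj (H.n i t) (H.y i u) = H.x i ((-(t * t) : kˣ) * u) := by
  obtain ⟨j, hj⟩ := H.nbr i
  obtain ⟨A, M, h1, h2, -, h3, -⟩ := H.loc hj
  rw [h1, h2, h3, A.n_ji d3_fin]; simp

theorem hh_x (i j : I) (t : kˣ) : ∃ a : kˣ, ∀ u, conj (H.hh i t) (H.x j u) = H.x j (a * u) := by
  by_cases h : i = j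
  · subst h
    obtain ⟨j, hj⟩ := H.nbr i
    obtain ⟨A, M, h1, -, -, -, -, h3, -⟩ := H.loc hj
    exact ⟨t⁻¹ * t⁻¹, fun u => by rw [h1, h3, A.hh_ij d3_fin, Units.val_mul]⟩
  by_cases h' : H.adj i j
  · obtain ⟨A, M, -, -, h1, -, -, h3, -⟩ := H.loc h'
    exact ⟨t, fun u => by rw [h1, h3, A.hh_jl d3_fin]⟩
  obtain ⟨h1, -⟩ := H.a11 i j h h'
  obtain ⟨-, h2, -⟩ := H.a11 j i (Ne.symm h) fun e => h' (H.symm e)
  refine ⟨1, fun u => conj_of_swap ?_⟩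
  have e : ∀ t, Commute (H.n i t) (H.x j u) := fun t =>
    (Commute.mul_left (h1 _ _) (h2 _ _).symm).mul_left (h1 _ _)
  simpa [hh_eq] using ((e 1).inv_left.mul_left (e t)).eq

theorem n_mem {K : Subgroup Γ} {i : I} (h : ∀ t, H.x i t ∈ K) (h' : ∀ t, H.y i t ∈ K) (t : kˣ) :
    H.n i t ∈ K := mul_mem (mul_mem (h _) (h' _)) (h _)

theorem hh_mem {K : Subgroup Γ} {i : I} (h : ∀ t, H.x i t ∈ K) (h' : ∀ t, H.y i t ∈ K) (t : kˣ) :
    H.hh i t ∈ K := mul_mem (inv_mem (H.n_mem h h' _)) (H.n_mem h h' _)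

theorem Y_N (i : I) {v : V} (hv : v ∈ H.Y) : v ∈ H.N i := (H.Y_eq i ▸ hv).1

theorem Y_x (i : I) {v : V} (hv : v ∈ H.Y) : v ∈ Wx ρ ψ (H.x i) 0 := (H.Y_eq i ▸ hv).2

theorem n_N (i : I) (t : kˣ) {v : V} (hv : v ∈ H.N i) : ρ (H.n i t) v ∈ H.N i :=
  H.n_mem (H.x_mem i) (H.y_mem i) t v hv

theorem T_mem (i : I) {v : V} (hv : v ∈ H.N i) : H.T i v ∈ H.Y := by
  rw [H.Y_eq i]
  exact ⟨Sm_mem fun t => H.x_mem i t _ (H.n_N i 1 hv), (H.add i).Sm_mem _⟩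

theorem hh_Y (i : I) (t : kˣ) {v : V} (hv : v ∈ H.Y) : ρ (H.hh i t) v ∈ H.Y := by
  obtain ⟨a, ha⟩ := H.hh_x i i t
  rw [H.Y_eq i] at hv ⊢
  exact ⟨H.hh_mem (H.x_mem i) (H.y_mem i) t v hv.1, Wx_conj0 a ha hv.2⟩

theorem comm_n {i j : I} (h : i ≠ j) (h' : ¬ H.adj i j) {g : Γ}
    (hg : g ∈ Subgroup.closure (Set.range (H.x i) ∪ Set.range (H.y i))) (t : k) :
    g * H.x j t = H.x j t * g ∧ g * H.y j t = H.y j t * g := by
  obtain ⟨h1, h2, h3, -⟩ := H.a11 i j h h'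
  obtain ⟨-, h4, -⟩ := H.a11 j i (Ne.symm h) fun e => h' (H.symm e)
  have : Subgroup.closure (Set.range (H.x i) ∪ Set.range (H.y i)) ≤
      Subgroup.centralizer {H.x j t, H.y j t} := by
    rw [Subgroup.closure_le]
    rintro _ (⟨s, rfl⟩ | ⟨s, rfl⟩) _ (rfl | rfl)
    exacts [(h1 _ _).symm, (h2 _ _).symm, h4 _ _, (h3 _ _).symm]
  exact ⟨(this hg _ (by simp)).symm, (this hg _ (by simp)).symm⟩

theorem x_cl (i : I) (t : k) : H.x i t ∈ Subgroup.closure (Set.range (H.x i) ∪ Set.range (H.y i)) :=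
  Subgroup.subset_closure (Or.inl ⟨t, rfl⟩)

theorem y_cl (i : I) (t : k) : H.y i t ∈ Subgroup.closure (Set.range (H.x i) ∪ Set.range (H.y i)) :=
  Subgroup.subset_closure (Or.inr ⟨t, rfl⟩)

theorem comm_nn {i j : I} (h : i ≠ j) (h' : ¬ H.adj i j) {g : Γ}
    (hg : g ∈ Subgroup.closure (Set.range (H.x i) ∪ Set.range (H.y i))) (t : kˣ) :
    g * H.n j t = H.n j t * g :=
  ((Commute.mul_right (H.comm_n h h' hg _).1 (H.comm_n h h' hg _).2).mul_right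
    (H.comm_n h h' hg _).1).eq

theorem comm_T {i j : I} (h : i ≠ j) (h' : ¬ H.adj i j) {g : Γ}
    (hg : g ∈ Subgroup.closure (Set.range (H.x i) ∪ Set.range (H.y i))) (v : V) :
    ρ g (H.T j v) = H.T j (ρ g v) := by
  rw [T_apply, ap_Sm_comm fun t => (H.comm_n h h' hg t).1, ap_swap (H.comm_nn h h' hg 1), T_apply]

theorem fix_of_far {i j : I} (h : i ≠ j) (h' : ¬ H.adj i j) {v : V} (hv : v ∈ H.Y) {c : k}
    (hc : c ≠ 0) : (∀ t, H.x j t ∈ Stv ρ (Px ρ ψ (H.x i) c (ρ (H.n i 1) v))) ∧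
      ∀ t, H.y j t ∈ Stv ρ (Px ρ ψ (H.x i) c (ρ (H.n i 1) v)) := by
  obtain ⟨-, -, -, M, h1, h2, h3, h4, h5, h6⟩ := H.a11 i j h h'
  have a1 : Px ρ ψ (H.x i) c (ρ (H.n i 1) v) ∈ M :=
    Px_mem fun t => h2 t _ (H.n_mem h2 h3 1 v (h1 hv))
  have a2 := (H.add i).Px_mem (ρ := ρ) (ψ := ψ) c (ρ (H.n i 1) v)
  refine ⟨mem_Wx_zero.1 (h6 c hc _ a1 a2), (mem_Wx_zero (ψ := ψ)).1 ?_⟩
  have := Wx_conj0 _ (H.n_x j 1) (h6 c hc _ (inv_mem (H.n_mem h4 h5 1) _ a1)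
    (Wx_comm (fun t => (H.comm_n h.symm (fun e => h' (H.symm e))
      (inv_mem (H.n_mem (H.x_cl j) (H.y_cl j) 1)) t).1.symm) a2))
  rwa [ap_inv] at this

theorem mem_Wx_of_Px (i : I) {v : V} (h : ∀ c ≠ 0, Px ρ ψ (H.x i) c v = 0) :
    v ∈ Wx ρ ψ (H.x i) 0 := by
  classical
  rw [← (H.add i).sum_Px ρ H.hψ v, sum_eq_single 0 (fun c _ => h c) (by simp)]
  exact (H.add i).Px_mem _ _

section CaseA

variable (hA : ∀ i t, ∀ v ∈ H.Y, ρ (H.hh i t) v = v)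
include hA

theorem n_inv_ap (i : I) {v : V} (hv : v ∈ H.Y) : ρ (H.n i 1)⁻¹ v = ρ (H.n i 1) v := by
  obtain ⟨j, hj⟩ := H.nbr i
  obtain ⟨A, M, -, -, -, h1, -, h2, -⟩ := H.loc hj
  rw [h1, ← A.n_neg, A.n_eq, mul_ap, ← h2, hA i _ v hv]

theorem T_T (i : I) {v : V} (hv : v ∈ H.Y) :
    H.T i (H.T i v) = (Fintype.card k : ℂ) • v + ((Fintype.card k : ℂ) - 1) • H.T i v := by
  obtain ⟨j, hj⟩ := H.nbr i
  obtain ⟨A, M, h1, -, -, -, -, h2, -, h3, -⟩ := H.loc hj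
  rw [h3]
  exact A.T_T d3_fin (h1 ▸ H.Y_x i hv) fun u => h2 ▸ hA i u v hv

theorem T_eq_of_Px (i : I) {v : V} (hv : v ∈ H.Y) (h : Px ρ ψ (H.x i) 1 (ρ (H.n i 1) v) = 0) :
    H.T i v = (Fintype.card k : ℂ) • v := by
  have h1 : ρ (H.n i 1) v ∈ Wx ρ ψ (H.x i) 0 := H.mem_Wx_of_Px i fun c hc => by
    obtain ⟨j, hj⟩ := H.nbr i
    obtain ⟨A, M, h1, -, -, h2, -, h3, h4, -⟩ := H.loc hj
    have e := ap_Px_conj (ρ := ρ) (ψ := ψ) _ (A.hh_li d3_fin.p231 (Units.mk0 c hc)) 1 (ρ (H.n i 1) v)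
    rw [ap_conj, h2, ← A.hh_mul d3_fin, ← h2, ← h3, ← h4, mul_ap, hA _ _ v hv, hA _ _ v hv, ← h1, h,
      ap_eq_zero] at e
    simpa using e
  have h2 : ρ (H.n i 1) v ∈ H.Y := by rw [H.Y_eq i]; exact ⟨H.n_N i 1 (H.Y_N i hv), h1⟩
  have h3 := H.T_T hA i hv
  have h4 : H.T i v = (Fintype.card k : ℂ) • ρ (H.n i 1) v := Sm_of_fix (mem_Wx_zero.1 h1)
  have h5 : H.T i (ρ (H.n i 1) v) = (Fintype.card k : ℂ) • v := by
    rw [T_apply, ← H.n_inv_ap hA i h2, inv_ap, Sm_of_fix (mem_Wx_zero.1 (H.Y_x i hv))]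
  have c1 : (Fintype.card k : ℂ) - 1 ≠ 0 :=
    sub_ne_zero.2 (by exact_mod_cast Fintype.one_lt_card.ne')
  rw [h4, map_smul, h5] at h3
  rw [h4]
  exact smul_right_injective V c1 (by linear_combination (norm := module) -h3)

theorem inner_T (i : I) {v w : V} (hv : v ∈ H.Y) (hw : w ∈ H.Y) :
    ⟪H.T i v, w⟫_ℂ = ⟪v, H.T i w⟫_ℂ := by
  rw [← inner_conj_symm, T_apply, T_apply, inner_Sm H.uni (mem_Wx_zero.1 (H.Y_x i hw)),
    inner_Sm H.uni (mem_Wx_zero.1 (H.Y_x i hv)), map_mul, inner_conj_symm, H.uni.inner_left,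
    H.n_inv_ap hA i hw, map_natCast]

theorem exists_refl (i : I) : ∃ f ∈ H.Y, ⟪f, f⟫_ℂ = 1 ∧ H.T i f = -f ∧
    ∀ v ∈ H.Y, ∃ c : ℂ, H.T i v = (Fintype.card k : ℂ) • v + c • f := by
  have h1 : ∃ v ∈ H.Y, H.T i v - (Fintype.card k : ℂ) • v ≠ 0 := by
    by_contra! h
    obtain ⟨c, hc, v, hv, h0, h1⟩ := H.ne i
    obtain ⟨j, hj⟩ := H.nbr i
    obtain ⟨A, M, -, -, a1, -, -, -, -, -, a2, a3, a4, a5, a6⟩ := H.loc (H.symm hj)
    refine h0 (StA.non_cusp H.hψ d3_fin a3 a4 a5 hc (a6 hv).1 (a1 ▸ h1) (a6 hv).2 ?_)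
    have e := H.T_mem i hv
    have e1 := mem_Wx_zero.1 (H.Y_x i e)
    have e2 : ρ (H.n i 1) (H.T i v) = H.T i v := eq_of_inner_eq H.uni
      (mul_left_cancel₀ (cardk_ne (k := k)) (by
        rw [← inner_Sm H.uni e1, ← T_apply, sub_eq_zero.1 (h _ e), inner_smul_right]))
    rw [← a2, ← inner_self_eq_zero (𝕜 := ℂ)]
    conv_lhs => enter [3]; rw [T_apply]
    rw [inner_Sm H.uni e1, inner_fix H.uni e2,
      inner_eq_zero_of_Wx H.uni H.hψ hc.symm (H.Y_x i e) h1, mul_zero]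
  obtain ⟨v, hv, h0⟩ := h1
  have h2 : ∀ w ∈ H.Y, Px ρ ψ (H.x i) 1 (ρ (H.n i 1) w) ∈ H.N i ⊓ Wx ρ ψ (H.x i) 1 := fun w hw =>
    ⟨Px_mem fun t => H.x_mem i t _ (H.n_N i 1 (H.Y_N i hw)), (H.add i).Px_mem _ _⟩
  have h3 : ((‖H.T i v - (Fintype.card k : ℂ) • v‖ : ℝ) : ℂ) ≠ 0 := by simpa using h0
  refine ⟨((‖H.T i v - (Fintype.card k : ℂ) • v‖ : ℝ) : ℂ)⁻¹ • (H.T i v - (Fintype.card k : ℂ) • v),
    H.Y.smul_mem _ (sub_mem (H.T_mem i (H.Y_N i hv)) (H.Y.smul_mem _ hv)), ?_, ?_, fun w hw => ?_⟩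
  · rw [inner_smul_left, inner_smul_right, inner_self_eq_norm_sq_to_K, map_inv₀, Complex.conj_ofReal]
    change _ * (_ * ((‖_‖ : ℝ) : ℂ) ^ 2) = _
    field_simp
  · rw [map_smul, map_sub, map_smul, H.T_T hA i hv]; module
  · obtain ⟨c, hc⟩ := exists_smul_of_line (H.line i) (h2 v hv)
      (fun e => h0 (sub_eq_zero.2 (H.T_eq_of_Px hA i hv e))) (h2 w hw)
    have := H.T_eq_of_Px hA i (sub_mem hw (H.Y.smul_mem c hv)) (by
      rw [map_sub, map_sub, hc, map_smul, map_smul, sub_self])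
    refine ⟨c * ‖H.T i v - (Fintype.card k : ℂ) • v‖, ?_⟩
    rw [smul_smul, mul_inv_cancel_right₀ h3]
    rw [map_sub, map_smul] at this
    linear_combination (norm := module) this

theorem card_le [Fintype I] (m : I → ℝ) (hm : ∀ i, 0 < m i) [∀ i, DecidablePred (H.adj i)]
    (hm' : ∀ i, ∑ j with H.adj i j, m j ≤ 2 * m i) : Fintype.card I ≤ finrank ℂ H.Y := by
  classical
  choose f f1 f2 f3 f4 using H.exists_refl hA
  have hq : (2 : ℝ) ≤ Fintype.card k := by exact_mod_cast Fintype.one_lt_card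
  have c1 : (Fintype.card k : ℂ) + 1 ≠ 0 := by exact_mod_cast (Fintype.card k).succ_ne_zero
  have f0 : ∀ i, f i ≠ 0 := fun i e => by simpa [e] using f2 i
  have g1 : ∀ i j (c : ℂ), H.T i (f j) = (Fintype.card k : ℂ) • f j + c • f i →
      c = -((Fintype.card k : ℂ) + 1) * ⟪f i, f j⟫_ℂ := fun i j c h => by
    have := H.inner_T hA i (f1 i) (f1 j)
    rw [f3, h, inner_neg_left, inner_add_right, inner_smul_right, inner_smul_right, f2] at this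
    linear_combination -this
  have g2 : ∀ i j, i ≠ j → ¬ H.adj i j → ⟪f j, f i⟫_ℂ = 0 := fun i j h h' => by
    obtain ⟨c, hc⟩ := f4 j _ (f1 i)
    have e := g1 _ _ _ hc
    by_contra h0
    have hc0 : c ≠ 0 := e ▸ mul_ne_zero (neg_ne_zero.2 c1) h0
    have e1 : ∀ v, H.T i (H.T j v) = H.T j (H.T i v) := fun v => by
      rw [H.T_apply i, H.comm_T h h' (H.n_mem (H.x_cl i) (H.y_cl i) 1), H.T_apply i, Sm_apply,
        Sm_apply, map_sum]
      exact sum_congr rfl fun t _ => H.comm_T h h' (H.x_cl i t) _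
    have e2 : H.T i (f j) = -f j := smul_right_injective V hc0 (by
      have := e1 (f i)
      rw [f3, map_neg, hc, map_add, map_smul, map_smul, f3] at this
      linear_combination (norm := module) this)
    obtain ⟨a1, a2⟩ := H.fix_of_far h h' (f1 j) one_ne_zero
    have e3 : H.T j (Px ρ ψ (H.x i) 1 (ρ (H.n i 1) (f j))) =
        (Fintype.card k : ℂ) • Px ρ ψ (H.x i) 1 (ρ (H.n i 1) (f j)) := by
      rw [T_apply, mem_Stv.1 (H.n_mem a1 a2 1), Sm_of_fix a1]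
    have e4 : H.T j (Px ρ ψ (H.x i) 1 (ρ (H.n i 1) (f j))) =
        -Px ρ ψ (H.x i) 1 (ρ (H.n i 1) (f j)) := by
      simp only [Px_apply, map_smul, map_sum, ← H.comm_T h h' (H.x_cl i _),
        ← H.comm_T h h' (H.n_mem (H.x_cl i) (H.y_cl i) 1), f3, map_neg, smul_neg, sum_neg_distrib]
    have e5 := H.T_eq_of_Px hA i (f1 j) (smul_right_injective V c1 (by
      linear_combination (norm := module) e4 - e3))
    exact f0 j (smul_right_injective V c1 (by linear_combination (norm := module) e2 - e5))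
  have g3 : ∀ i j, H.adj i j → ‖⟪f i, f j⟫_ℂ‖ ≤ √(Fintype.card k) / (Fintype.card k + 1) :=
    fun i j h => by
    obtain ⟨c, hc⟩ := f4 i _ (f1 j)
    obtain ⟨d, hd⟩ := f4 j _ (f1 i)
    obtain ⟨A, M, a1, -, -, -, -, a2, a3, a4, a5, a6, a7, -, a8⟩ := H.loc h
    have e1 := A.T_braid (ρ := ρ) d3_fin (f i)
    rw [← a4, ← a5] at e1
    simp only [f3, hc, hd, map_add, map_smul, map_neg] at e1
    have e2 : c * d = Fintype.card k := by
      by_contra h0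
      have e3 : ((Fintype.card k : ℂ) + 1) • f i + d • f j = 0 :=
        smul_right_injective V (sub_ne_zero.2 h0) (by linear_combination (norm := module) -e1)
      exact f0 i (StA.no_St H.hψ d3_fin a6 a7 (a8 (H.Y_N j (f1 i))).1 (a1 ▸ H.Y_x i (f1 i))
        (a8 (H.Y_N j (f1 i))).2 (fun u => a2 ▸ hA i u _ (f1 i)) (fun u => a3 ▸ hA j u _ (f1 i))
        (a4 ▸ f3 i) (a5 ▸ (by rw [hd]; linear_combination (norm := module) e3)))
    rw [g1 _ _ _ hc, g1 _ _ _ hd] at e2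
    have e3 := congrArg norm e2
    rw [norm_mul, norm_mul, norm_mul, norm_neg, norm_inner_symm (f j), Complex.norm_natCast,
      show ‖(Fintype.card k : ℂ) + 1‖ = Fintype.card k + 1 by exact_mod_cast Complex.norm_natCast _]
      at e3
    rw [le_div_iff₀ (by linarith), mul_comm]
    exact Real.le_sqrt_of_sq_le (by rw [sq, e3])
  have g4 : √(Fintype.card k) / ((Fintype.card k : ℝ) + 1) < 1 / 2 := by
    rw [div_lt_div_iff₀ (by linarith) (by norm_num), one_mul, ← lt_div_iff₀ (by norm_num),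
      Real.sqrt_lt' (by linarith)]
    nlinarith
  have hli : LinearIndependent ℂ fun i => (⟨f i, f1 i⟩ : H.Y) := by
    rw [Fintype.linearIndependent_iff]
    intro a ha i
    replace ha : ∑ i, a i • f i = 0 := by simpa using congrArg Subtype.val ha
    obtain ⟨i₀, -, hi⟩ := exists_max_image univ (fun i => ‖a i‖ / m i) ⟨i, mem_univ _⟩
    have e1 := congrArg (fun z => ⟪f i₀, z⟫_ℂ) ha
    simp only [inner_sum, inner_smul_right, inner_zero_right] at e1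
    rw [← add_sum_erase _ _ (mem_univ i₀), f2, mul_one, ← sum_filter_add_sum_filter_not _ (H.adj i₀),
      sum_eq_zero (s := filter (fun j => ¬ H.adj i₀ j) _) (fun j hj => by
        rw [g2 j i₀ (ne_of_mem_erase (mem_filter.1 hj).1) fun e => (mem_filter.1 hj).2 (H.symm e),
          mul_zero]), add_zero, add_eq_zero_iff_eq_neg] at e1
    have e2 : 0 ≤ ‖a i₀‖ / m i₀ := div_nonneg (norm_nonneg _) (hm _).le
    have e3 : ‖a i₀‖ ≤ ‖a i₀‖ / m i₀ * (√(Fintype.card k) / (Fintype.card k + 1)) * (2 * m i₀) := by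
      conv_lhs => rw [e1, norm_neg]
      refine (norm_sum_le _ _).trans (le_trans ?_ (mul_le_mul_of_nonneg_left (hm' i₀) (by positivity)))
      rw [mul_sum]
      refine (sum_le_sum fun j hj => ?_).trans (sum_le_sum_of_subset_of_nonneg
        (filter_subset_filter _ (subset_univ _)) fun j _ _ => by have := hm j; positivity)
      rw [norm_mul, mul_right_comm]
      exact mul_le_mul ((div_le_iff₀ (hm j)).1 (hi j (mem_univ _))) (g3 _ _ (mem_filter.1 hj).2)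
        (norm_nonneg _) (by have := hm j; positivity)
    have e4 : ‖a i₀‖ = 0 := by
      rw [mul_right_comm, mul_left_comm, div_mul_cancel₀ _ (hm _).ne'] at e3
      nlinarith [norm_nonneg (a i₀)]
    have e5 := hi i (mem_univ _)
    rw [e4, zero_div, div_le_iff₀ (hm _), zero_mul] at e5
    exact norm_le_zero_iff.1 e5
  exact hli.fintype_card_le_finrank

end CaseA

/-- Weights of the torus. -/
def Wt' (p : I → kˣ → ℂ) : Prop := ∃ y ∈ H.Y, y ≠ 0 ∧ ∀ i t, ρ (H.hh i t) y = p i t • y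

theorem hh_comm (i j : I) (s t : kˣ) : H.hh i s * H.hh j t = H.hh j t * H.hh i s := H.tor i j s t

theorem n_hh (i : I) (t : kˣ) : (H.n i 1)⁻¹ * H.hh i t * H.n i 1 = (H.hh i t)⁻¹ := by
  obtain ⟨j, hj⟩ := H.nbr i
  have e := H.hh_comm j i (-1) t
  obtain ⟨A, M, -, -, -, h1, -, h2, h3, -⟩ := H.loc hj
  have e1 : ∀ t, conj (A.hh 1 2 (-1)) (A.n 0 1 t) = (A.n 0 1 t)⁻¹ := fun t => by
    rw [← A.n_neg]
    conv_lhs => rw [StA.n, map_mul, map_mul, A.hh_li d3_fin.p231, A.hh_il d3_fin.p231]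
    simp [StA.n]
  rw [h2, h3] at e
  have e2 := conj_of_swap e
  rw [StA.hh.eq_1 A 0 1, map_mul, map_inv, e1, e1, inv_inv] at e2
  rw [h1, h2, StA.hh, ← e2]
  nth_rw 2 [e2]
  group

theorem exists_wt [Finite Γ] (hA : ¬ ∀ i t, ∀ v ∈ H.Y, ρ (H.hh i t) v = v) :
    ∃ p, H.Wt' p ∧ ∃ i, p i ≠ 1 := by
  push Not at hA
  obtain ⟨i, t, v, hv, h0⟩ := hA
  obtain ⟨χ, y, h1, h2, h3⟩ := exists_weight_ne_one (K := ℂ) (M := H.Y)
    (fun a : I × kˣ => (ρ (H.hh a.1 a.2)).restrict fun _ h => H.hh_Y a.1 a.2 h)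
    (fun a b x => Subtype.ext (ap_swap (H.hh_comm _ _ _ _) x.1)) (i₀ := (i, t))
    (n := Nat.card Γ) (Nat.cast_ne_zero.2 Nat.card_pos.ne') (by
      ext x
      rw [Module.End.pow_restrict, LinearMap.restrict_coe_apply, ← map_pow, pow_card_eq_one', map_one]
      rfl) fun e => h0 (congrArg Subtype.val (LinearMap.congr_fun e ⟨v, hv⟩))
  exact ⟨fun i t => χ (i, t), ⟨y, y.2, fun e => h1 (Subtype.ext e),
    fun j s => congrArg Subtype.val (mem_wsp.1 h2 (j, s))⟩, i, fun e => h3 (congrFun e t)⟩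

variable {H}

theorem Wt'.ne {p : I → kˣ → ℂ} (h : H.Wt' p) (i : I) (t : kˣ) : p i t ≠ 0 := fun e => by
  obtain ⟨y, -, h1, h2⟩ := h
  exact h1 (ap_eq_zero.1 (by rw [h2 i t, e, zero_smul]))

theorem Wt'.step {p : I → kˣ → ℂ} (h : H.Wt' p) (j : I) : ∃ p', H.Wt' p' ∧ p' j = (p j)⁻¹ ∧
    (∀ i, H.adj j i → p' i = p j * p i) ∧ ∀ i, i ≠ j → ¬ H.adj j i → p' i = p i := by
  classical
  have hp := h.ne
  obtain ⟨y, h0, h1, h2⟩ := h
  have e : ∀ i t (c : ℂ), ρ ((H.n j 1)⁻¹ * H.hh i t * H.n j 1) y = c • y →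
      ρ (H.hh i t) (H.T j y) = c • H.T j y := fun i t c e => by
    obtain ⟨a, ha⟩ := H.hh_x i j t
    rw [T_apply, ap_Sm_conj a ha, ap_conj, e, map_smul, map_smul]
  refine ⟨fun i => if i = j then (p j)⁻¹ else if H.adj j i then p j * p i else p i,
    ⟨H.T j y, H.T_mem j (H.Y_N j h0), ?_, fun i t => e _ _ _ ?_⟩, by simp,
    fun i hi => by simp [hi, (H.ne_of_adj hi).symm], fun i hi hi' => by simp [hi, hi']⟩
  · obtain ⟨i, hi⟩ := H.nbr j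
    obtain ⟨A, M, a1, -, -, -, -, a2, -, a3, -⟩ := H.loc hi
    exact a3 ▸ A.T_ne_zero d3_fin (a1 ▸ H.Y_x j h0) h1 fun u => ⟨_, a2 ▸ h2 j u⟩
  dsimp only
  split_ifs with a1 a2
  · subst a1
    rw [n_hh, Pi.inv_apply, eq_inv_smul_iff₀ (hp _ _), ← map_smul, ← h2, inv_ap]
  · obtain ⟨A, M, -, -, -, b1, -, b2, b3, -⟩ := H.loc a2
    rw [b1, b3, ← A.hh_mul d3_fin, ← b2, ← b3, mul_ap, h2, map_smul, h2, smul_smul, mul_comm]
    rfl
  · rw [mul_assoc, H.comm_nn a1 (fun e => a2 (H.symm e)) (H.hh_mem (H.x_cl i) (H.y_cl i) t),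
      inv_mul_cancel_left, h2]

theorem Wt'.clique {p : I → kˣ → ℂ} (h : H.Wt' p) {i j : I} (hi : p i ≠ 1) (hj : p j ≠ 1) :
    i = j ∨ H.adj i j := by
  by_contra! hn
  obtain ⟨y, h0, h1, h2⟩ := h
  obtain ⟨t, ht⟩ := Function.ne_iff.1 hj
  have e1 : ρ (H.n i 1) y ∈ Wx ρ ψ (H.x i) 0 := H.mem_Wx_of_Px i fun c hc => by
    obtain ⟨a1, a2⟩ := H.fix_of_far hn.1 hn.2 h0 hc
    have a3 := mem_Stv.1 (H.hh_mem a1 a2 t)
    have a4 := H.hh_mem (H.x_cl j) (H.y_cl j) t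
    have a5 : ¬ H.adj j i := fun e => hn.2 (H.symm e)
    rw [ap_Px_comm fun s => (H.comm_n hn.1.symm a5 a4 s).1, ap_swap (H.comm_nn hn.1.symm a5 a4 1),
      h2, map_smul, map_smul] at a3
    exact smul_right_injective V (sub_ne_zero.2 ht) (by
      simp only [Pi.one_apply]; linear_combination (norm := module) a3)
  have e2 := Wx_conj0' _ (H.n_y i 1) e1
  rw [inv_ap] at e2
  refine hi (funext fun s => smul_left_injective ℂ h1 ?_)
  simp only [← h2, Pi.one_apply, one_smul]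
  exact H.hh_mem (K := Stv ρ y) (mem_Wx_zero.1 (H.Y_x i h0)) (mem_Wx_zero.1 e2) s

theorem Wt'.move {p : I → kˣ → ℂ} (h : H.Wt' p) {i j : I} (hi : p i ≠ 1)
    (hc : Relation.ReflTransGen H.adj i j) : ∃ p', H.Wt' p' ∧ p' j ≠ 1 := by
  induction hc with
  | refl => exact ⟨p, h, hi⟩
  | tail _ h2 ih =>
    obtain ⟨q, a1, a2⟩ := ih
    obtain ⟨q', b1, -, b2, -⟩ := a1.step _
    exact (em _).elim (fun e => ⟨q', b1, by rwa [b2 _ h2, e, mul_one]⟩) fun e => ⟨q, a1, e⟩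

variable (H)

theorem card_wt {S : Finset (I → kˣ → ℂ)} (h : ∀ p ∈ S, H.Wt' p) : #S ≤ finrank ℂ H.Y := by
  classical
  rw [← card_image_of_injective S Function.uncurry_injective]
  refine card_le_of_wsp (fun a : I × kˣ => ρ (H.hh a.1 a.2))
    (fun a b x => ap_swap (H.hh_comm _ _ _ _) x) _ _ fun χ hχ => ?_
  obtain ⟨p, hp, rfl⟩ := mem_image.1 hχ
  obtain ⟨y, h0, h1, h2⟩ := h p hp
  exact ⟨y, h0, h1, mem_wsp.2 fun a => h2 a.1 a.2⟩

/-- The case of a diagram with a branch node. -/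
theorem card_le_branch [Finite Γ] [Fintype I] (m : I → ℝ) (hm : ∀ i, 0 < m i)
    [∀ i, DecidablePred (H.adj i)] (hm' : ∀ i, ∑ j with H.adj i j, m j ≤ 2 * m i) (b : I)
    (hb : ∀ i, Relation.ReflTransGen H.adj i b) (a : Fin 3 → I) (ha : ∀ r, H.adj b (a r))
    (ha' : ∀ r s, r ≠ s → a r ≠ a s ∧ ¬ H.adj (a r) (a s)) : Fintype.card I ≤ finrank ℂ H.Y := by
  refine H.card_le (by_contra fun hA => ?_) m hm hm'
  obtain ⟨p, h1, i, h2⟩ := H.exists_wt hA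
  obtain ⟨q, h3, h4⟩ := h1.move h2 (hb i)
  obtain ⟨q', h5, -, h6, -⟩ := h3.step b
  have e : ∀ {p}, H.Wt' p → ∀ r s, r ≠ s → p (a r) = 1 ∨ p (a s) = 1 := fun h r s hrs => by
    by_contra! hn
    exact (h.clique hn.1 hn.2).elim (ha' r s hrs).1 (ha' r s hrs).2
  have e' : ∀ r s, r ≠ s → q (a r) ≠ 1 ∨ q (a s) ≠ 1 := fun r s hrs =>
    (e h5 r s hrs).imp (fun f g => h4 (by rwa [h6 _ (ha _), g, mul_one] at f))
      fun f g => h4 (by rwa [h6 _ (ha _), g, mul_one] at f)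
  have := e h3 0 1 (by decide)
  have := e h3 0 2 (by decide)
  have := e h3 1 2 (by decide)
  have := e' 0 1 (by decide)
  have := e' 0 2 (by decide)
  have := e' 1 2 (by decide)
  tauto

theorem exists_max {N : ℕ} {H : HK ρ ψ (Fin (N + 2))}
    (hadj : ∀ i j, H.adj i j ↔ i.1 + 1 = j.1 ∨ j.1 + 1 = i.1) {p : Fin (N + 2) → kˣ → ℂ}
    (h : H.Wt' p) {r : Fin (N + 2)} (h1 : p r ≠ 1) (h2 : ∀ i, r < i → p i = 1) (s : Fin (N + 2))
    (hs : r ≤ s) : ∃ q, H.Wt' q ∧ q s ≠ 1 ∧ ∀ i, s < i → q i = 1 := by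
  induction s using Fin.induction with
  | zero => exact ⟨p, h, Fin.le_zero_iff.1 hs ▸ h1, Fin.le_zero_iff.1 hs ▸ h2⟩
  | succ s ih =>
    rcases hs.eq_or_lt with rfl | hs
    · exact ⟨p, h, h1, h2⟩
    obtain ⟨q, a1, a2, a3⟩ := ih (Fin.le_castSucc_iff.2 hs)
    obtain ⟨q', b1, -, b2, b3⟩ := a1.step s.castSucc
    refine ⟨q', b1, by rwa [b2 _ ((hadj _ _).2 (by simp)), a3 _ Fin.castSucc_lt_succ, mul_one],
      fun i hi => ?_⟩
    have : s.1 + 1 < i.1 := hi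
    rw [b3 i (fun e => by simp [e] at this) (by rw [hadj]; simp; omega),
      a3 _ (Fin.castSucc_lt_succ.trans hi)]

theorem chain_conn {N : ℕ} {H : HK ρ ψ (Fin (N + 2))}
    (hadj : ∀ i j, H.adj i j ↔ i.1 + 1 = j.1 ∨ j.1 + 1 = i.1) (i : Fin (N + 2)) :
    Relation.ReflTransGen H.adj i 0 := by
  induction i using Fin.induction with
  | zero => rfl
  | succ s ih => exact .head ((hadj _ _).2 (by simp)) ih

theorem card_of_max {N : ℕ} {H : HK ρ ψ (Fin (N + 2))}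
    (hadj : ∀ i j, H.adj i j ↔ i.1 + 1 = j.1 ∨ j.1 + 1 = i.1) {p : Fin (N + 2) → kˣ → ℂ}
    (h : H.Wt' p) {r : Fin (N + 2)} (h1 : p r ≠ 1) (h2 : ∀ i, r < i → p i = 1) :
    N + 3 - r ≤ finrank ℂ H.Y := by
  classical
  choose! q q1 q2 q3 using exists_max hadj h h1 h2
  obtain ⟨q', b1, b2, b3, -⟩ := (q1 _ (Fin.le_last r)).step (Fin.last _)
  have c1 : Set.InjOn q (Ici r : Finset _) := fun a ha b hb e => by
    simp only [coe_Ici, Set.mem_Ici] at ha hb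
    exact le_antisymm (not_lt.1 fun f => q2 a ha (e ▸ q3 b hb a f))
      (not_lt.1 fun f => q2 b hb (e ▸ q3 a ha b f))
  have c2 : q' ∉ (Ici r).image q := fun e => by
    obtain ⟨a, ha, rfl⟩ := mem_image.1 e
    rw [mem_Ici] at ha
    rcases (Fin.le_last a).eq_or_lt with rfl | f
    · have := b3 (Fin.last N).castSucc ((hadj _ _).2 (by simp))
      exact q2 _ ha (funext fun t => (mul_eq_right₀ ((q1 _ ha).ne _ t)).1 (congrFun this t).symm)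
    · exact q2 _ (Fin.le_last r) (inv_eq_one.1 (b2 ▸ q3 a ha _ f))
  have := H.card_wt (S := insert q' ((Ici r).image q)) fun p hp => by
    rcases mem_insert.1 hp with rfl | hp
    · exact b1
    · obtain ⟨a, ha, rfl⟩ := mem_image.1 hp
      exact q1 a (mem_Ici.1 ha)
  rw [card_insert_of_notMem c2, card_image_of_injOn c1, Fin.card_Ici] at this
  omega

/-- The case of a chain. -/
theorem card_le_chain [Finite Γ] {N : ℕ} (H : HK ρ ψ (Fin (N + 2)))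
    (hadj : ∀ i j, H.adj i j ↔ i.1 + 1 = j.1 ∨ j.1 + 1 = i.1) : N + 2 ≤ finrank ℂ H.Y := by
  classical
  by_cases hA : ∀ i t, ∀ v ∈ H.Y, ρ (H.hh i t) v = v
  · refine (Fintype.card_fin _).ge.trans (H.card_le hA (fun _ => 1) (fun _ => one_pos) fun i => ?_)
    rw [sum_const, nsmul_one, mul_one, Nat.cast_le_ofNat]
    refine (card_le_card_of_injOn (fun j : Fin (N + 2) => j.1) (t := {i.1 + 1, i.1 - 1})
      (fun j hj => ?_) Fin.val_injective.injOn).trans card_le_two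
    simp only [coe_filter, hadj, mem_univ, true_and, Set.mem_setOf_eq] at hj
    simp only [coe_insert, coe_singleton, Set.mem_insert_iff, Set.mem_singleton_iff]
    omega
  obtain ⟨p, h1, i, h2⟩ := H.exists_wt hA
  obtain ⟨q, h3, h4⟩ := h1.move h2 (chain_conn hadj i)
  have e : ∀ i : Fin (N + 2), 1 < i → q i = 1 := fun i hi => by_contra fun f => by
    have : 1 < i.1 := hi
    rcases h3.clique h4 f with rfl | g
    · simp at this
    · rw [hadj] at g; simp at g; omega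
  by_cases h5 : q 1 = 1
  · exact le_trans (by simp) (card_of_max hadj h3 h4 fun i hi =>
      (show 1 ≤ i from Nat.succ_le_of_lt hi).eq_or_lt.elim (· ▸ h5) (e i))
  · simpa using card_of_max hadj h3 h5 e

end HK

end Cfsg.Agent.Forms
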