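import Cfsg.Agent.Forms.Weights
import Cfsg.Agent.Forms.GenTrans

/-!
Lower bounds for the degrees of cross-characteristic representations of symplectic and unitary
groups, from the weights of the abelian group of isometries with commutator space in a totally
isotropic subspace.
-/

set_option autoImplicit false

namespace Cfsg.Agent.Forms

open Module Finset

variable {F : Type*} [Field F] {V : Type*} [AddCommGroup V] [Module F V] {σ : F →+* F}
  {B : V →ₗ[F] V →ₛₗ[σ] F} {ε : F}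

theorem qrefl_mul_qrefl {a : V} (ha : B a a = 0) (c c' : F) :
    (qrefl B a c * qrefl B a c' : End F V) = qrefl B a (c + c') := by
  ext z
  simp only [End.mul_apply, qrefl_apply, map_add, map_smul, LinearMap.add_apply,
    LinearMap.smul_apply, ha, smul_eq_mul]
  module

theorem qrefl_zero (a : V) : (qrefl B a 0 : End F V) = 1 := by
  ext z; simp [qrefl_apply]

theorem qrefl_pow {a : V} (ha : B a a = 0) (c : F) (n : ℕ) :
    (qrefl B a c : End F V) ^ n = qrefl B a (n * c) := by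
  induction n with
  | zero => rw [pow_zero, Nat.cast_zero, zero_mul, qrefl_zero]
  | succ n ih => rw [pow_succ, ih, qrefl_mul_qrefl ha, Nat.cast_succ, add_mul, one_mul]

theorem map_qrefl {g : V →ₗ[F] V} (hg : ∀ x y, B (g x) (g y) = B x y) (a : V) (c : F) (z : V) :
    g (qrefl B a c z) = qrefl B (g a) c (g z) := by
  simp only [qrefl_apply, map_add, map_smul, hg]

namespace IsoGrp

variable {G : Type*} [Group G] (Γ : IsoGrp B ε G) {M₀ : Submodule F V}
  (hM : ∀ x ∈ M₀, ∀ y ∈ M₀, B x y = 0)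

/-- A transvection with centre in `M₀`. -/
noncomputable def trv (x : M₀) (c : {c : F // σ c + ε * c = 0}) : Γ.supp M₀ :=
  ⟨(Γ.lift _ _ _ (eValid_zero (hM x x.2 x x.2) c.2)).choose,
    mem_supp_of_eich x.2 M₀.zero_mem (Γ.lift _ _ _ (eValid_zero (hM x x.2 x x.2) c.2)).choose_spec⟩

theorem act_trv (x : M₀) (c : {c : F // σ c + ε * c = 0}) :
    Γ.act (Γ.trv hM x c) = qrefl B (x : V) c :=
  (Γ.lift _ _ _ (eValid_zero (hM x x.2 x x.2) c.2)).choose_spec.trans (qrefl_eq_eich _ _).symm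

include hM in
theorem eValid_of_mem (a x : M₀) : EValid B ε (a : V) x 0 :=
  ⟨hM a a.2 a a.2, hM x x.2 a a.2, by rw [hM x x.2 x x.2]; simp⟩

/-- An Eichler transformation with parameters in `M₀`. -/
noncomputable def sgl (a x : M₀) : Γ.supp M₀ :=
  ⟨(Γ.lift _ _ _ (eValid_of_mem hM a x)).choose,
    mem_supp_of_eich a.2 x.2 (Γ.lift _ _ _ (eValid_of_mem hM a x)).choose_spec⟩

theorem act_sgl (a x : M₀) : Γ.act (Γ.sgl hM a x) = eich B ε (a : V) x 0 :=
  (Γ.lift _ _ _ (eValid_of_mem hM a x)).choose_spec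

variable {Γ}

include hM in
theorem supp_comm (hnd : Nd B ⊤) (g h : Γ.supp M₀) : g * h = h * g := by
  have key : ∀ g h : Γ.supp M₀, ∀ z, Γ.act g (Γ.act h z) = Γ.act g z + (Γ.act h z - z) := by
    intro g h z
    conv_lhs => rw [← add_sub_cancel z (Γ.act h z), map_add,
      act_eq_of_perp hnd g.2 (hM _ (h.2 z))]
  refine Subtype.ext (Γ.ext' fun z => ?_)
  rw [Subgroup.coe_mul, Subgroup.coe_mul, act_mul, act_mul, key, key h g]
  abel

theorem conj_mem_supp {n : G} (hn : ∀ x ∈ M₀, Γ.act n x ∈ M₀) (g : Γ.supp M₀) :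
    n * g * n⁻¹ ∈ Γ.supp M₀ := by
  intro z
  have := hn _ (g.2 (Γ.act n⁻¹ z))
  rwa [map_sub, act_act_inv, ← act_mul, ← act_mul] at this

variable {K : Type*} [Field K] {M : Type*} [AddCommGroup M] [Module K M]

theorem weight_mul {H : Type*} [Group H] {ρ : H →* End K M} {χ : H → K}
    (hχ : wsp (fun g => ρ g) χ ≠ ⊥) (g h : H) : χ (g * h) = χ g * χ h := by
  obtain ⟨v, hv, hv0⟩ := Submodule.exists_mem_ne_zero_of_ne_bot hχ
  apply smul_left_injective K hv0
  have := mem_wsp.1 hv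
  simp only at this ⊢
  rw [← this, map_mul, End.mul_apply, this h, map_smul, this g, smul_smul, mul_comm]

theorem weight_one {H : Type*} [Group H] {ρ : H →* End K M} {χ : H → K}
    (hχ : wsp (fun g => ρ g) χ ≠ ⊥) : χ 1 = 1 := by
  obtain ⟨v, hv, hv0⟩ := Submodule.exists_mem_ne_zero_of_ne_bot hχ
  apply smul_left_injective K hv0
  have := mem_wsp.1 hv
  simp only at this ⊢
  rw [← this, map_one, End.one_apply, one_smul]

theorem finrank_wsp_le_conj [FiniteDimensional K M] (ρ : G →* End K M) {A : Subgroup G}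
    (χ : A → K) {n : G} (hn : ∀ g : A, n * g * n⁻¹ ∈ A) :
    finrank K (wsp (fun g : A => ρ g) χ) ≤
      finrank K (wsp (fun g : A => ρ g) fun g => χ ⟨_, hn g⟩) := by
  refine LinearMap.finrank_le_finrank_of_injective (f := (ρ n⁻¹).restrict fun v hv => ?_) ?_
  · refine mem_wsp.2 fun g => ?_
    rw [← map_smul, ← mem_wsp.1 hv, ← End.mul_apply, ← End.mul_apply, ← map_mul, ← map_mul]
    congr 2
    group
  · intro v w h
    have := congrArg (fun x => ρ n (Subtype.val x)) h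
    simp only [LinearMap.restrict_coe_apply, ← End.mul_apply, ← map_mul, mul_inv_cancel, map_one,
      End.one_apply] at this
    exact Subtype.ext this

theorem exists_weight_bound [Fintype F] [DecidableEq F] [FiniteDimensional F V] [Finite G]
    [IsAlgClosed K] [FiniteDimensional K M] (hB : IsEHerm B ε) (hrep : Rep B)
    (hval : ∀ y, ∃ c, c * ε + σ c = B y y) (hθ : ∃ θ, θ + σ θ = 1) {k : ℕ}
    (hk : ∀ s, #{t : F | t * σ t = s} ≤ k)
    (htrans : ∀ v ∈ M₀, ∀ a ∈ M₀, v ≠ 0 → a ≠ 0 →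
      ∃ n, (∀ x ∈ M₀, Γ.act n x ∈ M₀) ∧ Γ.act n v = a)
    (ρ : G →* End K M) {p : ℕ} (hpF : (p : F) = 0) (hpK : (p : K) ≠ 0) {a : M₀}
    {c₀ : {c : F // σ c + ε * c = 0}} (h : ρ (Γ.trv hM a c₀) ≠ 1) :
    ∃ χ : Γ.supp M₀ → K, wsp (fun g : Γ.supp M₀ => ρ g) χ ≠ ⊥ ∧ χ (Γ.trv hM a c₀) ≠ 1 ∧
      (Nat.card M₀ - 1) * finrank K (wsp (fun g : Γ.supp M₀ => ρ g) χ) ≤ k * finrank K M := by
  classical
  have hnd := hrep.nd_top
  have hc : ∀ (g h : Γ.supp M₀) x, ρ g (ρ h x) = ρ h (ρ g x) := fun g h x => by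
    rw [← End.mul_apply, ← End.mul_apply, ← map_mul, ← map_mul, ← Subgroup.coe_mul,
      supp_comm hM hnd, Subgroup.coe_mul]
  obtain ⟨χ, v, hv0, hv, hχ⟩ := exists_weight_ne_one (fun g : Γ.supp M₀ => ρ g) hc
    (i₀ := Γ.trv hM a c₀) hpK (by
      rw [← map_pow, show (Γ.trv hM a c₀ : G) ^ p = 1 from Γ.inj (by
        rw [map_pow, act_trv, qrefl_pow (hM a a.2 a a.2), hpF, zero_mul, qrefl_zero, map_one]),
        map_one]) h
  have hne : wsp (fun g : Γ.supp M₀ => ρ g) χ ≠ ⊥ := (Submodule.ne_bot_iff _).2 ⟨v, hv, hv0⟩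
  refine ⟨χ, hne, hχ, ?_⟩
  have hmul := weight_mul (ρ := ρ.comp (Γ.supp M₀).subtype) hne
  have hone := weight_one (ρ := ρ.comp (Γ.supp M₀).subtype) hne
  have hnz : ∀ g, χ g ≠ 0 := fun g =>
    left_ne_zero_of_mul_eq_one (by rw [← hmul, mul_inv_cancel, hone])
  have : Finite V := Module.finite_of_finite F
  have := Fintype.ofFinite G
  have := Fintype.ofFinite M₀
  have ha0 : a ≠ 0 := by
    rintro rfl
    refine hχ ?_
    rw [← hone]
    congr 1
    refine Subtype.ext (Γ.ext' fun z => ?_)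
    rw [act_trv, qrefl_apply]
    simp
  let cj : {n : G // ∀ x ∈ M₀, Γ.act n x ∈ M₀} → Γ.supp M₀ → K :=
    fun n g => χ ⟨_, conj_mem_supp n.2 g⟩
  let Φ : (Γ.supp M₀ → K) → M₀ → {c : F // σ c + ε * c = 0} → K := fun χ x c => χ (Γ.trv hM x c)
  have hΦ : ∀ n x, Φ (cj n) x = Φ χ ⟨Γ.act n x, n.2 x x.2⟩ := by
    intro n x
    funext c
    refine congrArg χ (Subtype.ext (Γ.ext' fun z => ?_))
    rw [act_mul, act_mul, act_trv, act_trv, map_qrefl (Γ.iso n), act_act_inv]
  have hs1 : ∀ x y, χ (Γ.sgl hM a (x + y)) = χ (Γ.sgl hM a x) * χ (Γ.sgl hM a y) := by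
    intro x y
    rw [← hmul]
    refine congrArg χ (Subtype.ext (Γ.inj ?_))
    rw [Subgroup.coe_mul, map_mul, act_sgl, act_sgl, act_sgl,
      eich_mul hB _ _ (hM a a.2 a a.2) (hM x x.2 a a.2) (hM y y.2 a a.2), hM y y.2 x x.2]
    simp
  have hs0 : χ (Γ.sgl hM a 0) = 1 := by
    rw [← hone]
    refine congrArg χ (Subtype.ext (Γ.inj ?_))
    rw [act_sgl, Submodule.coe_zero, eich_zero, Subgroup.coe_one, map_one]
  have hC : ∀ (c : {c : F // σ c + ε * c = 0}) {s : F}, σ s = s → σ (c * s) + ε * (c * s) = 0 := by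
    intro c s hs
    rw [map_mul, hs]
    linear_combination s * c.2
  have hN : ∀ t : F, σ (t * σ t) = t * σ t := fun t => by rw [map_mul, hB.invol, mul_comm]
  have hrel : ∀ x ∈ charKer (F := F) (fun x => χ (Γ.sgl hM a x)) hs1 hs0, ∀ (t : F) c,
      Φ χ (x + t • a) c = Φ χ x c * Φ χ a ⟨_, hC c (hN t)⟩ := by
    intro x hx t c
    have h1 := hx (c * σ t)
    simp only [Φ] at h1 ⊢
    rw [← mul_one (_ * _), ← h1, ← hmul, ← hmul]
    refine congrArg χ (Subtype.ext (Γ.ext' fun z => ?_))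
    have h2 : σ c = -ε * c := by linear_combination c.2
    rw [Subgroup.coe_mul, Subgroup.coe_mul, act_mul, act_mul, act_trv, act_trv, act_trv, act_sgl]
    simp only [qrefl_apply, eich_apply, Submodule.coe_add, Submodule.coe_smul, map_add, map_sub,
      map_smul, map_smulₛₗ, LinearMap.add_apply, LinearMap.sub_apply, LinearMap.smul_apply,
      hM a a.2 a a.2, hM x x.2 a a.2, hM a a.2 x x.2, hM x x.2 x x.2, smul_eq_mul, map_mul, h2,
      hB.invol]
    rw [show ε * (-ε * c * t * B z x) = -(c * t * B z x) by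
      linear_combination (-(c * t * B z x)) * hB.sq]
    module
  have hinj : ∀ {s s' : F} (hs : σ s = s) (hs' : σ s' = s'),
      (∀ c, Φ χ a ⟨_, hC c hs⟩ = Φ χ a ⟨_, hC c hs'⟩) → s = s' := by
    intro s s' hs hs' h
    by_contra h1
    have h2 : σ (s - s')⁻¹ = (s - s')⁻¹ := by rw [map_inv₀, map_sub, hs, hs']
    have h3 := h ⟨_, hC c₀ h2⟩
    have h4 : Φ χ a ⟨_, hC ⟨_, hC c₀ h2⟩ hs⟩ = Φ χ a ⟨_, hC ⟨_, hC c₀ h2⟩ hs'⟩ * Φ χ a c₀ := by
      simp only [Φ]
      rw [← hmul]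
      refine congrArg χ (Subtype.ext (Γ.inj ?_))
      rw [Subgroup.coe_mul, map_mul, act_trv, act_trv, act_trv, qrefl_mul_qrefl (hM a a.2 a a.2)]
      congr 1
      have := sub_ne_zero.2 h1
      field_simp
      ring
    rw [h3] at h4
    exact hχ (mul_left_cancel₀ (hnz _) (h4.symm.trans (mul_one _).symm))
  have haW : a ∉ charKer (F := F) (fun x => χ (Γ.sgl hM a x)) hs1 hs0 := by
    intro h
    obtain ⟨θ, hθ⟩ := hθ
    refine hχ ?_
    rw [← h (θ * c₀)]
    refine congrArg χ (Subtype.ext (Γ.inj ?_))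
    rw [act_trv, act_sgl, Submodule.coe_smul, eich_smul_self]
    congr 1
    rw [map_mul]
    linear_combination (-c₀.1) * hθ + ε * σ θ * c₀.2 - σ θ * c₀.1 * hB.sq
  have hb := orbit_bound (Φ χ) _ haW (exists_sub_mem_charKer _ hs1 hs0 haW) (k := k)
    (fun x hx => by
      by_cases h0 : ∃ t₀ : F, Φ χ (x + t₀ • a) = Φ χ a
      · obtain ⟨t₀, ht₀⟩ := h0
        refine le_trans (card_le_card fun t ht => ?_) (hk (t₀ * σ t₀))
        simp only [mem_filter, mem_univ, true_and] at ht ⊢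
        refine hinj (hN t) (hN t₀) fun c => mul_left_cancel₀ (hnz (Γ.trv hM x c)) ?_
        exact (hrel x hx t c).symm.trans ((congrFun (ht.trans ht₀.symm) c).trans (hrel x hx t₀ c))
      · push Not at h0
        simp [h0])
    (fun x hx t ht => by
      have := hinj (hN t) (hN 0) fun c => mul_left_cancel₀ (hnz (Γ.trv hM x c)) (by
        refine (hrel x hx t c).symm.trans (Eq.trans ?_ (hrel x hx 0 c))
        rw [ht, zero_smul, add_zero])
      simpa using this)
    ((univ.image cj).image Φ)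
    (by
      intro Ψ hΨ
      simp only [mem_image, mem_univ, true_and, exists_exists_eq_and] at hΨ
      obtain ⟨n, rfl⟩ := hΨ
      refine ⟨Equiv.ofBijective (fun x : M₀ => (⟨Γ.act n x, n.2 x x.2⟩ : M₀))
        (Finite.injective_iff_bijective.1 fun x y h =>
          Subtype.ext (Γ.act_inj n (congrArg Subtype.val h))), funext fun x => hΦ n x⟩)
    (by
      intro v hv
      obtain ⟨n, hn, hn'⟩ := htrans v v.2 a a.2 (fun h => hv (Subtype.ext h))
        (fun h => ha0 (Subtype.ext h))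
      refine ⟨Equiv.ofBijective (fun x : M₀ => (⟨Γ.act n x, hn x x.2⟩ : M₀))
        (Finite.injective_iff_bijective.1 fun x y h =>
          Subtype.ext (Γ.act_inj n (congrArg Subtype.val h))), Subtype.ext hn', fun η hη => ?_⟩
      obtain ⟨η', hη'⟩ := LinearMap.exists_extend η
      have hη'' : ∀ x : M₀, η' x = η x := fun x => LinearMap.congr_fun hη' x
      obtain ⟨y, hy⟩ := hrep ((-ε) • η')
      obtain ⟨c, hc⟩ := hval y
      obtain ⟨e, he⟩ := Γ.lift a y c ⟨hM a a.2 a a.2, hB.eq_zero_comm.1 (by simp [hy, hη'', hη]), hc⟩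
      have h1 : ∀ x : M₀, Γ.act e x = x + η x • a := by
        intro x
        rw [he, eich_apply, hM x x.2 a a.2, hy, LinearMap.smul_apply, hη'', smul_eq_mul,
          show ε * (-ε * η x) = -η x by linear_combination (-η x) * hB.sq]
        module
      simp only [mem_image, mem_univ, true_and, exists_exists_eq_and]
      refine ⟨⟨e * n, fun x hx => ?_⟩, funext fun x => ?_⟩
      · rw [act_mul, h1 ⟨_, hn x hx⟩]
        exact M₀.add_mem (hn x hx) (M₀.smul_mem _ a.2)
      · rw [hΦ]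
        congr 1
        exact Subtype.ext ((Γ.act_mul _ _ _).trans (h1 ⟨_, hn x x.2⟩)))
  have h1 := card_mul_le_of_wsp (fun g : Γ.supp M₀ => ρ g) hc ⊤ (univ.image cj)
    (finrank K (wsp (fun g : Γ.supp M₀ => ρ g) χ)) (by
      intro χ' hχ'
      obtain ⟨n, -, rfl⟩ := mem_image.1 hχ'
      rw [inf_top_eq]
      exact finrank_wsp_le_conj ρ χ (conj_mem_supp n.2))
  rw [finrank_top] at h1
  rw [Nat.card_eq_fintype_card]
  calc _ ≤ k * #(univ.image cj) * finrank K (wsp (fun g : Γ.supp M₀ => ρ g) χ) :=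
        Nat.mul_le_mul_right _ (hb.trans (Nat.mul_le_mul_left _ card_image_le))
    _ ≤ _ := by rw [mul_assoc]; exact Nat.mul_le_mul_left _ h1

include hM in
theorem trans_of_two_le [FiniteDimensional F V] (hB : IsEHerm B ε) (hrep : Rep B)
    (hval : ∀ y, ∃ c, c * ε + σ c = B y y) (h2 : 2 ≤ finrank F M₀) :
    ∀ v ∈ M₀, ∀ a ∈ M₀, v ≠ 0 → a ≠ 0 → ∃ n, (∀ x ∈ M₀, Γ.act n x ∈ M₀) ∧ Γ.act n v = a := by
  have key : ∀ v ∈ M₀, ∀ a ∈ M₀, v ∉ Submodule.span F {a - v} →
      ∃ n, (∀ x ∈ M₀, Γ.act n x ∈ M₀) ∧ Γ.act n v = a := by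
    intro v hv a ha h
    obtain ⟨y, hy, hy'⟩ := hrep.exists_perp _ h
    have hav := M₀.sub_mem ha hv
    obtain ⟨c, hc⟩ := hval (σ (-ε / B v y) • y)
    obtain ⟨e, he⟩ := Γ.lift (a - v) _ c ⟨hM _ hav _ hav, hB.eq_zero_comm.1 (by
      rw [map_smulₛₗ, hy _ (Submodule.mem_span_singleton_self _), smul_zero]), hc⟩
    refine ⟨e, fun x hx => ?_, ?_⟩
    · rw [he, eich_apply, hM x hx _ hav, zero_smul, add_zero]
      exact M₀.sub_mem hx (M₀.smul_mem _ hav)
    · rw [he, eich_apply, hM v hv _ hav, map_smulₛₗ, hB.invol, smul_eq_mul, div_mul_cancel₀ _ hy',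
        mul_neg, hB.sq]
      module
  have key2 : ∀ v a : V, v ≠ 0 → a ∉ Submodule.span F {v} →
      v ∉ Submodule.span F {a - v} ∧ a ∉ Submodule.span F {v - a} := by
    intro v a hv h
    constructor
    · intro h1
      obtain ⟨c, hc⟩ := Submodule.mem_span_singleton.1 h1
      have hc0 : c ≠ 0 := by rintro rfl; exact hv (by rw [← hc, zero_smul])
      refine h (Submodule.mem_span_singleton.2 ⟨c⁻¹ + 1, ?_⟩)
      rw [add_smul, one_smul]
      conv_lhs => enter [1]; rw [← hc, inv_smul_smul₀ hc0]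
      abel
    · intro h1
      obtain ⟨c, hc⟩ := Submodule.mem_span_singleton.1 h1
      by_cases hc0 : c + 1 = 0
      · rw [eq_neg_of_add_eq_zero_left hc0, neg_one_smul, neg_sub, sub_eq_self] at hc
        exact hv hc
      · refine h (Submodule.mem_span_singleton.2 ⟨(c + 1)⁻¹ * c, ?_⟩)
        rw [mul_smul, inv_smul_eq_iff₀ hc0, add_smul, one_smul]
        conv_rhs => enter [2]; rw [← hc]
        module
  intro v hv a ha hv0 ha0
  by_cases h : a ∈ Submodule.span F {v}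
  · obtain ⟨w, hw, hw'⟩ := exists_mem_notMem_span h2 v
    obtain ⟨n, hn, hn'⟩ := key v hv w hw (key2 v w hv0 hw').1
    obtain ⟨n', hn1, hn1'⟩ := key w hw a ha (key2 a w ha0 fun h' =>
      hw' (Submodule.span_le.2 (Set.singleton_subset_iff.2 h) h')).2
    exact ⟨n' * n, fun x hx => by rw [act_mul]; exact hn1 _ (hn x hx), by rw [act_mul, hn', hn1']⟩
  · exact key v hv a ha (key2 v a hv0 h).1

end IsoGrp

end Cfsg.Agent.Forms
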