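import Cfsg.Agent.Forms.MinDeg
import Cfsg.Agent.Forms.NormCount

/-!
Complements to `MinDeg`: maximal totally isotropic subspaces of unitary spaces, the Heisenberg
factor in odd dimension, and small facts about irreducible representations.
-/

set_option autoImplicit false

namespace Cfsg.Agent.Forms

open Module Finset

theorem exists_ne_one_of_irreducible {G K M : Type*} [Group G] [Field K] [AddCommGroup M]
    [Module K M] [FiniteDimensional K M] (ρ : Representation K G M) [hρ : ρ.IsIrreducible]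
    (h : 2 ≤ finrank K M) : ∃ g, ρ g ≠ 1 := by
  by_contra h1
  push Not at h1
  have : Nontrivial M := finrank_pos_iff.1 (by omega : 0 < finrank K M)
  obtain ⟨v, hv⟩ := exists_ne (0 : M)
  let W : Subrepresentation ρ := ⟨Submodule.span K {v}, fun g x hx => by rwa [h1 g]⟩
  have h2 := finrank_span_singleton (K := K) hv
  rcases eq_bot_or_eq_top W with h3 | h3
  · have h4 : Submodule.span K {v} = ⊥ := congrArg Subrepresentation.toSubmodule h3
    rw [h4, finrank_bot] at h2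
    omega
  · have h4 : Submodule.span K {v} = ⊤ := congrArg Subrepresentation.toSubmodule h3
    rw [h4, finrank_top] at h2
    omega

variable {F : Type*} [Field F] {V : Type*} [AddCommGroup V] [Module F V] {σ : F →+* F}
  {B : V →ₗ[F] V →ₛₗ[σ] F} {ε : F}

theorem IsoGrp.exists_trv_ne_one {G : Type*} [Group G] {Γ : IsoGrp B ε G} {M₀ : Submodule F V}
    (hM : ∀ x ∈ M₀, ∀ y ∈ M₀, B x y = 0) (hB : IsEHerm B ε) (hnd : Nd B ⊤)
    (hval : ∀ y, ∃ c, c * ε + σ c = B y y) (hs0 : ∃ s ≠ 0, σ s + ε * s = 0) (h0 : M₀ ≠ ⊥)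
    {H : Type*} [Monoid H] (ρ : G →* H) {g : G} {a : V} {c : F} (ha : B a a = 0)
    (hc : σ c + ε * c = 0) (hg : Γ.act g = qrefl B a c) (h : ρ g ≠ 1) :
    ∃ a c, ρ (Γ.trv hM a c) ≠ 1 := by
  obtain ⟨u, hu, hu0⟩ := Submodule.exists_mem_ne_zero_of_ne_bot h0
  have ha0 : a ≠ 0 := by
    rintro rfl
    refine h ?_
    rw [show g = 1 from Γ.ext' fun z => by rw [hg, Γ.act_one, qrefl_apply]; simp, map_one]
  obtain ⟨k, -, l, hk⟩ := IsoGrp.exists_move_point hB (Γ := Γ) (N := ⊤)
    (fun _ _ _ _ _ _ => trivial) hnd (hB.htr hval) hs0 trivial trivial ha0 hu0 ha (hM u hu u hu)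
  refine ⟨⟨l • u, M₀.smul_mem l hu⟩, ⟨c, hc⟩, fun h' => h ?_⟩
  have e : g = k⁻¹ * Γ.trv hM ⟨l • u, M₀.smul_mem l hu⟩ ⟨c, hc⟩ * k := Γ.ext' fun z => by
    rw [Γ.act_mul, Γ.act_mul, Γ.act_trv, Submodule.coe_mk, ← hk, ← map_qrefl (Γ.iso k),
      Γ.act_inv_act, hg]
  rw [e, map_mul, map_mul, h', mul_one, ← map_mul, inv_mul_cancel, map_one]

section Herm

variable [FiniteDimensional F V] (hB : IsEHerm B 1) (hne : ∃ θ, σ θ ≠ θ)
  (hnorm : ∀ a, σ a = a → ∃ c, c * σ c = a)

omit [FiniteDimensional F V] in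
include hB hnorm in
theorem eq_smul_of_anisotropic {W : Submodule F V} (h : ∀ x ∈ W, B x x = 0 → x = 0) {e : V}
    (he : e ∈ W) (he0 : e ≠ 0) {w : V} (hw : w ∈ W) : w = (B w e / B e e) • e := by
  have he' : B e e ≠ 0 := fun h' => he0 (h e he h')
  have h1 : ∀ z, B (z - (B z e / B e e) • e) e = 0 := fun z => by simp [he']
  by_contra h3
  have hw' := W.sub_mem hw (W.smul_mem (B w e / B e e) he)
  obtain ⟨t, ht⟩ := hB.exists_smul_eq hnorm
    (fun h' => h3 (sub_eq_zero.1 (h _ hw' h'))) (s := -B e e) (by rw [map_neg, hB.fix_self])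
  have h4 : B (t • (w - (B w e / B e e) • e)) e = 0 := by
    rw [map_smul, LinearMap.smul_apply, h1, smul_zero]
  have h5 := h _ (W.add_mem he (W.smul_mem t hw')) (by
    rw [map_add, map_add, LinearMap.add_apply, LinearMap.add_apply, ht, h4,
      hB.eq_zero_comm.1 h4]
    ring)
  have h6 := congrArg (fun x => B x e) h5
  simp only [map_add, LinearMap.add_apply, h4, add_zero, map_zero, LinearMap.zero_apply] at h6
  exact he' h6

omit hB in
theorem finrank_perpIn (hB : IsEHerm B ε) {W : Submodule F V} {u v : V} (hu : u ∈ W) (hv : v ∈ W)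
    (huu : B u u = 0) (huv : B u v = 1) : finrank F (perpIn B W u v) + 2 = finrank F W := by
  have h1 := finrank_inf_ker_add_one W (B.flip u) fun h => by
    have : B v u = 0 := h hv
    rw [hB.eq_zero_comm, huv] at this
    exact one_ne_zero this
  have h2 := finrank_inf_ker_add_one (W ⊓ LinearMap.ker (B.flip u)) (B.flip v) fun h => by
    have : B u v = 0 := h ⟨hu, huu⟩
    rw [huv] at this
    exact one_ne_zero this
  rw [perpIn]
  omega

include hB hne hnorm in
theorem exists_max_isotropic (W : Submodule F V) (hW : Nd B W) :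
    ∃ M₀ ≤ W, (∀ x ∈ M₀, ∀ y ∈ M₀, B x y = 0) ∧ (finrank F W = 2 * finrank F M₀ ∨
      (finrank F W = 2 * finrank F M₀ + 1 ∧ ∃ e ∈ W, B e e ≠ 0 ∧ ∀ x ∈ M₀, B e x = 0)) := by
  induction hn : finrank F W using Nat.strong_induction_on generalizing W with
  | _ n ih =>
  subst hn
  by_cases h : ∀ x ∈ W, B x x = 0 → x = 0
  · refine ⟨⊥, bot_le, fun x hx y _ => by rw [(Submodule.mem_bot F).1 hx]; simp, ?_⟩
    by_cases h0 : W = ⊥
    · left; rw [h0, finrank_bot]
    · right
      obtain ⟨e, he, he0⟩ := Submodule.exists_mem_ne_zero_of_ne_bot h0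
      refine ⟨?_, e, he, fun h' => he0 (h e he h'), fun x hx => by
        rw [(Submodule.mem_bot F).1 hx]; simp⟩
      have : W = Submodule.span F {e} := le_antisymm (fun w hw =>
        Submodule.mem_span_singleton.2 ⟨_, (eq_smul_of_anisotropic hB hnorm h he he0 hw).symm⟩)
        (Submodule.span_le.2 (Set.singleton_subset_iff.2 he))
      rw [this, finrank_span_singleton he0, finrank_bot]
  push Not at h
  obtain ⟨u, hu, huu, hu0⟩ := h
  obtain ⟨v, hv, hvv, huv⟩ := hW.exists_partner hB (hB.htr (hB.hval hne)) hu hu0 huu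
  have h1 := finrank_perpIn hB hu hv huu huv
  obtain ⟨M₀, hM, hM', h2⟩ := ih _ (by omega) _ (hW.perpIn hB hu hv huu hvv huv) rfl
  have h3 : u ∉ M₀ := fun h => by
    have := (mem_perpIn.1 (hM h)).2.2
    rw [huv] at this
    exact one_ne_zero this
  have h4 : finrank F ↥(M₀ ⊔ Submodule.span F {u}) = finrank F M₀ + 1 := by
    have := Submodule.finrank_sup_add_finrank_inf_eq M₀ (Submodule.span F {u})
    rwa [(Submodule.disjoint_span_singleton_of_notMem h3).eq_bot, finrank_bot,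
      finrank_span_singleton hu0, add_zero] at this
  have h5 : ∀ e ∈ perpIn B W u v, (∀ x ∈ M₀, B e x = 0) →
      ∀ x ∈ M₀ ⊔ Submodule.span F {u}, B e x = 0 := by
    intro e he h x hx
    obtain ⟨y, hy, z, hz, rfl⟩ := Submodule.mem_sup.1 hx
    obtain ⟨c, rfl⟩ := Submodule.mem_span_singleton.1 hz
    rw [map_add, h y hy, map_smulₛₗ, (mem_perpIn.1 he).2.1, smul_zero, add_zero]
  refine ⟨M₀ ⊔ Submodule.span F {u}, sup_le (fun x hx => (mem_perpIn.1 (hM hx)).1)
    (Submodule.span_le.2 (Set.singleton_subset_iff.2 hu)), fun x hx y hy => ?_, ?_⟩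
  · obtain ⟨x, hx', z, hz, rfl⟩ := Submodule.mem_sup.1 hx
    obtain ⟨c, rfl⟩ := Submodule.mem_span_singleton.1 hz
    rw [map_add, LinearMap.add_apply, h5 x (hM hx') (hM' x hx') y hy, zero_add, map_smul,
      LinearMap.smul_apply]
    obtain ⟨y, hy', z, hz, rfl⟩ := Submodule.mem_sup.1 hy
    obtain ⟨d, rfl⟩ := Submodule.mem_span_singleton.1 hz
    rw [map_add, map_smulₛₗ, huu, hB.eq_zero_comm.1 (mem_perpIn.1 (hM hy')).2.1]
    simp
  · rcases h2 with h2 | ⟨h2, e, he, he', he''⟩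
    · left; omega
    · right
      exact ⟨by omega, e, (mem_perpIn.1 he).1, he', h5 e he he''⟩

end Herm

theorem le_finrank_wsp_of_heisenberg [Fintype F] [DecidableEq F] {G : Type*} [Group G]
    {Γ : IsoGrp B 1 G} {M₀ : Submodule F V} (hM : ∀ x ∈ M₀, ∀ y ∈ M₀, B x y = 0)
    (hB : IsEHerm B 1) (hnd : Nd B ⊤) (hne : ∃ θ, σ θ ≠ θ) {K : Type*} [Field K] [IsAlgClosed K]
    {M : Type*} [AddCommGroup M] [Module K M] [FiniteDimensional K M] (ρ : G →* End K M)
    {e : V} (he : B e e ≠ 0) (he' : ∀ x ∈ M₀, B e x = 0) {χ : Γ.supp M₀ → K}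
    (hχ : wsp (fun g : Γ.supp M₀ => ρ g) χ ≠ ⊥) {a : M₀} {c₀ : {c : F // σ c + 1 * c = 0}}
    (h : χ (Γ.trv hM a c₀) ≠ 1) :
    #{s : F | σ s = s} ≤ finrank K (wsp (fun g : Γ.supp M₀ => ρ g) χ) := by
  classical
  have hmul := IsoGrp.weight_mul (ρ := ρ.comp (Γ.supp M₀).subtype) hχ
  have hone := IsoGrp.weight_one (ρ := ρ.comp (Γ.supp M₀).subtype) hχ
  have haa := hM a a.2 a a.2
  have hea : ∀ s : F, B (s • e) a = 0 := fun s => by simp [he' a a.2]
  choose cc hcc using hB.hval hne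
  choose E hE using fun s : F => Γ.lift a (s • e) (cc (s • e)) ⟨haa, hea s, hcc _⟩
  have hC : ∀ s t : F, σ (B (s • e) (t • e) - B (t • e) (s • e)) +
      1 * (B (s • e) (t • e) - B (t • e) (s • e)) = 0 := by
    intro s t
    rw [hB.symm (s • e) (t • e), map_sub, one_mul, hB.invol]
    ring
  have hcomm : ∀ s t, E s * E t = E t * E s * Γ.trv hM a ⟨_, hC s t⟩ := by
    intro s t
    refine Γ.inj ?_
    rw [map_mul, map_mul, map_mul, hE, hE, Γ.act_trv, qrefl_eq_eich (ε := 1),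
      eich_mul hB _ _ haa (hea s) (hea t), eich_mul hB _ _ haa (hea t) (hea s),
      eich_mul hB _ _ haa (by rw [map_add, LinearMap.add_apply, hea, hea, add_zero]) (by simp),
      add_zero, add_comm (t • e)]
    congr 1
    rw [map_zero, LinearMap.zero_apply]
    ring
  have hcent : ∀ s, ∀ g : Γ.supp M₀, g * E s = E s * g := by
    intro s g
    refine Γ.ext' fun z => ?_
    have h1 : ∀ y, (∀ x ∈ M₀, B y x = 0) → B (Γ.act g z) y = B z y := by
      intro y hy
      conv_lhs => rw [← IsoGrp.act_eq_of_perp hnd g.2 hy, Γ.iso]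
    have h2 : ∀ x ∈ M₀, B (s • e) x = 0 := fun x hx => by simp [he' x hx]
    rw [Γ.act_mul, Γ.act_mul, hE, map_eich (Γ.iso g), IsoGrp.act_eq_of_perp hnd g.2 (hM a a.2),
      IsoGrp.act_eq_of_perp hnd g.2 h2]
  have hinv : ∀ s, ∀ v ∈ wsp (fun g : Γ.supp M₀ => ρ g) χ,
      ρ (E s) v ∈ wsp (fun g : Γ.supp M₀ => ρ g) χ := by
    intro s v hv
    refine mem_wsp.2 fun g => ?_
    rw [← End.mul_apply, ← map_mul, hcent, map_mul, End.mul_apply, mem_wsp.1 hv, map_smul]
  have hc : ∀ (s t : {s : F // σ s = s}) x, ρ (E s) (ρ (E t) x) = ρ (E t) (ρ (E s) x) := by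
    intro s t x
    rw [← End.mul_apply, ← End.mul_apply, ← map_mul, ← map_mul]
    congr 2
    refine Γ.inj ?_
    rw [map_mul, map_mul, hE, hE, eich_mul hB _ _ haa (hea s) (hea t),
      eich_mul hB _ _ haa (hea t) (hea s), add_comm (t.1 • e)]
    congr 1
    simp only [map_smul, map_smulₛₗ, LinearMap.smul_apply, s.2, t.2, smul_eq_mul]
    ring
  obtain ⟨v, hv, hv0, hv'⟩ := exists_common_eigenvector (fun s : {s : F // σ s = s} => ρ (E s)) hc _
    (fun s => hinv s) hχ
  choose μ hμ using hv'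
  have hinjρ : ∀ g, Function.Injective (ρ g) := fun g x y h => by
    have := congrArg (ρ g⁻¹) h
    rwa [← End.mul_apply, ← End.mul_apply, ← map_mul, inv_mul_cancel, map_one] at this
  have hμ0 : ∀ s, μ s ≠ 0 := fun s h => hv0 (hinjρ (E s) (by rw [hμ, h, zero_smul, map_zero]))
  obtain ⟨θ, hθ⟩ := hne
  have key := card_le_of_wsp (fun s : {s : F // σ s = s} => ρ (E s)) hc
    (wsp (fun g : Γ.supp M₀ => ρ g) χ)
    (univ.image fun (t : {s : F // σ s = s}) (s : {s : F // σ s = s}) =>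
      μ s * χ (Γ.trv hM a ⟨_, hC s (t * θ)⟩)) (by
      intro μ' hμ'
      obtain ⟨t, -, rfl⟩ := mem_image.1 hμ'
      refine ⟨ρ (E (t * θ)) v, hinv _ v hv, fun h => hv0 (hinjρ _ (h.trans (map_zero _).symm)),
        mem_wsp.2 fun s => ?_⟩
      rw [← End.mul_apply, ← map_mul, hcomm, map_mul, map_mul, End.mul_apply, End.mul_apply,
        mem_wsp.1 hv, map_smul, hμ, smul_smul, map_smul, mul_comm])
  rw [card_image_of_injective, card_univ, Fintype.card_subtype] at key
  · exact key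
  intro t t' htt
  by_contra h1
  have h2 : (t : F) - t' ≠ 0 := sub_ne_zero.2 fun h => h1 (Subtype.ext h)
  have h3 : σ θ - θ ≠ 0 := sub_ne_zero.2 hθ
  have h4 : σ c₀ = -c₀ := by linear_combination c₀.2
  let s : {s : F // σ s = s} := ⟨c₀ / ((t - t') * (σ θ - θ) * B e e), by
    rw [map_div₀, map_mul, map_mul, map_sub, map_sub, t.2, t'.2, hB.invol, hB.fix_self, h4,
      ← neg_sub (σ θ), mul_neg, neg_mul, neg_div_neg_eq]⟩
  have h5 := mul_left_cancel₀ (hμ0 s) (congrFun htt s)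
  have h6 : Γ.trv hM a ⟨_, hC s (t * θ)⟩ = Γ.trv hM a ⟨_, hC s (t' * θ)⟩ * Γ.trv hM a c₀ := by
    refine Subtype.ext (Γ.inj ?_)
    rw [Subgroup.coe_mul, map_mul, Γ.act_trv, Γ.act_trv, Γ.act_trv, qrefl_mul_qrefl haa]
    congr 1
    have h7 : s * ((t - t') * (σ θ - θ) * B e e) = c₀ :=
      div_mul_cancel₀ _ (mul_ne_zero (mul_ne_zero h2 h3) he)
    simp only [map_smul, map_smulₛₗ, LinearMap.smul_apply, s.2, t.2, t'.2, smul_eq_mul, map_mul]
    linear_combination h7
  rw [h6, hmul] at h5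
  exact h (mul_left_cancel₀ (left_ne_zero_of_mul_eq_one (by rw [← hmul, mul_inv_cancel, hone]))
    (h5.trans (mul_one _).symm))

theorem card_frobq_fixed [Fintype F] [DecidableEq F] {q : ℕ} (hF : Fintype.card F = q ^ 2) :
    #{s : F | frobq hF s = s} = q := by
  have h1 := card_eq_sum_card_fiberwise (s := univ) (t := {s : F | frobq hF s = s}) (f := nrm hF)
    (fun x _ => by simp [frobq_nrm])
  rw [card_univ, hF, ← add_sum_erase _ _ (a := 0) (by simp), card_nrm_eq hF (map_zero _),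
    if_pos rfl, sum_congr rfl (g := fun _ => q + 1) (fun s hs => by
      rw [card_nrm_eq hF (by simpa using (mem_erase.1 hs).2), if_neg (ne_of_mem_erase hs)]),
    sum_const, card_erase_of_mem (by simp), smul_eq_mul] at h1
  have h2 : 0 < #{s : F | frobq hF s = s} := card_pos.2 ⟨0, by simp⟩
  obtain ⟨r, hr⟩ : ∃ r, #{s : F | frobq hF s = s} = r + 1 := ⟨_, (Nat.sub_add_cancel h2).symm⟩
  rw [hr, Nat.add_sub_cancel] at h1
  rw [hr]
  apply Nat.eq_of_mul_eq_mul_right (Nat.succ_pos q)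
  nlinarith

theorem card_mul_frobq_le [Fintype F] [DecidableEq F] {q : ℕ} (hF : Fintype.card F = q ^ 2)
    (s : F) : #{t : F | t * frobq hF t = s} ≤ q + 1 := by
  by_cases h : frobq hF s = s
  · have := card_nrm_eq hF h
    refine le_trans (le_of_eq this) ?_
    split_ifs <;> omega
  · rw [filter_false_of_mem fun t _ ht => h (by rw [← ht]; exact frobq_nrm hF t)]
    simp

theorem card_mul_self_le [Fintype F] [DecidableEq F] (s : F) : #{t : F | t * t = s} ≤ 2 := by
  by_cases h : ∃ t : F, t * t = s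
  · obtain ⟨t, rfl⟩ := h
    refine le_trans (card_le_card (t := {t, -t}) fun u hu => ?_) card_le_two
    simpa [mul_self_eq_mul_self_iff] using hu
  · push Not at h
    simp [h]

theorem exists_char_cast [Fintype F] : ∃ p : ℕ, (p : F) = 0 ∧ (p : ℂ) ≠ 0 :=
  ⟨Fintype.card F, FiniteField.cast_card_eq_zero F, Nat.cast_ne_zero.2 Fintype.card_ne_zero⟩

end Cfsg.Agent.Forms
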