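import Cfsg.Agent.Forms.MinDeg2

/-!
The lower bound `(q ^ n - 1) / 2` for cross-characteristic representations of `Sp_{2n}(q)`, `q` odd.
-/

set_option autoImplicit false

namespace Cfsg.Agent.Forms

open Module Finset

variable {F : Type*} [Field F] {n : ℕ}

/-- The inclusion of the first half of the coordinates. -/
def inlLin (n : ℕ) (F : Type*) [Field F] : (Fin n → F) →ₗ[F] (Fin n ⊕ Fin n → F) where
  toFun x := Sum.elim x 0
  map_add' x y := by ext (i | i) <;> simp
  map_smul' c x := by ext (i | i) <;> simp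

theorem inlLin_injective : Function.Injective (inlLin n F) := fun _ _ h =>
  funext fun i => congrFun h (.inl i)

theorem finrank_range_inlLin : finrank F (LinearMap.range (inlLin n F)) = n := by
  rw [LinearMap.finrank_range_of_inj inlLin_injective, finrank_fin_fun]

theorem range_inlLin_isotropic : ∀ x ∈ LinearMap.range (inlLin n F),
    ∀ y ∈ LinearMap.range (inlLin n F), sympB n F x y = 0 := by
  rintro _ ⟨x, rfl⟩ _ ⟨y, rfl⟩
  simp [sympB_eq, inlLin]

theorem sympB_rep : Rep (σ := RingHom.id F) (sympB n F) := rep_of_nondegenerate sympB_nondegenerate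

theorem sympB_hval (y : Fin n ⊕ Fin n → F) : ∃ c, c * -1 + RingHom.id F c = sympB n F y y :=
  ⟨0, by simp [sympB_self]⟩

theorem sp_degree_bound [Fintype F] (hn : 2 ≤ n) (h2 : (2 : F) ≠ 0) {K M : Type*} [Field K]
    [IsAlgClosed K] [AddCommGroup M] [Module K M] [FiniteDimensional K M]
    (ρ : Matrix.symplecticGroup (Fin n) F →* End K M) {p : ℕ} (hpF : (p : F) = 0)
    (hpK : (p : K) ≠ 0) {g : Matrix.symplecticGroup (Fin n) F} {a : Fin n ⊕ Fin n → F} {c : F}
    (hg : slin g = qrefl (σ := RingHom.id F) (sympB n F) a c) (h : ρ g ≠ 1) :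
    Fintype.card F ^ n - 1 ≤ 2 * finrank K M := by
  classical
  obtain ⟨a, c, h4⟩ := IsoGrp.exists_trv_ne_one (Γ := spGrp n F) range_inlLin_isotropic
    sympB_isEHerm sympB_nd sympB_hval ⟨1, one_ne_zero, by simp⟩ (by
      intro h
      have := finrank_range_inlLin (n := n) (F := F)
      rw [h, finrank_bot] at this
      omega) ρ (sympB_self a) (by simp) hg h
  obtain ⟨χ, h5, -, h6⟩ := IsoGrp.exists_weight_bound range_inlLin_isotropic sympB_isEHerm sympB_rep
    sympB_hval ⟨2⁻¹, by rw [RingHom.id_apply, ← two_mul, mul_inv_cancel₀ h2]⟩ card_mul_self_le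
    (IsoGrp.trans_of_two_le range_inlLin_isotropic sympB_isEHerm sympB_rep sympB_hval
      (by rwa [finrank_range_inlLin])) ρ hpF hpK h4
  rw [natCard_eq_pow_finrank (K := F), Nat.card_eq_fintype_card, finrank_range_inlLin] at h6
  refine le_trans (Nat.le_mul_of_pos_right _ ?_) h6
  rwa [Nat.pos_iff_ne_zero, Ne, Submodule.finrank_eq_zero]

/-- Extension of scalars of a matrix representation to the algebraic closure. -/
noncomputable def extRep {G : Type*} [Group G] {K : Type*} [Field K] {d : ℕ} (ρ : G →* GL (Fin d) K) :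
    G →* End (AlgebraicClosure K) (Fin d → AlgebraicClosure K) :=
  (Matrix.toLinAlgEquiv'.toMonoidHom.comp
    (RingHom.mapMatrix (algebraMap K (AlgebraicClosure K))).toMonoidHom).comp
    ((Units.coeHom _).comp ρ)

theorem extRep_eq_one {G : Type*} [Group G] {K : Type*} [Field K] {d : ℕ} {ρ : G →* GL (Fin d) K}
    {g : G} (h : extRep ρ g = 1) : ρ g = 1 := by
  have h1 : ((ρ g : GL (Fin d) K) : Matrix (Fin d) (Fin d) K).map
      (algebraMap K (AlgebraicClosure K)) = 1 :=
    (map_eq_one_iff _ Matrix.toLinAlgEquiv'.injective).1 h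
  refine Units.ext (Matrix.map_injective (algebraMap K (AlgebraicClosure K)).injective ?_)
  simp only
  rw [h1, Units.val_one, Matrix.map_one _ (map_zero _) (map_one _)]

theorem cast_ringChar_ne_zero [Finite F] {K : Type*} [Field K] (hK : ringChar K ≠ ringChar F) :
    ((ringChar F : ℕ) : AlgebraicClosure K) ≠ 0 := by
  rw [← map_natCast (algebraMap K (AlgebraicClosure K)), map_ne_zero, Ne, ringChar.spec,
    Nat.dvd_prime (CharP.char_is_prime F (ringChar F)), not_or]
  exact ⟨CharP.ringChar_ne_one, hK⟩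

end Cfsg.Agent.Forms
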