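import Cfsg.Agent.Forms.Weights
import Cfsg.Agent.CharLib.ClassFun

/-!
One-parameter groups of operators indexed by a finite field: weight spaces, projections and
functional calculus.  Isotypic projections of representations.
-/

set_option autoImplicit false

namespace Cfsg.Agent.Forms

open Module Finset Cfsg.Agent.CharLib

section OnePar

variable {F : Type*} [Field F] {M : Type*} [AddCommGroup M] [Module ℂ M]

/-- One-parameter groups. -/
structure OP (τ : F → End ℂ M) : Prop where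
  zero : τ 0 = 1
  add : ∀ c d, τ (c + d) = τ c * τ d

/-- The weight space of a one-parameter group. -/
noncomputable def Wt (ψ : AddChar F ℂ) (τ : F → End ℂ M) (x : F) : Submodule ℂ M :=
  wsp τ fun c => ψ (c * x)

variable {ψ : AddChar F ℂ} {τ τ' : F → End ℂ M}

theorem mem_Wt {x : F} {m : M} : m ∈ Wt ψ τ x ↔ ∀ c, τ c m = ψ (c * x) • m := mem_wsp

theorem map_mem_Wt {M' : Type*} [AddCommGroup M'] [Module ℂ M'] {τ' : F → End ℂ M'}
    {S : M →ₗ[ℂ] M'} (hS : ∀ c m, S (τ c m) = τ' c (S m)) {x : F} {m : M}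
    (hm : m ∈ Wt ψ τ x) : S m ∈ Wt ψ τ' x :=
  mem_Wt.2 fun c => by rw [← hS, mem_Wt.1 hm, map_smul]

theorem map_mem_Wt' {S : End ℂ M} (hS : ∀ c, S * τ c = τ' c * S) {x : F} {m : M}
    (hm : m ∈ Wt ψ τ x) : S m ∈ Wt ψ τ' x :=
  map_mem_Wt (fun c m => LinearMap.congr_fun (hS c) m) hm

theorem Wt_inv {x : F} (c : F) {m : M} (hm : m ∈ Wt ψ τ x) : τ c m ∈ Wt ψ τ x := by
  rw [mem_Wt.1 hm]
  exact Submodule.smul_mem _ _ hm

variable [Fintype F]

theorem sum_addChar_mul [DecidableEq F] (hψ : ψ ≠ 1) (x : F) :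
    ∑ c, ψ (c * x) = if x = 0 then (Fintype.card F : ℂ) else 0 := by
  rw [AddChar.sum_mulShift x (AddChar.IsPrimitive.of_ne_one hψ)]
  simp

variable (ψ τ) in
/-- The projection to a weight space. -/
noncomputable def prj (x : F) : End ℂ M := (Fintype.card F : ℂ)⁻¹ • ∑ c, ψ (-(c * x)) • τ c

theorem sum_prj (hψ : ψ ≠ 1) (hτ : OP τ) : ∑ x, prj ψ τ x = 1 := by
  classical
  simp only [prj, ← smul_sum]
  rw [sum_comm]
  simp only [← sum_smul, ← neg_mul, mul_comm _ (_ : F), sum_addChar_mul hψ, neg_eq_zero, ite_smul,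
    zero_smul, sum_ite_eq', mem_univ, if_true, hτ.zero, smul_smul]
  rw [inv_mul_cancel₀ (Nat.cast_ne_zero.2 Fintype.card_ne_zero), one_smul]

theorem prj_mem (hτ : OP τ) (x : F) (m : M) : prj ψ τ x m ∈ Wt ψ τ x := mem_Wt.2 fun d => by
  simp only [prj, LinearMap.smul_apply, LinearMap.sum_apply, map_smul, map_sum, ← End.mul_apply,
    ← hτ.add]
  rw [smul_comm (ψ _), smul_sum (r := ψ _)]
  congr 1
  conv_rhs => rw [← Equiv.sum_comp (Equiv.addLeft d)]
  refine sum_congr rfl fun c _ => ?_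
  rw [smul_smul, ← AddChar.map_add_eq_mul, Equiv.coe_addLeft]
  congr 2
  ring

theorem prj_of_mem [DecidableEq F] (hψ : ψ ≠ 1) {y : F} {m : M} (hm : m ∈ Wt ψ τ y) (x : F) :
    prj ψ τ x m = if x = y then m else 0 := by
  simp only [prj, LinearMap.smul_apply, LinearMap.sum_apply, mem_Wt.1 hm, smul_smul,
    ← AddChar.map_add_eq_mul, ← sum_smul, show ∀ c, -(c * x) + c * y = c * (y - x) from
      fun c => by ring, sum_addChar_mul hψ, sub_eq_zero, eq_comm (a := y)]
  split_ifs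
  · rw [inv_mul_cancel₀ (Nat.cast_ne_zero.2 Fintype.card_ne_zero), one_smul]
  · rw [mul_zero, zero_smul]

theorem prj_self (hψ : ψ ≠ 1) {x : F} {m : M} (hm : m ∈ Wt ψ τ x) : prj ψ τ x m = m := by
  classical
  rw [prj_of_mem hψ hm, if_pos rfl]

theorem prj_comm {S : End ℂ M} (hS : ∀ c, S * τ c = τ' c * S) (x : F) :
    S * prj ψ τ x = prj ψ τ' x * S := by
  simp only [prj, mul_smul_comm, smul_mul_assoc, mul_sum, sum_mul, hS]

theorem wt_induction (hψ : ψ ≠ 1) (hτ : OP τ) {W N : Submodule ℂ M}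
    (hW : ∀ c, ∀ m ∈ W, τ c m ∈ W) (h : ∀ x, ∀ m ∈ W, m ∈ Wt ψ τ x → m ∈ N) : W ≤ N := by
  intro m hm
  have h1 := LinearMap.congr_fun (sum_prj hψ hτ) m
  rw [End.one_apply, LinearMap.sum_apply] at h1
  rw [← h1]
  refine N.sum_mem fun x _ => h x _ ?_ (prj_mem hτ x m)
  rw [prj, LinearMap.smul_apply, LinearMap.sum_apply]
  exact W.smul_mem _ (W.sum_mem fun c _ => W.smul_mem _ (hW c m hm))

theorem wt_ext (hψ : ψ ≠ 1) (hτ : OP τ) {M' : Type*} [AddCommGroup M'] [Module ℂ M']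
    {S T : M →ₗ[ℂ] M'} (h : ∀ x, ∀ m ∈ Wt ψ τ x, S m = T m) : S = T :=
  LinearMap.ext fun _ => wt_induction hψ hτ (W := ⊤) (N := LinearMap.eqLocus S T)
    (fun _ _ _ => trivial) (fun x m _ hm => h x m hm) trivial

variable (ψ τ) in
/-- Functional calculus. -/
noncomputable def fcal (φ : F → ℂ) : End ℂ M := ∑ x, φ x • prj ψ τ x

theorem fcal_of_mem (hψ : ψ ≠ 1) (φ : F → ℂ) {y : F} {m : M} (hm : m ∈ Wt ψ τ y) :
    fcal ψ τ φ m = φ y • m := by
  classical
  simp [fcal, LinearMap.sum_apply, prj_of_mem hψ hm]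

theorem fcal_comm {S : End ℂ M} (hS : ∀ c, S * τ c = τ' c * S) (φ : F → ℂ) :
    S * fcal ψ τ φ = fcal ψ τ' φ * S := by
  simp only [fcal, mul_smul_comm, smul_mul_assoc, mul_sum, sum_mul, prj_comm hS]

theorem exists_wt_of_trace_eq (hψ : ψ ≠ 1) [FiniteDimensional ℂ M] {M' : Type*} [AddCommGroup M']
    [Module ℂ M'] [FiniteDimensional ℂ M'] {τ' : F → End ℂ M'} (hτ : OP τ) (hτ' : OP τ')
    (h : ∀ c, LinearMap.trace ℂ M (τ c) = LinearMap.trace ℂ M' (τ' c)) {x : F} {m : M}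
    (hm : m ∈ Wt ψ τ x) (hm0 : m ≠ 0) : ∃ m' ∈ Wt ψ τ' x, m' ≠ 0 := by
  by_contra h1
  push Not at h1
  have h2 : prj ψ τ' x = 0 := LinearMap.ext fun m => h1 _ (prj_mem hτ' x m)
  have h3 : LinearMap.trace ℂ M (prj ψ τ x) = LinearMap.trace ℂ M' (prj ψ τ' x) := by
    simp only [prj, map_smul, map_sum, h]
  rw [h2, map_zero] at h3
  have h4 : IsIdempotentElem (prj ψ τ x) :=
    LinearMap.ext fun m => prj_self hψ (prj_mem hτ x m)
  have h5 := prj_self hψ hm
  rw [LinearMap.IsIdempotentElem.eq_zero_of_trace_eq_zero h4 h3] at h5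
  exact hm0 h5.symm

end OnePar

section Iso

variable {G : Type*} [Group G] [Fintype G] {M : Type*} [AddCommGroup M] [Module ℂ M]
  [FiniteDimensional ℂ M]

theorem sum_char_smul_eq_zero (ω : Representation ℂ G M) {χ : G → ℂ} (hχ : IsIrrCharacter G χ)
    (h : classInner ω.character χ = 0) : ∑ g, χ g⁻¹ • ω g = 0 := by
  have h0 := card_ne_zero (G := G)
  have h1 : ∑ g, χ g⁻¹ * χ g = Nat.card G := by
    have := inner_irr_self hχ
    rw [inner_eq_inv (isChar_of_irr hχ), inv_mul_eq_one₀ h0] at this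
    rw [this]
    exact sum_congr rfl fun g _ => mul_comm _ _
  have h2 : IsIdempotentElem ((χ 1 / Nat.card G) • ∑ g, χ g⁻¹ • ω g) := by
    rw [IsIdempotentElem, smul_mul_smul_comm, mul_smul]
    congr 1
    simp only [sum_mul, mul_sum, smul_mul_smul_comm, ← map_mul]
    rw [sum_congr rfl fun (k : G) _ => (Equiv.sum_comp (Equiv.mulRight k⁻¹)
      fun g => (χ g⁻¹ * χ k⁻¹) • ω (g * k)).symm, sum_comm, smul_sum]
    refine sum_congr rfl fun k _ => ?_
    simp only [Equiv.coe_mulRight, inv_mul_cancel_right, ← sum_smul, smul_smul]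
    congr 1
    have := irr_convolution (isChar_classFun (isChar_inv (isChar_of_irr hχ))) hχ k⁻¹
    rw [h1] at this
    rw [div_mul_eq_mul_div, div_eq_iff h0, mul_comm (χ k⁻¹), ← this]
    simp only [mul_inv_rev, inv_inv, mul_comm]
  have h3 := LinearMap.IsIdempotentElem.eq_zero_of_trace_eq_zero h2 (by
    rw [inner_eq_inv (isChar_of_irr hχ), mul_eq_zero, inv_eq_zero, or_iff_right h0] at h
    simp only [map_smul, map_sum, smul_eq_mul]
    rw [mul_eq_zero, ← h]
    exact Or.inr (sum_congr rfl fun g _ => mul_comm _ _))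
  exact (smul_eq_zero.1 h3).resolve_left (div_ne_zero (isIrr_one_ne_zero hχ) h0)

theorem inner_ne_zero_of_factor (ω : Representation ℂ G M) {M' : Type*} [AddCommGroup M']
    [Module ℂ M'] [FiniteDimensional ℂ M'] (ρ : Representation ℂ G M')
    (hρ : IsIrrCharacter G ρ.character) (Θ : End ℂ M →ₗ[ℂ] End ℂ M') (h : ∀ g, Θ (ω g) = ρ g) :
    classInner ρ.character ω.character ≠ 0 := by
  intro h1
  rw [inner_char_comm (isChar_of_irr hρ) (isCharacter_character ω)] at h1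
  have h2 := congrArg (fun S => LinearMap.trace ℂ M' (Θ S)) (sum_char_smul_eq_zero ω hρ h1)
  simp only [map_sum, map_smul, h, map_zero, smul_eq_mul] at h2
  have h3 := inner_irr_self hρ
  rw [inner_eq_inv (isChar_of_irr hρ), sum_congr rfl fun g _ => mul_comm _ _] at h3
  exact zero_ne_one ((mul_eq_zero_of_right _ h2).symm.trans h3)

end Iso

end Cfsg.Agent.Forms
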