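import Cfsg.Agent.Polar.Std
import Cfsg.Agent.GLn.RegThree

/-! Generation of classical groups by regular unipotent elements: general tools. -/

set_option autoImplicit false

open Module

namespace Cfsg.Agent.Forms.RegCl

open Cfsg.Agent.Polar Cfsg.Agent.Polar.PQ Cfsg.Agent.GLn

variable {F : Type*} [Field F] {τ : F →+* F} {π : FP F τ}
variable {V : Type*} [AddCommGroup V] [Module F V] {P : PQ π V} {H : Subgroup P.Iso}

theorem addGen_of_pow [Fintype F] {θ : F} (h0 : θ ≠ 0)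
    (h : ∀ r d : ℕ, 2 ≤ r → 2 ≤ d → r ^ d = Fintype.card F → θ ^ (r - 1) ≠ 1) : AddGen θ := by
  classical
  intro A hA c hc hc0
  let R : Subring F :=
    { carrier := {r | ∀ x ∈ A, r * x ∈ A}
      mul_mem' := fun {a b} ha hb x hx => by rw [mul_assoc]; exact ha _ (hb x hx)
      one_mem' := fun x hx => by rwa [one_mul]
      add_mem' := fun {a b} ha hb x hx => by rw [add_mul]; exact A.add_mem (ha x hx) (hb x hx)
      zero_mem' := fun x _ => by rw [zero_mul]; exact A.zero_mem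
      neg_mem' := fun {a} ha x hx => by rw [neg_mul]; exact A.neg_mem (ha x hx) }
  let K : Subfield F := { R with
    inv_mem' := fun a ha => by
      by_cases ha0 : a = 0
      · rw [ha0, inv_zero]; exact R.zero_mem
      have h1 := FiniteField.pow_card_sub_one_eq_one a ha0
      have h2 : a⁻¹ = a ^ (Fintype.card F - 2) := by
        refine inv_eq_of_mul_eq_one_right ?_
        rw [← pow_succ', ← h1]; congr 1
        have := Fintype.one_lt_card (α := F); omega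
      rw [h2]; exact R.pow_mem ha _ }
  have hK : Fintype.card F = Fintype.card K ^ finrank K F := Module.card_eq_pow_finrank
  have h1 : finrank K F = 1 := by
    by_contra hne
    have h2 : 0 < finrank K F := Module.finrank_pos
    refine h _ _ (Fintype.one_lt_card (α := K)) (by omega) hK.symm ?_
    have := FiniteField.pow_card_sub_one_eq_one (⟨θ, hA⟩ : K) (fun e => h0 (congrArg Subtype.val e))
    exact congrArg Subtype.val this
  rw [h1, pow_one] at hK
  have h2 : Function.Surjective K.subtype :=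
    ((Fintype.bijective_iff_injective_and_card _).2 ⟨K.subtype.injective, hK.symm⟩).2
  refine eq_top_iff.mpr fun y _ => ?_
  obtain ⟨r, hr⟩ := h2 (y / c)
  have := r.2 c hc
  rwa [show (r : F) = y / c from hr, div_mul_cancel₀ _ hc0] at this

theorem act_vecs {e w : V} (he : P.Sing e) {g : P.Iso} (hg : g ∈ H) {t : F} (hge : g • e = t • e)
    (ht : t ≠ 0) (hw : w ∈ P.vecs H he) : τ t • g • w ∈ P.vecs H he := by
  obtain ⟨c, h, hm⟩ := hw
  have h1 : P.EOk e (g • w) c := by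
    have := (h.act g).smul_left t⁻¹
    rwa [hge, smul_smul, inv_mul_cancel₀ ht, one_smul] at this
  have h2 : P.EOk e (τ t • g • w) (t * τ t * c) := by
    have := h1.smul_right (τ t)
    rwa [π.tau_tau, mul_comm (τ t) t] at this
  refine ⟨_, h2, ?_⟩
  rw [← h1.eich_smul_left, ← hge, ← h.conj_eich]
  exact H.mul_mem (H.mul_mem hg hm) (H.inv_mem hg)

theorem eOk_of_add {e w : V} {c a : F} (h : P.EOk e (w + a • e) c) : P.EOk e w c := by
  simpa using h.add_smul_e (-a)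

theorem lam_shift (a : F) : -(π.ε * (a - π.ε * τ a)) ∈ π.Λ := by
  have := π.lam_min (τ a)
  rw [π.tau_tau] at this
  convert this using 1
  linear_combination (τ a) * π.eps_sq

theorem vecs_of_add {e w : V} (he : P.Sing e) {a : F} (hw : w + a • e ∈ P.vecs H he) :
    w ∈ P.vecs H he := by
  obtain ⟨c, h, hm⟩ := hw
  rw [(eOk_of_add h).eich_add_smul_e] at hm
  exact ⟨_, by rw [sub_eq_add_neg]; exact (eOk_of_add h).add_lam (lam_shift a), hm⟩

theorem vecs_of_act {e w w' : V} (he : P.Sing e) {g : P.Iso} (hg : g ∈ H) (hge : g • e = e)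
    (hw : w ∈ P.vecs H he) {a : F} (h : g • w = w' + a • e) : w' ∈ P.vecs H he := by
  have := act_vecs he hg (t := 1) (by rw [hge, one_smul]) one_ne_zero hw
  rw [map_one, one_smul, h] at this
  exact vecs_of_add he this

theorem step {e x y : V} {c a : F} (h : P.EOk e x c) (hm : P.eich e x c ∈ H) {L : P.Iso}
    (hL : L ∈ H) (hLe : L • e = e) (hx : L • x = x + y + a • e) :
    P.EOk e y (-(π.ε * (a - π.ε * τ a)) - P.B x y) ∧
      P.eich e y (-(π.ε * (a - π.ε * τ a)) - P.B x y) ∈ H := by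
  have h1 := h.act L
  have h2 := H.mul_mem (H.mul_mem (H.mul_mem hL hm) (H.inv_mem hL)) (H.inv_mem hm)
  rw [h.conj_eich, hLe, hx] at h2
  rw [hLe, hx] at h1
  have h3 := (eOk_of_add h1).add_lam (lam_shift a)
  rw [(eOk_of_add h1).eich_add_smul_e, h.eich_inv, sub_eq_add_neg, h3.eich_mul h.neg] at h2
  have h4 := h3.add h.neg
  have e1 : x + y + -x = y := by abel
  have e2 : c + -(π.ε * (a - π.ε * τ a)) + π.ε * τ c + P.B (-x) (x + y) =
      -(π.ε * (a - π.ε * τ a)) - P.B x y := by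
    rw [map_neg, LinearMap.neg_apply, map_add, ← h.val.trace]; ring
  rw [e1, e2] at h2 h4
  exact ⟨h4, h2⟩

theorem coreL {e v x : V} (he : P.Sing e) {L : P.Iso} (hL : L ∈ H) {θ a s : F}
    (hLe : L • e = e) (hx : L • x = x + θ • v + a • e)
    (hvx : ∀ σ : F, σ • v ∈ P.vecs H he → σ • x ∈ P.vecs H he) (hθ : AddGen θ) (hθ0 : θ ≠ 0)
    (hs : s ≠ 0) (hsx : s • x ∈ P.vecs H he) (σ : F) : σ • v ∈ P.vecs H he := by
  let S : AddSubgroup F :=
    { carrier := {σ | σ • x ∈ P.vecs H he}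
      zero_mem' := by simp
      add_mem' := fun {a b} ha hb => by
        change _ ∈ P.vecs H he; rw [add_smul]; exact add_mem ha hb
      neg_mem' := fun {a} ha => by
        change _ ∈ P.vecs H he; rw [neg_smul]; exact neg_mem ha }
  have key : ∀ σ ∈ S, (θ * σ) • v ∈ P.vecs H he := fun σ hσ => by
    have h1 := vecs_of_act he hL hLe hσ (w' := σ • x + (θ * σ) • v) (a := σ * a) (by
      rw [act_smul, hx]; module)
    simpa using sub_mem h1 hσ
  have h2 := hθ S (fun σ hσ => hvx _ (key σ hσ)) s hsx hs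
  have h3 := key (σ / θ) (h2 ▸ AddSubgroup.mem_top _)
  rwa [mul_div_cancel₀ _ hθ0] at h3

theorem U_le_of_min {e f : V} (h : P.Hyp e f) (hP : P.ND) (hΛ : ∀ c ∈ π.Λ, ∃ a, c = a - π.ε * τ a)
    {v : V} (hv : v ∈ P.perp {e, f}) (hv0 : v ≠ 0)
    (hw : ∀ w ∈ P.perp {e, f}, w ∈ P.vecs H h.left) : P.U e ≤ H := by
  refine h.U_le_of_vecs (fun c hc => ?_) hw
  obtain ⟨a, rfl⟩ := hΛ c hc
  obtain ⟨y, hy⟩ := (h.emb.nd hP).exists_eq' (x := ⟨v, hv⟩) (fun e => hv0 (congrArg Subtype.val e)) a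
  obtain ⟨c, h1, h2⟩ := hw v hv
  obtain ⟨c', h1', h2'⟩ := hw y y.2
  have := H.mul_mem (H.mul_mem (H.mul_mem h2 h2') (H.inv_mem h2)) (H.inv_mem h2')
  rwa [eich_comm h1 h1', P.symm y v, show P.B y v = a from hy] at this

theorem EG_le_of_ne (hP : P.ND) {x y : V} (hx : P.Sing x) (hy : P.Sing y) (hxy : P.B x y ≠ 0)
    (h1 : P.U x ≤ H) (h2 : P.U y ≤ H) : P.EG ≤ H :=
  (hyp_of_ne hx hy hxy).EG_le hP h1 (by
    rwa [U_smul ((map_ne_zero τ).2 (inv_ne_zero hxy))])

/-- The endomorphism `u - 1`. -/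
def nil (u : P.Iso) : Module.End F V := ((u : V ≃ₗ[F] V) : V →ₗ[F] V) - 1

theorem nil_apply (u : P.Iso) (x : V) : nil u x = u • x - x := rfl

variable (P) in
/-- `u` is unipotent with cyclic vector `f`. -/
structure Cyc (u : P.Iso) (f : V) : Prop where
  mem : u ∈ P.EG
  nilp : IsNilpotent (nil u)
  cyc : ∀ W : Submodule F V, f ∈ W → (∀ x ∈ W, u • x ∈ W) → W = ⊤

theorem Cyc.pow_ne_zero [FiniteDimensional F V] {u : P.Iso} {f : V} (h : Cyc P u f)
    (hV : 0 < finrank F V) : nil u ^ (finrank F V - 1) ≠ 0 := by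
  intro h0
  have h1 := h.cyc (Submodule.span F (Set.range fun i : Fin (finrank F V - 1) => (nil u ^ i.val) f))
    ?_ ?_
  · have h2 := finrank_range_le_card (R := F) fun i : Fin (finrank F V - 1) => (nil u ^ i.val) f
    rw [Set.finrank, h1] at h2
    simp at h2; omega
  · by_cases h2 : finrank F V - 1 = 0
    · rw [h2, pow_zero] at h0
      have : f = 0 := by simpa using LinearMap.congr_fun h0 f
      rw [this]; exact zero_mem _
    · exact Submodule.subset_span ⟨⟨0, by omega⟩, by simp⟩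
  · intro x hx
    have : u • x = nil u x + x := by rw [nil_apply, sub_add_cancel]
    rw [this]
    refine add_mem ?_ hx
    refine Submodule.span_induction (p := fun x _ => nil u x ∈ _) ?_ (by simp) ?_ ?_ hx
    · rintro _ ⟨i, rfl⟩
      rw [← Module.End.mul_apply, ← pow_succ']
      by_cases h2 : i.val + 1 < finrank F V - 1
      · exact Submodule.subset_span ⟨⟨_, h2⟩, rfl⟩
      · rw [show i.val + 1 = finrank F V - 1 by omega, h0]; exact zero_mem _
    · intro a b _ _ ha hb; rw [map_add]; exact add_mem ha hb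
    · intro a b _ hb; rw [map_smul]; exact Submodule.smul_mem _ _ hb

variable (P) in
/-- A hyperbolic pair and a regular unipotent element of its complement. -/
structure RD (e f v : V) (u : P.Iso) : Prop where
  hyp : P.Hyp e f
  mem : u ∈ P.EG
  fixe : u • e = e
  fixf : u • f = f
  vp : v ∈ P.perp {e, f}
  nilp : IsNilpotent (nil u)
  cyc : ∀ W : Submodule F V, v ∈ W → (∀ x ∈ W, x ∈ P.perp {e, f} → u • x ∈ W) → P.perp {e, f} ≤ W

theorem RD.of_cyc {e f : V} (h : P.Hyp e f) {u : (P.res (P.perp {e, f})).Iso}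
    {v : P.perp {e, f}} (hu : Cyc _ u v) : RD P e f v (h.emb.ext u) where
  hyp := h
  mem := h.emb.ext_mem_EG hu.mem
  fixe := h.emb.ext_smul_ker _ h.emb_r_left
  fixf := h.emb.ext_smul_ker _ h.emb_r_right
  vp := v.2
  nilp := by
    obtain ⟨k, hk⟩ := hu.nilp
    have : ∀ k x, (nil (h.emb.ext u) ^ (k + 1)) x = h.emb.i ((nil u ^ (k + 1)) (h.emb.r x)) := by
      intro k
      induction k with
      | zero => intro x; simp [nil_apply, Emb.ext_smul]; abel
      | succ k ih =>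
        intro x
        rw [pow_succ', Module.End.mul_apply, ih, nil_apply, Emb.ext_smul_i, ← map_sub, ← nil_apply,
          ← Module.End.mul_apply, ← pow_succ']
    exact ⟨k + 1, LinearMap.ext fun x => by rw [this, pow_succ', hk]; simp⟩
  cyc := fun W hv hW x hx => by
    have := hu.cyc (W.comap (P.perp {e, f}).subtype) hv fun y hy => by
      have := hW y hy y.2
      rwa [← h.emb_i, Emb.ext_smul_i] at this
    exact (this ▸ Submodule.mem_top : (⟨x, hx⟩ : P.perp {e, f}) ∈ W.comap _)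

namespace RD

variable {e f v : V} {u : P.Iso} (D : RD P e f v u)
include D

theorem ve : P.B v e = 0 := (mem_perp_pair.1 D.vp).1
theorem vf : P.B v f = 0 := (mem_perp_pair.1 D.vp).2

theorem act_mem {x : V} (hx : x ∈ P.perp {e, f}) : u • x ∈ P.perp {e, f} := by
  rw [mem_perp_pair] at *
  rw [← D.fixe, ← D.fixf, B_smul_smul, B_smul_smul]; exact hx

theorem inv_fixe : u⁻¹ • e = e := inv_smul_eq_iff.2 D.fixe.symm
theorem inv_fixf : u⁻¹ • f = f := inv_smul_eq_iff.2 D.fixf.symm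

theorem inv_act_mem {x : V} (hx : x ∈ P.perp {e, f}) : u⁻¹ • x ∈ P.perp {e, f} := by
  rw [mem_perp_pair] at *
  rw [← D.inv_fixe, ← D.inv_fixf, B_smul_smul, B_smul_smul]; exact hx

theorem pow_act_mem (k : ℕ) {x : V} (hx : x ∈ P.perp {e, f}) : u ^ k • x ∈ P.perp {e, f} := by
  induction k with
  | zero => simpa using hx
  | succ k ih => rw [pow_succ', mul_smul]; exact D.act_mem ih

theorem nil_mem (k : ℕ) {x : V} (hx : x ∈ P.perp {e, f}) : (nil u ^ k) x ∈ P.perp {e, f} := by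
  induction k with
  | zero => simpa using hx
  | succ k ih => rw [pow_succ', Module.End.mul_apply]; exact sub_mem (D.act_mem ih) ih

theorem eq_zero (hP : P.ND) {z : V} (hz : z ∈ P.perp {e, f}) {W : Submodule F V} (hv : v ∈ W)
    (hW : ∀ x ∈ W, x ∈ P.perp {e, f} → u • x ∈ W) (h : ∀ x ∈ W, P.B x z = 0) : z = 0 :=
  congrArg Subtype.val ((D.hyp.emb.nd hP).right (y := ⟨z, hz⟩) fun x => h x (D.cyc W hv hW x.2))

theorem exists_ne (hP : P.ND) (hv : v ≠ 0) : ∃ k : ℕ, P.B (u ^ k • v) v ≠ 0 := by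
  by_contra hc
  push Not at hc
  let W : Submodule F V :=
    { carrier := {x | ∀ k : ℕ, P.B (u ^ k • x) v = 0}
      add_mem' := fun {a b} ha hb k => by rw [smul_add, map_add, LinearMap.add_apply, ha, hb, add_zero]
      zero_mem' := fun k => by simp
      smul_mem' := fun c a ha k => by rw [act_smul, B_smul_left, ha, mul_zero] }
  exact hv (D.eq_zero hP D.vp (W := W) hc (fun x hx _ k => by rw [← mul_smul, ← pow_succ]; exact hx _)
    fun x hx => by simpa using hx 0)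

theorem exists_fix (hP : P.ND) (hv : v ≠ 0) :
    ∃ m, u • (nil u ^ m) v = (nil u ^ m) v ∧ P.B ((nil u ^ m) v) v ≠ 0 := by
  obtain ⟨k, hk⟩ := D.nilp
  obtain ⟨m, hm1, hm2⟩ : ∃ m, (nil u ^ m) v ≠ 0 ∧ (nil u ^ (m + 1)) v = 0 := by
    by_contra hc
    push Not at hc
    have : ∀ m, (nil u ^ m) v ≠ 0 := fun m => by
      induction m with
      | zero => simpa using hv
      | succ m ih => exact hc m ih
    exact this k (by rw [hk]; rfl)
  rw [pow_succ', Module.End.mul_apply, nil_apply, sub_eq_zero] at hm2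
  refine ⟨m, hm2, fun h => hm1 (D.eq_zero hP (D.nil_mem m D.vp) (W := P.perp {(nil u ^ m) v})
    (mem_perp_singleton.2 (B_swap_zero h)) (fun x hx _ => ?_) fun x hx => mem_perp_singleton.1 hx)⟩
  rw [mem_perp_singleton] at *
  rwa [← hm2, B_smul_smul]

theorem smul_eq {w : V} {c : F} (hc : P.EOk e w c) {x : V} (hx : x ∈ P.perp {e, f}) :
    (P.eich e w c * u) • x = u • x + (-(π.ε * P.B (u • x) w)) • e := by
  rw [mul_smul, hc.eich_smul_of_perp (mem_perp_pair.1 (D.act_mem hx)).1, neg_smul, sub_eq_add_neg]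

theorem smul_e {w : V} {c : F} (hc : P.EOk e w c) : (P.eich e w c * u) • e = e := by
  rw [mul_smul, D.fixe, hc.eich_smul_e]

theorem cyc_step [FiniteDimensional F V] (hP : P.ND) {c : F} (hc : P.QEq v c)
    (h0 : v ≠ 0 ∨ c ≠ 0) : Cyc P (P.eich e v c * u) f := by
  have hok : P.EOk e v c := ⟨D.hyp.left, D.ve, hc⟩
  have hf : (P.eich e v c * u) • f = f + π.ε • v - c • e := by
    rw [mul_smul, D.fixf, D.hyp.eich_smul_f hok D.vf]
  have hN : ∀ k x, x ∈ P.perp {e, f} → ∀ a : F, ∃ b : F,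
      (nil (P.eich e v c * u) ^ k) (x + a • e) = (nil u ^ k) x + b • e := by
    intro k x hx a
    induction k with
    | zero => exact ⟨a, rfl⟩
    | succ k ih =>
      obtain ⟨b, hb⟩ := ih
      refine ⟨-(π.ε * P.B (u • (nil u ^ k) x) v), ?_⟩
      rw [pow_succ', Module.End.mul_apply, hb, nil_apply, smul_add, act_smul, D.smul_e hok,
        D.smul_eq hok (D.nil_mem k hx), pow_succ', Module.End.mul_apply, nil_apply]
      abel
  obtain ⟨k, hk⟩ := D.nilp
  have hnil : nil (P.eich e v c * u) ^ (k + 2) = 0 := LinearMap.ext fun x => by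
    obtain ⟨y, hy, a, h1⟩ : ∃ y ∈ P.perp {e, f}, ∃ a : F,
        nil (P.eich e v c * u) x = y + a • e := by
      have hw := D.hyp.hproj_mem x
      refine ⟨u • P.hproj e f x - P.hproj e f x + P.B x e • v,
        add_mem (sub_mem (D.act_mem hw) hw) (Submodule.smul_mem _ _ D.vp),
        -(π.ε * P.B (u • P.hproj e f x) v) - π.ε * P.B x e * c, ?_⟩
      conv_lhs => rw [P.hyp_decomp e f x, nil_apply, smul_add, smul_add, act_smul, act_smul, hf,
        D.smul_e hok, D.smul_eq hok hw]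
      have := π.eps_sq
      generalize u • P.hproj e f x = y
      match_scalars
      · ring
      · ring
      · ring
      · linear_combination (P.B x e) * this
      · ring
    obtain ⟨b, hb⟩ := hN k y hy a
    rw [pow_succ, pow_succ', Module.End.mul_apply, Module.End.mul_apply, h1, hb, hk, nil_apply]
    simp [act_smul, D.smul_e hok]
  refine ⟨mul_mem (eich_mem_EG _ _ _) D.mem, ⟨_, hnil⟩, fun W hfW hW => ?_⟩
  have h1 : π.ε • v - c • e ∈ W := by
    have := W.sub_mem (hW f hfW) hfW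
    rwa [hf, add_sub_assoc, add_sub_cancel_left] at this
  have h2 : P.perp {e, f} ≤ W ⊔ Submodule.span F {e} := by
    have he : ∀ a : F, a • e ∈ W ⊔ Submodule.span F {e} := fun a =>
      Submodule.mem_sup_right (Submodule.smul_mem _ _ (Submodule.subset_span rfl))
    refine D.cyc _ ?_ fun x hx hx' => ?_
    · have := Submodule.smul_mem _ π.ε (add_mem (Submodule.mem_sup_left h1) (he c))
      rwa [sub_add_cancel, smul_smul, π.eps_sq, one_smul] at this
    · obtain ⟨y, hy, z, hz, rfl⟩ := Submodule.mem_sup.1 hx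
      obtain ⟨a, rfl⟩ := Submodule.mem_span_singleton.1 hz
      have := sub_mem (add_mem (Submodule.mem_sup_left (hW y hy)) (he a))
        (he (-(π.ε * P.B (u • (y + a • e)) v)))
      have e1 := D.smul_eq hok hx'
      rw [smul_add (P.eich e v c * u), act_smul, D.smul_e hok] at e1
      rwa [e1, add_sub_cancel_right] at this
  suffices he : e ∈ W by
    refine eq_top_iff.2 fun x _ => ?_
    rw [P.hyp_decomp e f x]
    refine add_mem (add_mem (W.smul_mem _ he) ?_) (W.smul_mem _ hfW)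
    refine (sup_le le_rfl ?_ : W ⊔ Submodule.span F {e} ≤ W) (h2 (D.hyp.hproj_mem x))
    rwa [Submodule.span_singleton_le_iff_mem]
  by_cases hv : v = 0
  · have hc0 := h0.resolve_left (not_not.2 hv)
    have := W.smul_mem (-c⁻¹) h1
    rwa [hv, smul_zero, zero_sub, smul_neg, smul_smul, neg_mul, inv_mul_cancel₀ hc0, neg_smul,
      neg_neg, one_smul] at this
  by_contra he
  obtain ⟨φ, h3, h4⟩ := W.exists_le_ker_of_notMem he
  obtain ⟨m, hm1, hm2⟩ := D.exists_fix hP hv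
  have hx := D.nil_mem m D.vp
  obtain ⟨y, hy, z, hz, hyz⟩ := Submodule.mem_sup.1 (h2 hx)
  obtain ⟨a, rfl⟩ := Submodule.mem_span_singleton.1 hz
  have h5 : φ ((P.eich e v c * u) • (nil u ^ m) v) = φ ((nil u ^ m) v) := by
    rw [← hyz, smul_add, act_smul, D.smul_e hok, map_add, map_add, h4 (hW y hy), h4 hy]
  rw [D.smul_eq hok hx, hm1, map_add, map_smul, add_eq_left, smul_eq_mul] at h5
  exact mul_ne_zero (neg_ne_zero.2 (mul_ne_zero π.eps_ne_zero hm2)) h3 h5

theorem act_vecs_u {w : V} {c : F} (hc : P.EOk e w c) (h1 : P.eich e w c * u ∈ H) {x : V}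
    (hx : x ∈ P.perp {e, f}) (h : x ∈ P.vecs H D.hyp.left) : u • x ∈ P.vecs H D.hyp.left :=
  vecs_of_act _ h1 (D.smul_e hc) h (D.smul_eq hc hx)

theorem inv_smul_eq {w : V} {c : F} (hc : P.EOk e w c) {x : V} (hx : x ∈ P.perp {e, f}) :
    (P.eich e w c * u)⁻¹ • x = u⁻¹ • x + (π.ε * P.B x w) • e := by
  rw [inv_smul_eq_iff, smul_add, act_smul, D.smul_e hc, D.smul_eq hc (D.inv_act_mem hx), smul_inv_smul]
  module

theorem inv_vecs_u {w : V} {c : F} (hc : P.EOk e w c) (h1 : P.eich e w c * u ∈ H) {x : V}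
    (hx : x ∈ P.perp {e, f}) (h : x ∈ P.vecs H D.hyp.left) : u⁻¹ • x ∈ P.vecs H D.hyp.left :=
  vecs_of_act _ (H.inv_mem h1) (inv_smul_eq_iff.2 (D.smul_e hc).symm) h (D.inv_smul_eq hc hx)

theorem pow_vecs_u {w : V} {c : F} (hc : P.EOk e w c) (h1 : P.eich e w c * u ∈ H) (k : ℕ) {x : V}
    (hx : x ∈ P.perp {e, f}) (h : x ∈ P.vecs H D.hyp.left) : u ^ k • x ∈ P.vecs H D.hyp.left := by
  induction k with
  | zero => simpa using h
  | succ k ih => rw [pow_succ', mul_smul]; exact D.act_vecs_u hc h1 (D.pow_act_mem k hx) ih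

theorem nil_vecs_u {w : V} {c : F} (hc : P.EOk e w c) (h1 : P.eich e w c * u ∈ H) (k : ℕ) {x : V}
    (hx : x ∈ P.perp {e, f}) (h : x ∈ P.vecs H D.hyp.left) :
    (nil u ^ k) x ∈ P.vecs H D.hyp.left := by
  induction k with
  | zero => simpa using h
  | succ k ih =>
    rw [pow_succ', Module.End.mul_apply]
    exact sub_mem (D.act_vecs_u hc h1 (D.nil_mem k hx) ih) ih

theorem perp_le_vecs {w : V} {c : F} (hc : P.EOk e w c) (h1 : P.eich e w c * u ∈ H)
    (h : ∀ σ : F, σ • v ∈ P.vecs H D.hyp.left) : ∀ x ∈ P.perp {e, f}, x ∈ P.vecs H D.hyp.left := by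
  let W : Submodule F V :=
    { carrier := {x | ∀ σ : F, σ • x ∈ P.vecs H D.hyp.left}
      add_mem' := fun {a b} ha hb σ => by rw [smul_add]; exact add_mem (ha σ) (hb σ)
      zero_mem' := fun σ => by simp
      smul_mem' := fun c a ha σ => by rw [smul_smul]; exact ha _ }
  intro x hx
  simpa using D.cyc W h (fun y hy hy' σ => by
    rw [← act_smul]; exact D.act_vecs_u hc h1 (Submodule.smul_mem _ _ hy') (hy σ)) hx 1

theorem ok0 (hv : P.Sing v) (s : F) : P.EOk e (s • v) 0 :=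
  ⟨D.hyp.left, by simp [D.ve], hv.smul s⟩

theorem ok1 (hv : P.Sing v) : P.EOk e v 0 := ⟨D.hyp.left, D.ve, hv⟩

theorem okf (hv : P.Sing v) (s : F) : P.EOk f (s • v) 0 :=
  ⟨D.hyp.right, by simp [D.vf], hv.smul s⟩

theorem g_smul_e (hv : P.Sing v) (t : F) : P.eich f (t • v) 0 • e = e + t • v := by
  rw [(D.okf hv t).eich_smul, D.hyp.pair, B_smul_right, B_swap_zero D.ve]
  simp

theorem zconj (hv : P.Sing v) {t : F} (h1 : P.eich e v 0 * u ∈ H) (h2 : P.eich f (t • v) 0 * u ∈ H)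
    {w : V} {c : F} (hc : P.EOk e w c) (hw : w ∈ P.perp {e, f}) (hwv : P.B w v = 0)
    (hm : P.eich e w c ∈ H) : ∃ L ∈ H, L • e = e ∧ ∀ x ∈ P.perp {e, f},
      L • x = x + ((τ t * P.B x v) • w - (π.ε * (P.B x w + c * (τ t * P.B x v)) * t) • v) +
        (-(π.ε * (P.B x w + c * (τ t * P.B x v)))) • e := by
  have hz := H.mul_mem h2 (H.inv_mem h1)
  rw [mul_inv_rev, mul_assoc, mul_inv_cancel_left] at hz
  have h3 : (P.eich f (t • v) 0 * (P.eich e v 0)⁻¹) • e = e + t • v := by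
    rw [mul_smul, inv_smul_eq_iff.2 (D.ok1 hv).eich_smul_e.symm, D.g_smul_e hv]
  rw [mem_perp_pair] at hw
  have h4 : (P.eich f (t • v) 0 * (P.eich e v 0)⁻¹) • w = w := by
    rw [mul_smul, inv_smul_eq_iff.2 ((D.ok1 hv).eich_smul_of_perp₂ hw.1 hwv).symm,
      (D.okf hv t).eich_smul_of_perp₂ hw.2 (by simp [hwv])]
  have h5 := hc.act (P.eich f (t • v) 0 * (P.eich e v 0)⁻¹)
  have h6 := H.mul_mem (H.mul_mem hz hm) (H.inv_mem hz)
  rw [hc.conj_eich, h3, h4] at h6
  rw [h3, h4] at h5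
  refine ⟨_, h6, h5.eich_smul_of_perp₂ ?_ (B_swap_zero hw.1), fun x hx => ?_⟩
  · simp [D.hyp.left.B_self, B_swap_zero D.ve]
  · rw [h5.eich_smul, map_add, B_smul_right, (mem_perp_pair.1 hx).1, zero_add]
    module

theorem finish (hP : P.ND) (hv : P.Sing v) (hv0 : v ≠ 0) {t : F} (ht : t ≠ 0)
    (h1 : P.eich e v 0 * u ∈ H) (h2 : P.eich f (t • v) 0 * u ∈ H) (hU : P.U e ≤ H) :
    P.EG ≤ H := by
  have hu : u ∈ H := by simpa using H.mul_mem (H.inv_mem (hU (eich_mem_U e v 0))) h1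
  have hg : P.eich f (t • v) 0 ∈ H := by simpa using H.mul_mem h2 (H.inv_mem hu)
  obtain ⟨k, hk⟩ := D.exists_ne hP hv0
  have hx := mem_perp_pair.1 (D.pow_act_mem k D.vp)
  have hk' := B_swap_ne hk
  have hok : P.EOk e (τ (π.ε * (t * P.B v (u ^ k • v))⁻¹) • u ^ k • v) 0 :=
    ⟨D.hyp.left, by simp [hx.1], (hv.act _).smul _⟩
  have h3 := U_le_of_smul (U_le_of_smul hU hg) (hU (eich_mem_U e
    (τ (π.ε * (t * P.B v (u ^ k • v))⁻¹) • u ^ k • v) 0))
  rw [D.g_smul_e hv, hok.eich_smul_of_perp (by simp [D.hyp.left.B_self, D.ve]), B_smul_right,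
    π.tau_tau, map_add, LinearMap.add_apply, B_swap_zero hx.1, zero_add, B_smul_left,
    mul_assoc, inv_mul_cancel₀ (mul_ne_zero ht hk'), mul_one, π.eps_sq, one_smul,
    add_sub_cancel_left, U_smul ht] at h3
  exact EG_le_of_ne hP (hv.act _) hv hk (U_le_of_smul h3 (H.pow_mem hu k)) h3

theorem comm_of_fix {x : V} (hs : P.Sing x) (hx : u • x = x) {c : F} (hc : c ∈ π.Λ) :
    P.eich x 0 c ∈ P.EG ⊓ Subgroup.centralizer {u} := by
  refine ⟨eich_mem_EG _ _ _, Subgroup.mem_centralizer_singleton_iff.2 ?_⟩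
  have := (EOk.lam hs hc).conj_eich u
  rw [hx, smul_zero, mul_inv_eq_iff_eq_mul] at this
  exact this.symm

omit D in
theorem conj_eq {g : P.Iso} (hg : g ∈ P.EG ⊓ Subgroup.centralizer {u}) {w : V} {c : F}
    (hc : P.EOk e w c) : g * (P.eich e w c * u) * g⁻¹ = P.eich (g • e) (g • w) c * u := by
  rw [← hc.conj_eich, mul_assoc, mul_assoc, mul_assoc, mul_assoc]
  congr 2
  rw [eq_inv_mul_iff_mul_eq, ← mul_assoc, Subgroup.mem_centralizer_singleton_iff.1 hg.2,
    mul_inv_cancel_right]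

theorem exists_swap (hv : P.Sing v) {c : F} (hc : c ∈ π.Λ) (hc0 : c ≠ 0) : ∃ g ∈ P.EG,
    g * (P.eich e v 0 * u) * g⁻¹ = P.eich f (τ (-c)⁻¹ • v) 0 * u := by
  have hc' := π.Λ.neg_mem (lam_eps (lam_inv hc))
  have hg := inv_mem (mul_mem (D.comm_of_fix D.hyp.right D.fixf hc')
    (D.comm_of_fix D.hyp.left D.fixe hc))
  refine ⟨_, hg.1, ?_⟩
  have h1 : (P.eich f 0 (-(π.ε * c⁻¹)) * P.eich e 0 c)⁻¹ • e = (-c)⁻¹ • f := by
    rw [inv_smul_eq_iff, act_smul, D.hyp.transvec_swap hc hc0, smul_smul,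
      inv_mul_cancel₀ (neg_ne_zero.2 hc0), one_smul]
  have h2 : (P.eich f 0 (-(π.ε * c⁻¹)) * P.eich e 0 c)⁻¹ • v = v := by
    rw [inv_smul_eq_iff, mul_smul, (EOk.lam D.hyp.left hc).eich_smul_of_perp₂ D.ve (by simp),
      (EOk.lam D.hyp.right hc').eich_smul_of_perp₂ D.vf (by simp)]
  rw [conj_eq hg (D.ok1 hv), h1, h2, EOk.eich_smul_left _ ⟨D.hyp.right, D.vf, hv⟩, mul_zero]

theorem exists_torus {c c' : F} (hc : c ∈ π.Λ) (hc0 : c ≠ 0) (hc' : c' ∈ π.Λ) (hc0' : c' ≠ 0) :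
    ∃ g ∈ P.EG, ∀ w ∈ P.perp {e, f}, P.Sing w →
      g * (P.eich e w 0 * u) * g⁻¹ = P.eich e (τ (c / c') • w) 0 * u := by
  obtain ⟨g, hg, h1, h2⟩ := D.hyp.exists_torus (fun c hc => D.comm_of_fix D.hyp.left D.fixe hc)
    (fun c hc => D.comm_of_fix D.hyp.right D.fixf hc) hc hc0 hc' hc0'
  refine ⟨g, hg.1, fun w hw hs => ?_⟩
  have hok : P.EOk e w 0 := ⟨D.hyp.left, (mem_perp_pair.1 hw).1, hs⟩
  rw [conj_eq hg hok, h1, h2 w hw, hok.eich_smul_left, mul_zero]

theorem conj_U {x w : V} {c d : F} (hx : P.EOk e x c) (hw : P.EOk e w d) :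
    P.eich e x c * (P.eich e w d * u) * (P.eich e x c)⁻¹ =
      P.eich e (x + w + -(u • x)) (c + d + P.B w x + π.ε * τ c + P.B (-(u • x)) (x + w)) * u ∧
    P.EOk e (x + w + -(u • x)) (c + d + P.B w x + π.ε * τ c + P.B (-(u • x)) (x + w)) := by
  have h1 := hx.act u
  have h2 := hx.conj_eich u
  rw [D.fixe] at h1 h2
  refine ⟨?_, (hx.add hw).add h1.neg⟩
  rw [← (hx.add hw).eich_mul h1.neg, ← h1.eich_inv, ← h2, ← hx.eich_mul hw]
  group

omit D in
theorem div_mem {w w' : V} {c c' : F} (hw : P.EOk e w c) (hw' : P.EOk e w' c')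
    (h1 : P.eich e w c * u ∈ H) (h2 : P.eich e w' c' * u ∈ H) :
    P.EOk e (w' + -w) (c' + π.ε * τ c + P.B (-w) w') ∧
      P.eich e (w' + -w) (c' + π.ε * τ c + P.B (-w) w') ∈ H := by
  refine ⟨hw'.add hw.neg, ?_⟩
  rw [← hw'.eich_mul hw.neg, ← hw.eich_inv]
  convert H.mul_mem h2 (H.inv_mem h1) using 1
  group

theorem exists_L (hP : P.ND) (hv : P.Sing v) (hv0 : v ≠ 0) (hb : P.B (u • v) v = 0) {t : F}
    (ht : t ≠ 0) (θ : F) (hθ : θ ≠ 0) : ∃ s : F, s ≠ 0 ∧ ∀ H : Subgroup P.Iso,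
      P.eich e v 0 * u ∈ H → P.eich f (t • v) 0 * u ∈ H →
      s • (u • v - v) ∈ P.vecs H D.hyp.left →
      ∃ L ∈ H, L • e = e ∧ ∃ a : F, L • (v - u⁻¹ • v) = v - u⁻¹ • v + θ • v + a • e := by
  classical
  have h0 := D.exists_ne hP hv0
  obtain ⟨k, hk⟩ : ∃ k, Nat.find h0 = k + 2 := by
    refine ⟨Nat.find h0 - 2, ?_⟩
    have := Nat.find_spec h0
    rcases hk : Nat.find h0 with _ | _ | k
    · rw [hk] at this; simp [hv.B_self] at this
    · rw [hk] at this; simp [hb] at this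
    · rfl
  have b2 := B_swap_ne (hk ▸ Nat.find_spec h0)
  have b1 : P.B (u ^ (k + 1) • v) v = 0 := not_not.1 (Nat.find_min h0 (by omega))
  have b0 : P.B (u ^ k • v) v = 0 := not_not.1 (Nat.find_min h0 (by omega))
  refine ⟨τ (θ / (π.ε * P.B v (u ^ (k + 2) • v) * t)), (map_ne_zero τ).2
    (div_ne_zero hθ (mul_ne_zero (mul_ne_zero π.eps_ne_zero b2) ht)), fun H h1 h2 hs => ?_⟩
  have hp := Submodule.smul_mem _ (τ (θ / (π.ε * P.B v (u ^ (k + 2) • v) * t)))
    (sub_mem (D.act_mem D.vp) D.vp)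
  obtain ⟨c, hc, hm⟩ := D.pow_vecs_u (D.ok1 hv) h1 k hp hs
  obtain ⟨L, hL, hLe, h3⟩ := D.zconj hv h1 h2 hc (D.pow_act_mem k hp) (by
    rw [act_smul, smul_sub, ← mul_smul, ← pow_succ, B_smul_left, map_sub, LinearMap.sub_apply,
      b1, b0, sub_self, mul_zero]) hm
  have h4 : P.B (v - u⁻¹ • v) v = 0 := by
    rw [map_sub, LinearMap.sub_apply, hv.B_self, B_act_left, inv_inv, B_swap_zero hb, sub_self]
  refine ⟨L, hL, hLe, ?_⟩
  rw [h3 _ (sub_mem D.vp (D.inv_act_mem D.vp))]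
  refine ⟨_, congrArg₂ _ (congrArg _ ?_) rfl⟩
  rw [h4, act_smul, smul_sub, ← mul_smul (u ^ k), ← pow_succ, B_smul_right, π.tau_tau]
  simp only [map_sub, LinearMap.sub_apply, B_act_left u⁻¹, inv_inv, ← mul_smul u, ← pow_succ',
    B_swap_zero b1, B_swap_zero b0, mul_zero, zero_smul, add_zero]
  have := π.eps_ne_zero
  match_scalars
  field_simp; ring

theorem coreII (hv : P.Sing v) {θ s : F} (hθ : AddGen θ) (hθ0 : θ ≠ 0) (hs0 : s ≠ 0)
    (h1 : P.eich e v 0 * u ∈ H) (hs : s • (u • v - v) ∈ P.vecs H D.hyp.left) {L : P.Iso}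
    (hL : L ∈ H) (hLe : L • e = e) {a : F}
    (h : L • (v - u⁻¹ • v) = v - u⁻¹ • v + θ • v + a • e) :
    ∀ x ∈ P.perp {e, f}, x ∈ P.vecs H D.hyp.left := by
  refine D.perp_le_vecs (D.ok1 hv) h1 (coreL D.hyp.left hL hLe h (fun σ hσ => ?_) hθ hθ0 hs0 ?_)
  · rw [smul_sub, ← act_smul]
    exact sub_mem hσ (D.inv_vecs_u (D.ok1 hv) h1 (Submodule.smul_mem _ _ D.vp) hσ)
  · have := D.inv_vecs_u (D.ok1 hv) h1
      (Submodule.smul_mem _ _ (sub_mem (D.act_mem D.vp) D.vp)) hs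
    rwa [act_smul, smul_sub, inv_smul_smul] at this

end RD

theorem Cyc.ne_zero {u : P.Iso} {f : V} (h : Cyc P u f) [Nontrivial V] : f ≠ 0 := fun h0 =>
  bot_ne_top (h.cyc ⊥ (by simp [h0]) fun x hx => by rw [(Submodule.mem_bot F).1 hx]; simp)

theorem cyc_one {f : V} (h : ∀ x, ∃ a : F, x = a • f) : Cyc P 1 f :=
  ⟨one_mem _, ⟨1, LinearMap.ext fun x => by simp [nil_apply]⟩, fun W hf _ =>
    eq_top_iff.2 fun x _ => by obtain ⟨a, rfl⟩ := h x; exact W.smul_mem _ hf⟩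

theorem exists_top [FiniteDimensional F V] (hP : P.ND) {e f : V} (h : P.Hyp e f)
    {e' f' v' : P.perp {e, f}} {u' : (P.res (P.perp {e, f})).Iso} (D : RD _ e' f' v' u') {c : F}
    (hc : P.QEq v' c) (h0 : v' ≠ 0 ∨ c ≠ 0) : ∃ u, RD P e f f' u ∧ P.Sing f' ∧ (f' : V) ≠ 0 ∧
      P.B (u • (f' : V)) f' = -c ∧ (v' = 0 → u • (u • (f' : V) - f') = u • (f' : V) - f') := by
  have hok : (P.res (P.perp {e, f})).EOk e' v' c := ⟨D.hyp.left, D.ve, hc⟩
  have h1 : h.emb.ext ((P.res _).eich e' v' c * u') • (f' : V) =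
      ((f' + π.ε • v' - c • e' : P.perp {e, f}) : V) := by
    rw [← h.emb_i, Emb.ext_smul_i, mul_smul, D.fixf, D.hyp.eich_smul_f hok D.vf, h.emb_i]
  refine ⟨_, RD.of_cyc h (D.cyc_step (h.emb.nd hP) hc h0), D.hyp.right,
    fun e => D.hyp.right_ne_zero (Subtype.ext e), ?_, fun hv => ?_⟩
  · rw [h1]
    change (P.res _).B (f' + π.ε • v' - c • e') f' = _
    simp [D.hyp.right.B_self, D.vf, D.hyp.pair]
  · rw [h1, ← Submodule.coe_sub, hv, ← h.emb_i, Emb.ext_smul_i, smul_zero, add_zero,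
      sub_sub_cancel_left, smul_neg, act_smul, D.smul_e (hv ▸ hok)]

variable (P) in
/-- Generation by three conjugate regular unipotent elements. -/
def Gen3 : Prop := ∃ u f, Cyc P u f ∧ ∃ g ∈ P.EG, ∃ h ∈ P.EG, ∀ H : Subgroup P.Iso,
  u ∈ H → g * u * g⁻¹ ∈ H → h * u * h⁻¹ ∈ H → P.EG ≤ H

theorem closure_eq_top {G : Type*} [Group G] (φ : G ≃* P.EG) {S : Set G}
    (h : ∀ H : Subgroup P.Iso, (∀ x ∈ S, (φ x : P.Iso) ∈ H) → P.EG ≤ H) :
    Subgroup.closure S = ⊤ := by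
  refine eq_top_iff.2 fun x _ => ?_
  obtain ⟨y, hy, e⟩ := h ((Subgroup.closure S).map (P.EG.subtype.comp φ.toMonoidHom))
    (fun x hx => ⟨x, Subgroup.subset_closure hx, rfl⟩) (φ x).2
  rwa [← φ.injective (Subtype.ext e)]

theorem Cyc.matrix {ι : Type} [Fintype ι] [DecidableEq ι] [Nonempty ι] {P : PQ π (ι → F)}
    {u : P.Iso} {f : ι → F} (h : Cyc P u f) {M : Matrix ι ι F} (hM : ∀ x, u • x = M.mulVec x) :
    IsNilpotent (M - 1) ∧ (M - 1) ^ (Fintype.card ι - 1) ≠ 0 := by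
  have h1 : Matrix.toLinAlgEquiv' (M - 1) = nil u := LinearMap.ext fun x => by
    rw [nil_apply, hM, Matrix.toLinAlgEquiv'_apply, Matrix.sub_mulVec, Matrix.one_mulVec]
  obtain ⟨k, hk⟩ := h.nilp
  refine ⟨⟨k, Matrix.toLinAlgEquiv'.injective (by rw [map_pow, h1, hk, map_zero])⟩, fun h0 => ?_⟩
  refine h.pow_ne_zero (by simp [Fintype.card_pos]) ?_
  rw [← h1, ← map_pow, finrank_fintype_fun_eq_card, h0, map_zero]

theorem Gen3.out {ι : Type} [Fintype ι] [DecidableEq ι] [Nonempty ι] {P : PQ π (ι → F)}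
    (h : Gen3 P) {G : Type*} [Group G] (φ : G ≃* P.EG) (M : G → Matrix ι ι F)
    (hM : ∀ g x, (φ g : P.Iso) • x = (M g).mulVec x) : ∃ u g h : G,
      (IsNilpotent (M u - 1) ∧ (M u - 1) ^ (Fintype.card ι - 1) ≠ 0) ∧
      Subgroup.closure ({u, g * u * g⁻¹, h * u * h⁻¹} : Set G) = ⊤ := by
  obtain ⟨u, f, hu, g, hg, k, hk, h⟩ := h
  refine ⟨φ.symm ⟨u, hu.mem⟩, φ.symm ⟨g, hg⟩, φ.symm ⟨k, hk⟩,
    hu.matrix fun x => by rw [← hM, φ.apply_symm_apply], closure_eq_top φ fun H hH => h H ?_ ?_ ?_⟩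
  · simpa using hH _ (Set.mem_insert _ _)
  · simpa using hH _ (Set.mem_insert_of_mem _ (Set.mem_insert _ _))
  · simpa using hH _ (Set.mem_insert_of_mem _ (Set.mem_insert_of_mem _ rfl))

end Cfsg.Agent.Forms.RegCl
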