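import Cfsg.Agent.Forms.RegCl

/-! Generation of `SU₃(q)` by two conjugate regular unipotent elements. -/

set_option autoImplicit false

open Module

namespace Cfsg.Agent.Forms.RegCl

open Cfsg.Agent.Polar Cfsg.Agent.Polar.PQ Cfsg.Agent.GLn

variable {F : Type*} [Field F] [Fintype F] {q : ℕ} {hF : Fintype.card F = q ^ 2}
variable {V : Type*} [AddCommGroup V] [Module F V] {P : PQ (uFP hF) V}

local notation "σ" => frobq hF

theorem u_lam_min (hF : Fintype.card F = q ^ 2) :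
    ∀ c ∈ (uFP hF).Λ, ∃ a, c = a - (uFP hF).ε * frobq hF a := fun c hc => by
  obtain ⟨θ, hθ⟩ := exists_trace_one hF
  rw [mem_uFP_lam] at hc
  exact ⟨θ * c, by rw [map_mul, uFP_eps]; linear_combination (-c) * hθ + frobq hF θ * hc⟩

theorem exists_norm_one (hF : Fintype.card F = q ^ 2) {ω : F} (hω0 : ω ≠ 0)
    (hω : ∀ t : F, t ≠ 0 → ∃ k : ℕ, t = ω ^ k) {k : ℕ} (h : (ω ^ (q - 1)) ^ k = 1) : q + 1 ∣ k := by
  have h1 : Fintype.card F - 1 ∣ (q - 1) * k := by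
    rw [← FiniteField.forall_pow_eq_one_iff]
    intro x
    obtain ⟨j, hj⟩ := hω x x.ne_zero
    ext
    rw [Units.val_pow_eq_pow_val, hj, ← pow_mul, mul_comm j, pow_mul, pow_mul, h, one_pow,
      Units.val_one]
  have h2 := two_le_q hF
  rw [hF, show q ^ 2 - 1 = (q - 1) * (q + 1) by
    obtain ⟨r, rfl⟩ : ∃ r, q = r + 1 := ⟨q - 1, by omega⟩
    rw [Nat.add_sub_cancel, Nat.sub_eq_iff_eq_add (Nat.one_le_pow _ _ (by omega))]; ring] at h1
  exact Nat.dvd_of_mul_dvd_mul_left (by omega) h1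

variable (P) in
/-- A frame of a three-dimensional unitary space. -/
structure Fr3 (e v f : V) : Prop where
  hyp : P.Hyp e f
  ve : P.B v e = 0
  vf : P.B v f = 0
  vv : P.B v v = 1
  span : ∀ x ∈ P.perp {e, f}, ∃ a : F, x = a • v

theorem exists_fr3 [FiniteDimensional F V] (hP : P.ND) (h3 : finrank F V = 3) :
    ∃ e v f, Fr3 P e v f := by
  obtain ⟨e, he0, he⟩ := u_exists_sing P (by omega)
  obtain ⟨f, hf⟩ := hP.exists_hyp he he0
  have h1 := hf.finrank_perp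
  have : Nontrivial (P.perp {e, f}) := Module.nontrivial_of_finrank_pos (R := F) (by omega)
  obtain ⟨θ, hθ⟩ := exists_trace_one hF
  obtain ⟨v, hv⟩ := u_exists_QEq (hf.emb.nd hP) θ
  have h2 : P.B v v = 1 := (u_QEq_iff.1 hv).symm.trans hθ
  have hv0 : v ≠ 0 := fun h => by simp [h] at h2
  refine ⟨e, v, f, hf, (mem_perp_pair.1 v.2).1, (mem_perp_pair.1 v.2).2, h2, fun x hx => ?_⟩
  obtain ⟨a, ha⟩ := (finrank_eq_one_iff_of_nonzero' (K := F) v hv0).1 (by omega) ⟨x, hx⟩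
  exact ⟨a, (congrArg Subtype.val ha).symm⟩

namespace Fr3

variable {e v f : V} (T : Fr3 P e v f)
include T

theorem oke {a c : F} (h : c + σ c = a * σ a) : P.EOk e (a • v) c :=
  ⟨T.hyp.left, by simp [T.ve], u_QEq_iff.2 (by simp [T.vv, h, mul_comm])⟩

theorem okf {a c : F} (h : c + σ c = a * σ a) : P.EOk f (a • v) c :=
  ⟨T.hyp.right, by simp [T.vf], u_QEq_iff.2 (by simp [T.vv, h, mul_comm])⟩

theorem acte {a c : F} (h : c + σ c = a * σ a) (X Y W : F) :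
    P.eich e (a • v) c • (X • e + Y • v + W • f) =
      (X - Y * σ a - c * W) • e + (Y + a * W) • v + W • f := by
  rw [(T.oke h).eich_smul]
  simp only [map_add, map_smul, LinearMap.add_apply, LinearMap.smul_apply, B_smul_right,
    T.hyp.left.B_self, T.ve, T.hyp.pair', B_swap_zero T.ve, B_swap_zero T.vf, T.vv, uFP_eps,
    smul_eq_mul]
  module

theorem actf {a c : F} (h : c + σ c = a * σ a) (X Y W : F) :
    P.eich f (a • v) c • (X • e + Y • v + W • f) =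
      X • e + (Y + a * X) • v + (W - Y * σ a - c * X) • f := by
  rw [(T.okf h).eich_smul]
  simp only [map_add, map_smul, LinearMap.add_apply, LinearMap.smul_apply, B_smul_right,
    T.hyp.right.B_self, T.vf, T.hyp.pair, B_swap_zero T.ve, B_swap_zero T.vf, T.vv, uFP_eps,
    smul_eq_mul]
  module

theorem eq_e (g : P.Iso) : g • e = g • ((1 : F) • e + (0 : F) • v + (0 : F) • f) := by simp

theorem eq_v (g : P.Iso) : g • v = g • ((0 : F) • e + (1 : F) • v + (0 : F) • f) := by simp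

theorem rd : RD P e f ((1 : F) • v) 1 where
  hyp := T.hyp
  mem := one_mem _
  fixe := one_smul _ _
  fixf := one_smul _ _
  vp := mem_perp_pair.2 ⟨by simp [T.ve], by simp [T.vf]⟩
  nilp := ⟨1, LinearMap.ext fun x => by simp [nil_apply]⟩
  cyc := fun W hW _ x hx => by
    obtain ⟨a, rfl⟩ := T.span x hx
    exact W.smul_mem _ (by simpa using hW)

theorem ne_zero : (1 : F) • v ≠ 0 := fun h => by
  have := T.vv
  rw [one_smul] at h
  simp [h] at this

theorem exists_conj {c₁ c₂ t : F} (h₁ : c₁ + σ c₁ = 1 * σ 1) (h₂ : c₂ + σ c₂ = 1 * σ 1)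
    (ht : σ t = t) (ht0 : t ≠ 0) : ∃ g ∈ P.EG,
      g * P.eich e ((1 : F) • v) c₁ * g⁻¹ = P.eich f (t • v) (t * t * c₂) := by
  obtain ⟨a, ha⟩ := u_lam_min hF (c₁ - c₂) (by rw [mem_uFP_lam, map_sub]; linear_combination h₁ - h₂)
  obtain ⟨θ, hθ⟩ := exists_trace_one hF
  have h1 : θ * (a * σ a) + σ (θ * (a * σ a)) = a * σ a := by
    rw [map_mul, map_mul, frobq_frobq]; linear_combination (a * σ a) * hθ
  obtain ⟨b, hb⟩ := exists_norm_eq hF (2 / t) (by rw [map_div₀, ht, map_ofNat])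
  have h2 : t⁻¹ + σ t⁻¹ = b * σ b := by rw [map_inv₀, ht, hb]; ring
  have h3 : t + σ t = (t * b) * σ (t * b) := by
    rw [map_mul, ht]; field_simp at hb; linear_combination (-t) * hb
  refine ⟨P.eich e (b • v) t⁻¹ * P.eich f ((t * b) • v) t * P.eich e (b • v) t⁻¹ *
    P.eich e (a • v) (θ * (a * σ a)), mul_mem (mul_mem (mul_mem (eich_mem_EG _ _ _)
    (eich_mem_EG _ _ _)) (eich_mem_EG _ _ _)) (eich_mem_EG _ _ _), ?_⟩
  have h4 : P.eich e (a • v) (θ * (a * σ a)) * P.eich e ((1 : F) • v) c₁ *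
      (P.eich e (a • v) (θ * (a * σ a)))⁻¹ = P.eich e ((1 : F) • v) c₂ := by
    rw [mul_inv_eq_iff_eq_mul, (T.oke h1).eich_mul (T.oke h₁), (T.oke h₂).eich_mul (T.oke h1),
      add_comm]
    congr 1
    simp only [B_smul_left, B_smul_right, T.vv, map_one]
    rw [uFP_eps] at ha
    linear_combination ha
  rw [mul_inv_rev, mul_assoc _ (P.eich e (a • v) _), mul_assoc, ← mul_assoc _ (P.eich e (a • v) _)⁻¹,
    h4, ← mul_assoc, (T.oke h₂).conj_eich]
  field_simp at hb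
  have h5 : (P.eich e (b • v) t⁻¹ * P.eich f ((t * b) • v) t * P.eich e (b • v) t⁻¹) • e =
      (-t) • f := by
    rw [mul_smul, mul_smul, (T.oke h2).eich_smul_e, T.eq_e, T.actf h3, T.acte h2]
    match_scalars
    · field_simp; linear_combination (-t) * hb
    · ring
    · ring
  have h6 : (P.eich e (b • v) t⁻¹ * P.eich f ((t * b) • v) t * P.eich e (b • v) t⁻¹) •
      ((1 : F) • v) = (-1 : F) • v := by
    rw [one_smul, T.eq_v, mul_smul, mul_smul, T.acte h2, T.actf h3, T.acte h2, map_mul, ht]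
    match_scalars
    · linear_combination σ b * hb
    · linear_combination -hb
    · ring
  rw [h5, h6, (T.okf (by simpa using h₂)).eich_smul_left, smul_smul, map_neg, ht]
  simp

theorem EG_le (hP : P.ND) {H : Subgroup P.Iso} {c₁ c₂ t : F} (h₁ : c₁ + σ c₁ = 1 * σ 1)
    (h₂ : c₂ + σ c₂ = t * σ t) (ht : t ≠ 0) (m₁ : P.eich e ((1 : F) • v) c₁ ∈ H)
    (m₂ : P.eich f (t • v) c₂ ∈ H) {h : P.Iso} (hh : h ∈ H) {κ m a : F} (hκ : κ ≠ 0)
    (he : h • e = κ • e) (hv : h • v = a • e + m • v) (hθ : AddGen (σ κ * m)) : P.EG ≤ H := by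
  let S : AddSubgroup F :=
    { carrier := {s | s • v ∈ P.vecs H T.hyp.left}
      zero_mem' := by simp
      add_mem' := fun {a b} ha hb => by
        change _ ∈ P.vecs H T.hyp.left; rw [add_smul]; exact add_mem ha hb
      neg_mem' := fun {a} ha => by
        change _ ∈ P.vecs H T.hyp.left; rw [neg_smul]; exact neg_mem ha }
  have h1 := hθ S (fun s hs => by
    refine vecs_of_add T.hyp.left (a := σ κ * s * a) ?_
    convert act_vecs T.hyp.left hh he hκ hs using 1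
    rw [act_smul, hv]; module) 1 ⟨_, T.oke h₁, m₁⟩ one_ne_zero
  have hU := U_le_of_min T.hyp hP (u_lam_min hF) T.rd.vp T.ne_zero (H := H) fun x hx => by
    obtain ⟨a, rfl⟩ := T.span x hx
    exact (h1 ▸ AddSubgroup.mem_top a : a ∈ S)
  refine EG_le_of_ne hP T.hyp.left (T.hyp.left.act _) ?_ hU (U_le_of_smul hU m₂)
  rw [T.eq_e, T.actf h₂]
  have : c₂ ≠ 0 := fun h => by simp [h, ht] at h₂
  simpa [T.hyp.left.B_self, B_swap_zero T.ve, T.hyp.pair] using this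

theorem inv_e {a c : F} (h : c + σ c = a * σ a) :
    (P.eich e (a • v) c)⁻¹ = P.eich e ((-a) • v) (σ c) := by
  rw [(T.oke h).eich_inv, neg_smul, uFP_eps, one_mul]

theorem inv_f {a c : F} (h : c + σ c = a * σ a) :
    (P.eich f (a • v) c)⁻¹ = P.eich f ((-a) • v) (σ c) := by
  rw [(T.okf h).eich_inv, neg_smul, uFP_eps, one_mul]

omit T in
theorem tr_neg {a c : F} (h : c + σ c = a * σ a) : σ c + σ (σ c) = -a * σ (-a) := by
  rw [frobq_frobq, map_neg]; linear_combination h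

end Fr3

variable (P) in
/-- The data needed for generation by two conjugate elements. -/
def Data3 (e v f : V) : Prop := ∃ c₁ c₂ t : F, c₁ + σ c₁ = 1 * σ 1 ∧ c₂ + σ c₂ = 1 * σ 1 ∧
  σ t = t ∧ t ≠ 0 ∧ ∀ H : Subgroup P.Iso, P.eich e ((1 : F) • v) c₁ ∈ H →
    P.eich f (t • v) (t * t * c₂) ∈ H → ∃ h ∈ H, ∃ κ m a : F, κ ≠ 0 ∧ h • e = κ • e ∧
      h • v = a • e + m • v ∧ AddGen (σ κ * m)

theorem tr_mul {c t : F} (h : c + σ c = 1 * σ 1) (ht : σ t = t) :
    t * t * c + σ (t * t * c) = t * σ t := by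
  rw [map_one] at h
  rw [map_mul, map_mul, ht]; linear_combination (t * t) * h

theorem data3_generic {e v f : V} (T : Fr3 P e v f) (h2 : q ≠ 2) (h5 : q ≠ 5) (h8 : q ≠ 8) :
    Data3 P e v f := by
  obtain ⟨ω, hω0, hω⟩ := exists_generator F
  have hq := two_le_q hF
  obtain ⟨κ, hκ⟩ : ∃ κ, κ = ω ^ (q - 1) := ⟨_, rfl⟩
  have hκ0 : κ ≠ 0 := hκ ▸ pow_ne_zero _ hω0
  have hord : ∀ k, κ ^ k = 1 → q + 1 ∣ k := fun k hk => exists_norm_one hF hω0 hω (hκ ▸ hk)
  have hσ : σ κ = κ⁻¹ := by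
    refine eq_inv_of_mul_eq_one_left ?_
    rw [frobq_apply, ← pow_succ, hκ, ← pow_mul, ← FiniteField.pow_card_sub_one_eq_one ω hω0, hF]
    congr 1
    obtain ⟨r, rfl⟩ : ∃ r, q = r + 1 := ⟨q - 1, by omega⟩
    rw [Nat.add_sub_cancel, eq_comm, Nat.sub_eq_iff_eq_add (Nat.one_le_pow _ _ (by omega))]; ring
  have hκ1 : 1 + κ ≠ 0 := fun h => by
    have := Nat.le_of_dvd two_pos (hord 2 (by linear_combination (κ - 1) * h))
    omega
  have ht : σ (-(1 + κ) ^ 2 / κ) = -(1 + κ) ^ 2 / κ := by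
    simp only [map_div₀, map_neg, map_pow, map_add, map_one, hσ]; field_simp; ring
  have h₁ : (2 + κ + κ ^ 2) * κ / (1 + κ) ^ 3 + σ ((2 + κ + κ ^ 2) * κ / (1 + κ) ^ 3) = 1 * σ 1 := by
    simp only [map_div₀, map_mul, map_pow, map_add, map_one, map_ofNat, hσ]
    rw [show 1 + κ⁻¹ = (1 + κ) / κ by field_simp; ring]
    field_simp; ring
  have h₂ : κ / (1 + κ) + σ (κ / (1 + κ)) = 1 * σ 1 := by
    simp only [map_div₀, map_add, map_one, hσ]
    rw [show 1 + κ⁻¹ = (1 + κ) / κ by field_simp; ring]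
    field_simp; ring
  refine ⟨_, _, _, h₁, h₂, ht, div_ne_zero (neg_ne_zero.2 (pow_ne_zero _ hκ1)) hκ0,
    fun H m₁ m₂ => ⟨_, H.mul_mem (H.mul_mem m₂ (H.inv_mem m₁)) m₂, κ, κ⁻¹ ^ 2,
      1 + σ ((2 + κ + κ ^ 2) * κ / (1 + κ) ^ 3) * (-(1 + κ) ^ 2 / κ), hκ0, ?_, ?_, ?_⟩⟩
  · rw [T.eq_e, mul_smul, mul_smul, T.inv_e h₁, T.actf (tr_mul h₂ ht), T.acte (Fr3.tr_neg h₁),
      T.actf (tr_mul h₂ ht), ht]
    simp only [map_div₀, map_mul, map_pow, map_add, map_one, map_ofNat, map_neg, hσ]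
    rw [show 1 + κ⁻¹ = (1 + κ) / κ by field_simp; ring]
    match_scalars <;> field_simp <;> ring
  · rw [T.eq_v, mul_smul, mul_smul, T.inv_e h₁, T.actf (tr_mul h₂ ht), T.acte (Fr3.tr_neg h₁),
      T.actf (tr_mul h₂ ht), ht]
    simp only [map_div₀, map_mul, map_pow, map_add, map_one, map_ofNat, map_neg, hσ]
    rw [show 1 + κ⁻¹ = (1 + κ) / κ by field_simp; ring]
    match_scalars <;> field_simp <;> ring
  · rw [hσ, ← pow_succ']
    refine addGen_of_pow (pow_ne_zero _ (inv_ne_zero hκ0)) fun r d hr hd h h1 => ?_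
    rw [← pow_mul, inv_pow, inv_eq_one] at h1
    have h3 := hord _ h1
    have h4 := Nat.le_of_dvd (by omega) h3
    rw [hF] at h
    rcases hd.eq_or_lt with rfl | hd
    · obtain rfl := Nat.pow_left_injective two_ne_zero h
      obtain ⟨k, hk⟩ := h3
      have : k < 3 := by by_contra hc; nlinarith [Nat.sub_le r 1]
      interval_cases k <;> omega
    · have h6 : r ^ 3 ≤ q ^ 2 := h ▸ Nat.pow_le_pow_right (by omega) hd
      have h7 : q ^ 2 ≤ (3 * r - 4) ^ 2 := Nat.pow_le_pow_left (by omega) 2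
      have h9 : r < 9 := by
        by_contra hc
        have : (3 * r - 4) ^ 2 < (3 * r) ^ 2 := Nat.pow_lt_pow_left (by omega) two_ne_zero
        nlinarith
      have h10 : r = 4 := by interval_cases r <;> omega
      subst h10
      exact h8 (by nlinarith)

theorem exists_pow_eq_one_ne {n k : ℕ} (h : Fintype.card F = n * k + 1) {j : ℕ} (h0 : 0 < j)
    (hj : j < k) : ∃ x : F, x ^ k = 1 ∧ x ^ j ≠ 1 := by
  have h1 := Fintype.one_lt_card (α := F)
  obtain ⟨c, hc0, hc⟩ := exists_pow_ne_one_of_not_dvd (F := F) (k := n * j) fun hd => by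
    rw [h, Nat.add_sub_cancel] at hd
    have hn : 0 < n := Nat.pos_of_ne_zero fun e => by simp [e] at h; omega
    exact absurd (Nat.le_of_dvd h0 (Nat.dvd_of_mul_dvd_mul_left hn hd)) (by omega)
  refine ⟨c ^ n, ?_, by rwa [← pow_mul]⟩
  rw [← pow_mul, ← FiniteField.pow_card_sub_one_eq_one c hc0, h, Nat.add_sub_cancel]

theorem data3_five {e v f : V} (T : Fr3 P e v f) (h5 : q = 5) : Data3 P e v f := by
  subst h5
  have := charP_of_card Nat.prime_five hF
  have p5 : (5 : F) = 0 := by exact_mod_cast CharP.cast_eq_zero F 5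
  obtain ⟨d, hd⟩ : ∃ d : F, d ^ 2 = 2 := by
    obtain ⟨x, h1, h2⟩ := exists_pow_eq_one_ne (n := 3) (k := 8) hF (j := 4) (by omega) (by omega)
    have : (x ^ 4 - 1) * ((x ^ 2 - 2) * ((2 * x) ^ 2 - 2)) = 0 := by grind
    rcases mul_eq_zero.1 ((mul_eq_zero.1 this).resolve_left (sub_ne_zero.2 h2)) with h | h
    exacts [⟨_, sub_eq_zero.1 h⟩, ⟨_, sub_eq_zero.1 h⟩]
  have hσ : frobq hF d = -d := by rw [frobq_apply]; grind
  have h₁ : 3 + d + frobq hF (3 + d) = 1 * frobq hF 1 := by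
    rw [map_add, map_ofNat, hσ, map_one]; grind
  have h₂ : 3 + 3 * d + frobq hF (3 + 3 * d) = 1 * frobq hF 1 := by
    rw [map_add, map_mul, map_ofNat, hσ, map_one]; grind
  have h₃ := tr_mul h₂ (map_one _)
  have hd0 : d ≠ 0 := by grind
  refine ⟨_, _, 1, h₁, h₂, map_one _, one_ne_zero, fun H m₁ m₂ => ⟨_, H.mul_mem (H.mul_mem
    (H.mul_mem (H.mul_mem (H.mul_mem m₂ m₂) m₁) (H.inv_mem m₂)) m₁) m₂, d, -1, 1 + 4 * d, hd0,
    ?_, ?_, ?_⟩⟩
  · rw [T.eq_e, mul_smul, mul_smul, mul_smul, mul_smul, mul_smul, T.inv_f h₃, T.actf h₃, T.acte h₁,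
      T.actf (Fr3.tr_neg h₃), T.acte h₁, T.actf h₃, T.actf h₃]
    simp only [map_mul, map_add, map_one, map_ofNat, map_neg, hσ]
    match_scalars <;> grind
  · rw [T.eq_v, mul_smul, mul_smul, mul_smul, mul_smul, mul_smul, T.inv_f h₃, T.actf h₃, T.acte h₁,
      T.actf (Fr3.tr_neg h₃), T.acte h₁, T.actf h₃, T.actf h₃]
    simp only [map_mul, map_add, map_one, map_ofNat, map_neg, hσ]
    match_scalars <;> grind
  · rw [hσ, neg_mul_neg, mul_one]
    refine addGen_of_pow hd0 fun r k hr hk h => ?_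
    have h1 : r ^ 2 ≤ 5 ^ 2 := hF ▸ h ▸ Nat.pow_le_pow_right (by omega) hk
    have h2 : r ∣ 5 ^ 2 := hF ▸ h ▸ dvd_pow_self r (by omega)
    have h3 : r ≤ 5 := by nlinarith
    obtain rfl : r = 5 := by interval_cases r <;> omega
    grind

theorem data3_eight {e v f : V} (T : Fr3 P e v f) (h8 : q = 8) : Data3 P e v f := by
  subst h8
  have := charP_of_card (k := 6) Nat.prime_two hF
  have p2 : (2 : F) = 0 := by exact_mod_cast CharP.cast_eq_zero F 2
  obtain ⟨w, hw⟩ : ∃ w : F, w ^ 2 = w + 1 := by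
    obtain ⟨x, h1, h2⟩ := exists_pow_eq_one_ne (n := 21) (k := 3) hF (j := 1) (by omega) (by omega)
    exact ⟨x, by grind⟩
  obtain ⟨a, ha⟩ : ∃ a : F, a ^ 3 = a + 1 := by
    obtain ⟨x, h1, h2⟩ := exists_pow_eq_one_ne (n := 9) (k := 7) hF (j := 1) (by omega) (by omega)
    have : (x ^ 1 - 1) * ((x ^ 3 - (x + 1)) * ((x + 1) ^ 3 - (x + 1 + 1))) = 0 := by grind
    rcases mul_eq_zero.1 ((mul_eq_zero.1 this).resolve_left (sub_ne_zero.2 h2)) with h | h
    exacts [⟨_, sub_eq_zero.1 h⟩, ⟨_, sub_eq_zero.1 h⟩]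
  have hσ : frobq hF w = w + 1 := by rw [frobq_apply]; grind
  have hσ' : frobq hF a = a := by rw [frobq_apply]; grind
  have h₁ : a ^ 2 + 1 + w + frobq hF (a ^ 2 + 1 + w) = 1 * frobq hF 1 := by
    simp only [map_add, map_pow, map_one, hσ, hσ']; grind
  have h₂ : a ^ 2 + a + w + frobq hF (a ^ 2 + a + w) = 1 * frobq hF 1 := by
    simp only [map_add, map_pow, map_one, hσ, hσ']; grind
  have h₃ := tr_mul h₂ hσ'
  refine ⟨_, _, a, h₁, h₂, hσ', by grind, fun H m₁ m₂ => ⟨_, H.mul_mem (H.mul_mem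
    (H.mul_mem (H.mul_mem (H.mul_mem (H.inv_mem m₂) m₁) (H.inv_mem m₂)) m₁) m₁) m₂, 1 + a ^ 2 * w,
    a ^ 2 + a + a * w, a ^ 2 + 1 + (a ^ 2 + 1) * w, by grind, ?_, ?_, ?_⟩⟩
  · rw [T.eq_e, mul_smul, mul_smul, mul_smul, mul_smul, mul_smul, T.inv_f h₃, T.actf h₃, T.acte h₁,
      T.acte h₁, T.actf (Fr3.tr_neg h₃), T.acte h₁, T.actf (Fr3.tr_neg h₃)]
    simp only [map_mul, map_add, map_pow, map_one, map_neg, hσ, hσ']
    match_scalars <;> grind
  · rw [T.eq_v, mul_smul, mul_smul, mul_smul, mul_smul, mul_smul, T.inv_f h₃, T.actf h₃, T.acte h₁,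
      T.acte h₁, T.actf (Fr3.tr_neg h₃), T.acte h₁, T.actf (Fr3.tr_neg h₃)]
    simp only [map_mul, map_add, map_pow, map_one, map_neg, hσ, hσ']
    match_scalars <;> grind
  · have e1 : frobq hF (1 + a ^ 2 * w) * (a ^ 2 + a + a * w) = (a ^ 2 + a + 1) * w := by
      simp only [map_mul, map_add, map_pow, map_one, hσ, hσ']; grind
    rw [e1]
    refine addGen_of_pow (by grind) fun r k hr hk h => ?_
    have h1 : r ^ 2 ≤ 8 ^ 2 := hF ▸ h ▸ Nat.pow_le_pow_right (by omega) hk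
    have h2 : r ∣ 8 ^ 2 := hF ▸ h ▸ dvd_pow_self r (by omega)
    have h3 : r ≤ 8 := by nlinarith
    have : r = 2 ∨ r = 4 ∨ r = 8 := by interval_cases r <;> omega
    rcases this with rfl | rfl | rfl <;> grind

theorem su3_gen2 [FiniteDimensional F V] (hP : P.ND) (h3 : finrank F V = 3) (h2 : q ≠ 2) :
    ∃ u f, Cyc P u f ∧ ∃ g ∈ P.EG, ∀ H : Subgroup P.Iso, u ∈ H → g * u * g⁻¹ ∈ H → P.EG ≤ H := by
  obtain ⟨e, v, f, T⟩ := exists_fr3 hP h3
  obtain ⟨c₁, c₂, t, h₁, h₂, ht, ht0, h⟩ : Data3 P e v f := by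
    by_cases h5 : q = 5
    · exact data3_five T h5
    by_cases h8 : q = 8
    · exact data3_eight T h8
    exact data3_generic T h2 h5 h8
  obtain ⟨g, hg, hg'⟩ := T.exists_conj h₁ h₂ ht ht0
  have := T.rd.cyc_step hP (T.oke h₁).val (Or.inl T.ne_zero)
  rw [mul_one] at this
  refine ⟨_, _, this, g, hg, fun H m₁ m₂ => ?_⟩
  rw [hg'] at m₂
  obtain ⟨k, hk, κ, m, a, h4, h5, h6, h7⟩ := h H m₁ m₂
  exact T.EG_le hP h₁ (tr_mul h₂ ht) ht0 m₁ m₂ hk h4 h5 h6 h7

end Cfsg.Agent.Forms.RegCl
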