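import Cfsg.Agent.Forms.URep

/-!
Families of group elements satisfying the Steinberg relations of type `A`; weight counts and Hecke
operators in rank two.
-/

set_option autoImplicit false

namespace Cfsg.Agent.Forms

open Module Finset Cfsg.Agent.GLn MulAut

/-- Three distinct indices. -/
structure D3 {ι : Type*} (i j l : ι) : Prop where
  a : i ≠ j
  b : j ≠ l
  c : i ≠ l

namespace D3
variable {ι : Type*} {i j l : ι} (h : D3 i j l)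
include h
theorem p213 : D3 j i l := ⟨h.a.symm, h.c, h.b⟩
theorem p132 : D3 i l j := ⟨h.c, h.b.symm, h.a⟩
theorem p231 : D3 j l i := ⟨h.b, h.c.symm, h.a.symm⟩
theorem p312 : D3 l i j := ⟨h.c.symm, h.a, h.b.symm⟩
theorem p321 : D3 l j i := ⟨h.b.symm, h.a.symm, h.c.symm⟩
end D3

theorem d3_fin : D3 (0 : Fin 3) 1 2 := ⟨by decide, by decide, by decide⟩

/-- Steinberg relations of type `A`. -/
structure StA (ι k Γ : Type*) [Field k] [Group Γ] where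
  x : ι → ι → k → Γ
  add : ∀ i j, Ad1 (x i j)
  comm : ∀ {i j l}, D3 i j l → ∀ s t, x i j s * x j l t = x j l t * x i j s * x i l (s * t)
  row : ∀ {i j l}, D3 i j l → ∀ s t, x i j s * x i l t = x i l t * x i j s
  col : ∀ {i j l}, D3 i j l → ∀ s t, x i l s * x j l t = x j l t * x i l s

theorem conj_swap {Γ : Type*} [Group Γ] {g a b : Γ} (h : conj g a = b) : g * a = b * g := by
  rw [← h, conj_apply, inv_mul_cancel_right]

theorem conj_of_swap {Γ : Type*} [Group Γ] {g a b : Γ} (h : g * a = b * g) : conj g a = b := by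
  rw [conj_apply, h, mul_inv_cancel_right]

namespace StA

variable {ι k Γ : Type*} [Field k] [Group Γ] (A : StA ι k Γ) {i j l : ι}

/-- Restriction to a subfamily of indices. -/
def comap {κ : Type*} (f : κ → ι) (hf : Function.Injective f) : StA κ k Γ where
  x a b := A.x (f a) (f b)
  add _ _ := A.add _ _
  comm h := A.comm ⟨hf.ne h.a, hf.ne h.b, hf.ne h.c⟩
  row h := A.row ⟨hf.ne h.a, hf.ne h.b, hf.ne h.c⟩
  col h := A.col ⟨hf.ne h.a, hf.ne h.b, hf.ne h.c⟩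

/-- The inverse transpose. -/
def flip : StA ι k Γ where
  x a b t := A.x b a (-t)
  add a b s t := by simp only [neg_add, A.add b a (-s)]
  comm {i j l} h s t := by
    rw [A.comm h.p321, mul_assoc, neg_mul_neg, mul_comm t, ← A.add, add_neg_cancel, (A.add _ _).zero,
      mul_one]
  row h s t := A.col h.p231 _ _
  col h s t := A.row h.p312 _ _

theorem c1 (h : D3 i j l) (s t : k) : conj (A.x i j s) (A.x j l t) = A.x j l t * A.x i l (s * t) :=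
  conj_of_swap (by rw [A.comm h, mul_assoc, A.row h, mul_assoc])

theorem c2 (h : D3 i j l) (s t : k) :
    conj (A.x j l t) (A.x i j s) = A.x i j s * A.x i l (-(s * t)) := conj_of_swap (by
  rw [mul_assoc, A.col h, ← mul_assoc, A.comm h, mul_assoc, ← A.add, add_neg_cancel, (A.add _ _).zero,
    mul_one])

theorem c3 (h : D3 i j l) (s t : k) : conj (A.x i j s) (A.x i l t) = A.x i l t :=
  conj_of_swap (A.row h s t)

theorem c4 (h : D3 i j l) (s t : k) : conj (A.x i l s) (A.x j l t) = A.x j l t :=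
  conj_of_swap (A.col h s t)

/-- Weyl elements. -/
def n (i j : ι) (t : kˣ) : Γ := A.x i j t * A.x j i (-(t⁻¹ : kˣ)) * A.x i j t

/-- Torus elements. -/
def hh (i j : ι) (t : kˣ) : Γ := (A.n i j 1)⁻¹ * A.n i j t

theorem n_neg (i j : ι) (t : kˣ) : A.n i j (-t) = (A.n i j t)⁻¹ := by
  simp only [n, mul_inv_rev, ← (A.add _ _).neg, inv_neg, Units.val_neg, mul_assoc]

theorem n_eq (i j : ι) (t : kˣ) : A.n i j t = A.n i j 1 * A.hh i j t := by simp [hh]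

theorem x_eq (i j : ι) (t : kˣ) :
    A.x j i t = A.x i j (t⁻¹ : kˣ) * A.n i j (-t⁻¹) * A.x i j (t⁻¹ : kˣ) := by
  simp only [n, inv_neg, inv_inv, Units.val_neg, neg_neg, (A.add _ _).neg]; group

theorem n_il (h : D3 i j l) (t : kˣ) (u : k) :
    conj (A.n i j t) (A.x i l u) = A.x j l (-((t⁻¹ : kˣ) * u)) := by
  simp only [n, map_mul, MulAut.mul_apply, A.c3 h, A.c1 h.p213, A.c1 h]
  rw [← mul_assoc, A.col h, mul_assoc, ← A.add, show u + t * (-(t⁻¹ : kˣ) * u) = 0 by simp,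
    (A.add _ _).zero, mul_one, neg_mul]

theorem n_jl (h : D3 i j l) (t : kˣ) (u : k) : conj (A.n i j t) (A.x j l u) = A.x i l (t * u) := by
  have : conj (A.x j i (-(t⁻¹ : kˣ))) (A.x j l u * A.x i l (t * u)) = A.x i l (t * u) := by
    rw [map_mul, A.c3 h.p213, A.c1 h.p213, ← mul_assoc, ← A.col h, mul_assoc, ← A.add,
      show u + -(t⁻¹ : kˣ) * (t * u) = 0 by simp, (A.add _ _).zero, mul_one]
  simp only [n, map_mul conj, MulAut.mul_apply, A.c1 h, this, A.c3 h]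

theorem n_li (h : D3 i j l) (t : kˣ) (u : k) :
    conj (A.n i j t) (A.x l i u) = A.x l j (-(t * u)) := by
  have : conj (A.x j i (-(t⁻¹ : kˣ))) (A.x l i u * A.x l j (-(u * t))) = A.x l j (-(t * u)) := by
    rw [map_mul, A.c4 h.p231, A.c2 h.p321, ← mul_assoc, A.row h.p312, mul_assoc, ← A.add,
      show u + -(-(u * t) * -(t⁻¹ : kˣ)) = 0 by simp, (A.add _ _).zero, mul_one, mul_comm u]
  simp only [n, map_mul conj, MulAut.mul_apply, A.c2 h.p312, this, A.c4 h.p132]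

theorem n_lj (h : D3 i j l) (t : kˣ) (u : k) :
    conj (A.n i j t) (A.x l j u) = A.x l i ((t⁻¹ : kˣ) * u) := by
  simp only [n, map_mul, MulAut.mul_apply, A.c4 h.p132, A.c2 h.p321, A.c2 h.p312]
  rw [← mul_assoc, ← A.row h.p312, mul_assoc, ← A.add,
    show u + -(-(u * -(t⁻¹ : kˣ)) * t) = 0 by simp, (A.add _ _).zero, mul_one]
  congr 1; ring

theorem n_ij (h : D3 i j l) (t : kˣ) (u : k) :
    conj (A.n i j t) (A.x i j u) = A.x j i (-((t⁻¹ : kˣ) * (t⁻¹ : kˣ) * u)) := by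
  have h1 : A.x i j u = (A.x l j 1)⁻¹ * (A.x i l u * A.x l j 1 * (A.x i l u)⁻¹) := by
    rw [← conj_apply, A.c1 h.p132]; simp
  rw [h1]
  simp only [map_mul, map_inv, A.n_il h, A.n_lj h]
  rw [← conj_apply, A.c1 h.p231, inv_mul_cancel_left]
  congr 1; ring

theorem n_ji (h : D3 i j l) (t : kˣ) (u : k) :
    conj (A.n i j t) (A.x j i u) = A.x i j (-(t * t * u)) := by
  have h1 : A.x j i u = (A.x l i 1)⁻¹ * (A.x j l u * A.x l i 1 * (A.x j l u)⁻¹) := by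
    rw [← conj_apply, A.c1 h.p231]; simp
  rw [h1]
  simp only [map_mul, map_inv, A.n_jl h, A.n_li h]
  rw [← conj_apply, A.c1 h.p132, inv_mul_cancel_left]
  congr 1; ring

theorem n_rev (h : D3 i j l) (t : kˣ) : A.n i j t = A.n j i (-t⁻¹) := by
  have : conj (A.n i j t) (A.n i j t) = A.n i j t := by simp
  rw [← this]
  conv_lhs => rw [n, map_mul, map_mul, ← n, A.n_ij h, A.n_ji h]
  simp [n]

theorem nn_jl (h : D3 i j l) (t u : kˣ) : conj (A.n i j t) (A.n j l u) = A.n i l (t * u) := by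
  conv_lhs => rw [n.eq_1 A j l, map_mul, map_mul, A.n_jl h, A.n_lj h]
  simp [n, mul_comm]

theorem nn_li (h : D3 i j l) (t u : kˣ) : conj (A.n i j t) (A.n l i u) = A.n l j (-(t * u)) := by
  conv_lhs => rw [n.eq_1 A l i, map_mul, map_mul, A.n_li h, A.n_il h]
  simp [n, mul_comm]

theorem nn_lj (h : D3 i j l) (t u : kˣ) : conj (A.n i j t) (A.n l j u) = A.n l i (t⁻¹ * u) := by
  conv_lhs => rw [n.eq_1 A l j, map_mul, map_mul, A.n_lj h, A.n_jl h]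
  simp [n, mul_comm]

theorem braid (h : D3 i j l) :
    A.n i j 1 * A.n j l 1 * A.n i j 1 = A.n j l 1 * A.n i j 1 * A.n j l 1 := by
  have h1 := conj_swap (A.nn_jl h 1 1)
  have h2 := conj_swap (A.nn_li h.p231 (-1) 1)
  simp only [mul_one, neg_neg, A.n_neg] at h1 h2
  rw [eq_mul_inv_iff_mul_eq, mul_assoc, inv_mul_eq_iff_eq_mul] at h2
  rw [mul_assoc (A.n j l 1), h2, mul_assoc, ← h1, h2]

theorem hh_mul (h : D3 i j l) (t : kˣ) :
    A.hh i j t * A.hh j l t = (A.n i j 1)⁻¹ * A.hh j l t * A.n i j 1 := by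
  have h1 := conj_swap (A.nn_li h.p231 1 t)
  have h2 := conj_swap (A.nn_lj h.p231 (-t) (-t))
  simp only [one_mul, inv_mul_cancel, A.n_neg] at h1 h2
  rw [inv_mul_eq_iff_eq_mul, ← mul_assoc, inv_eq_iff_mul_eq_one] at h2
  simp only [hh, mul_assoc, mul_right_inj]
  rw [eq_inv_mul_iff_mul_eq, ← mul_assoc, h1, mul_assoc, mul_inv_cancel_left, inv_mul_eq_iff_eq_mul]
  rw [← mul_assoc, mul_inv_eq_one] at h2
  exact h2.symm

theorem n_sq (i j : ι) : A.hh i j (-1) = (A.n i j 1 * A.n i j 1)⁻¹ := by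
  rw [hh, A.n_neg, mul_inv_rev]

theorem conj_hh (i j : ι) (t : kˣ) (g : Γ) :
    conj (A.hh i j t) g = conj (A.n i j (-1)) (conj (A.n i j t) g) := by
  rw [hh, map_mul, A.n_neg]; rfl

theorem hh_ij (h : D3 i j l) (t : kˣ) (u : k) :
    conj (A.hh i j t) (A.x i j u) = A.x i j ((t⁻¹ : kˣ) * (t⁻¹ : kˣ) * u) := by
  rw [conj_hh, A.n_ij h, A.n_ji h]; simp

theorem hh_ji (h : D3 i j l) (t : kˣ) (u : k) :
    conj (A.hh i j t) (A.x j i u) = A.x j i (t * t * u) := by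
  rw [conj_hh, A.n_ji h, A.n_ij h]; simp

theorem hh_il (h : D3 i j l) (t : kˣ) (u : k) :
    conj (A.hh i j t) (A.x i l u) = A.x i l ((t⁻¹ : kˣ) * u) := by
  rw [conj_hh, A.n_il h, A.n_jl h]; simp

theorem hh_jl (h : D3 i j l) (t : kˣ) (u : k) :
    conj (A.hh i j t) (A.x j l u) = A.x j l (t * u) := by
  rw [conj_hh, A.n_jl h, A.n_il h]; simp

theorem hh_li (h : D3 i j l) (t : kˣ) (u : k) :
    conj (A.hh i j t) (A.x l i u) = A.x l i (t * u) := by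
  rw [conj_hh, A.n_li h, A.n_lj h]; simp

theorem hh_lj (h : D3 i j l) (t : kˣ) (u : k) :
    conj (A.hh i j t) (A.x l j u) = A.x l j ((t⁻¹ : kˣ) * u) := by
  rw [conj_hh, A.n_lj h, A.n_li h]; simp

theorem n_mem {K : Subgroup Γ} (h : ∀ t, A.x i j t ∈ K) (h' : ∀ t, A.x j i t ∈ K) (t : kˣ) :
    A.n i j t ∈ K := mul_mem (mul_mem (h _) (h' _)) (h _)

theorem hh_mem {K : Subgroup Γ} (h : ∀ t, A.x i j t ∈ K) (h' : ∀ t, A.x j i t ∈ K) (t : kˣ) :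
    A.hh i j t ∈ K := mul_mem (inv_mem (A.n_mem h h' _)) (A.n_mem h h' _)

end StA

section Rep

variable {ι k Γ : Type*} [Field k] [Group Γ] {V : Type*} [AddCommGroup V] [Module ℂ V]
  {ρ : Representation ℂ Γ V} {ψ : AddChar k ℂ}

theorem Wx_conj {x y : k → Γ} {g : Γ} (a : kˣ) (h : ∀ u, conj g (x u) = y (a * u)) {c : k} {v : V}
    (hv : v ∈ Wx ρ ψ x c) : ρ g v ∈ Wx ρ ψ y ((a⁻¹ : kˣ) * c) :=
  map_mem_Wx (e := fun t : k => ((a⁻¹ : kˣ) : k) * t) (fun t => by rw [conj_swap (h _)]; simp)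
    (fun t => by ring) hv

theorem Wx_conj0 {x y : k → Γ} {g : Γ} (a : kˣ) (h : ∀ u, conj g (x u) = y (a * u)) {v : V}
    (hv : v ∈ Wx ρ ψ x 0) : ρ g v ∈ Wx ρ ψ y 0 := by simpa using Wx_conj a h hv

theorem Wx_conj' {x y : k → Γ} {g : Γ} (a : kˣ) (h : ∀ u, conj g (x u) = y (a * u)) {c : k} {v : V}
    (hv : v ∈ Wx ρ ψ y c) : ρ g⁻¹ v ∈ Wx ρ ψ x (a * c) :=
  map_mem_Wx (e := fun t : k => (a : k) * t) (fun t => by rw [← h, conj_apply]; group) (fun t => by ring) hv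

theorem Wx_conj0' {x y : k → Γ} {g : Γ} (a : kˣ) (h : ∀ u, conj g (x u) = y (a * u)) {v : V}
    (hv : v ∈ Wx ρ ψ y 0) : ρ g⁻¹ v ∈ Wx ρ ψ x 0 := by simpa using Wx_conj' a h hv

theorem ap_Sm_conj [Fintype k] {x y : k → Γ} {g : Γ} (a : kˣ) (h : ∀ u, conj g (x u) = y (a * u))
    (v : V) : ρ g (Sm ρ x v) = Sm ρ y (ρ g v) :=
  ap_Sm (Units.mulLeft a) (fun u => conj_swap (h u)) v

theorem sum_eq_add_units [Fintype k] [DecidableEq k] {M : Type*} [AddCommMonoid M] (f : k → M) :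
    ∑ t, f t = f 0 + ∑ u : kˣ, f u := by
  rw [← add_sum_erase _ _ (mem_univ 0), sum_subtype (univ.erase 0) (p := fun t : k => t ≠ 0) (by simp)]
  congr 1
  exact (Fintype.sum_equiv unitsEquivNeZero _ _ fun _ => rfl).symm

namespace StA

variable (A : StA ι k Γ) {i j l : ι}

theorem shift (h : D3 i j l) (s : k) {c d : k} {v : V} (hc : v ∈ Wx ρ ψ (A.x i l) c)
    (hd : v ∈ Wx ρ ψ (A.x j l) d) : ρ (A.x i j s) v ∈ Wx ρ ψ (A.x j l) (d - s * c) :=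
  mem_Wx.2 fun t => by
    rw [ap_swap (conj_swap (A.c2 h s t)), mul_ap, mem_Wx.1 hd, map_smul, mem_Wx.1 hc, smul_smul,
      map_smul, ← AddChar.map_add_eq_mul]
    congr 2; ring

theorem shift' (h : D3 i j l) (t : k) {c d : k} {v : V} (hc : v ∈ Wx ρ ψ (A.x i l) c)
    (hd : v ∈ Wx ρ ψ (A.x i j) d) : ρ (A.x j l t) v ∈ Wx ρ ψ (A.x i j) (d + t * c) :=
  mem_Wx.2 fun s => by
    rw [ap_swap (conj_swap (A.c1 h s t)), mul_ap, mem_Wx.1 hd, map_smul, mem_Wx.1 hc, smul_smul,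
      map_smul, ← AddChar.map_add_eq_mul]
    congr 2; ring

variable [Fintype k]

theorem Sm_Sm (hψ : ψ ≠ 1) (h : D3 i j l) {c : k} (hc0 : c ≠ 0) {v : V}
    (hc : v ∈ Wx ρ ψ (A.x i l) c) (hd : v ∈ Wx ρ ψ (A.x j l) 0) :
    Sm ρ (A.x j l) (Sm ρ (A.x i j) v) = (Fintype.card k : ℂ) • v := by
  rw [Sm_apply (A.x i j), map_sum, sum_eq_single 0 (fun s _ hs => Sm_of_Wx hψ
    (by simp [hs, hc0]) (A.shift h s hc hd)) (by simp), (A.add _ _).zero, one_ap,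
    Sm_of_fix (mem_Wx_zero.1 hd)]

theorem Sm_Sm' (hψ : ψ ≠ 1) (h : D3 i j l) {c : k} (hc0 : c ≠ 0) {v : V}
    (hc : v ∈ Wx ρ ψ (A.x i l) c) (hd : v ∈ Wx ρ ψ (A.x i j) 0) :
    Sm ρ (A.x i j) (Sm ρ (A.x j l) v) = (Fintype.card k : ℂ) • v := by
  rw [Sm_apply (A.x j l), map_sum, sum_eq_single 0 (fun s _ hs => Sm_of_Wx hψ
    (by simp [hs, hc0]) (A.shift' h s hc hd)) (by simp), (A.add _ _).zero, one_ap,
    Sm_of_fix (mem_Wx_zero.1 hd)]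

theorem Sm_braid (h : D3 i j l) (v : V) :
    Sm ρ (A.x i j) (Sm ρ (A.x i l) (Sm ρ (A.x j l) v)) =
      Sm ρ (A.x j l) (Sm ρ (A.x i l) (Sm ρ (A.x i j) v)) := by
  rw [Sm_comm (A.col h), ← Sm_comm (A.row h), Sm_apply (A.x i j),
    Sm_apply (A.x j l) (Sm ρ (A.x i j) _)]
  simp only [Sm_apply (A.x j l) (Sm ρ (A.x i l) v), Sm_apply (A.x i j) (Sm ρ (A.x i l) v), map_sum]
  rw [sum_comm]
  refine sum_congr rfl fun t _ => sum_congr rfl fun s _ => ?_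
  rw [← mul_ap, A.comm h, mul_ap, mul_ap, (A.add _ _).ap_Sm]

theorem nS_il (h : D3 i j l) (t : kˣ) (v : V) :
    ρ (A.n i j t) (Sm ρ (A.x i l) v) = Sm ρ (A.x j l) (ρ (A.n i j t) v) :=
  ap_Sm_conj (-t⁻¹) (fun u => by simpa using A.n_il h t u) v

theorem nS_jl (h : D3 i j l) (t : kˣ) (v : V) :
    ρ (A.n i j t) (Sm ρ (A.x j l) v) = Sm ρ (A.x i l) (ρ (A.n i j t) v) :=
  ap_Sm_conj t (A.n_jl h t) v

theorem nS_li (h : D3 i j l) (t : kˣ) (v : V) :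
    ρ (A.n i j t) (Sm ρ (A.x l i) v) = Sm ρ (A.x l j) (ρ (A.n i j t) v) :=
  ap_Sm_conj (-t) (fun u => by simpa using A.n_li h t u) v

theorem nS_lj (h : D3 i j l) (t : kˣ) (v : V) :
    ρ (A.n i j t) (Sm ρ (A.x l j) v) = Sm ρ (A.x l i) (ρ (A.n i j t) v) :=
  ap_Sm_conj t⁻¹ (A.n_lj h t) v

theorem nS_ij (h : D3 i j l) (t : kˣ) (v : V) :
    ρ (A.n i j t) (Sm ρ (A.x i j) v) = Sm ρ (A.x j i) (ρ (A.n i j t) v) :=
  ap_Sm_conj (-(t⁻¹ * t⁻¹)) (fun u => by simpa using A.n_ij h t u) v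

theorem nS_ji (h : D3 i j l) (t : kˣ) (v : V) :
    ρ (A.n i j t) (Sm ρ (A.x j i) v) = Sm ρ (A.x i j) (ρ (A.n i j t) v) :=
  ap_Sm_conj (-(t * t)) (fun u => by simpa using A.n_ji h t u) v

variable (ρ) in
/-- Hecke operators. -/
noncomputable def T (i j : ι) : End ℂ V := Sm ρ (A.x i j) * ρ (A.n i j 1)

theorem T_apply (i j : ι) (v : V) : A.T ρ i j v = Sm ρ (A.x i j) (ρ (A.n i j 1) v) := rfl

theorem T_braid (h : D3 i j l) (v : V) :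
    A.T ρ i j (A.T ρ j l (A.T ρ i j v)) = A.T ρ j l (A.T ρ i j (A.T ρ j l v)) := by
  simp only [T_apply, A.nS_jl h, A.nS_il h, A.nS_li h.p231, A.nS_lj h.p231]
  rw [A.Sm_braid h, ← mul_ap, ← mul_ap, A.braid h, mul_ap, mul_ap]

theorem T_sq [DecidableEq k] (h : D3 i j l) {v : V} (hv : v ∈ Wx ρ ψ (A.x i j) 0) :
    A.T ρ i j (Sm ρ (A.x i j) (ρ (A.n i j 1)⁻¹ v)) =
      (Fintype.card k : ℂ) • v + ∑ u : kˣ, A.T ρ i j (ρ (A.hh i j u) v) := by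
  rw [T_apply, A.nS_ij h, ap_inv, Sm_apply (A.x j i), map_sum, sum_eq_add_units, (A.add _ _).zero,
    one_ap, Sm_of_fix (mem_Wx_zero.1 hv), ← ((Equiv.neg kˣ).trans (Equiv.inv kˣ)).sum_comp]
  congr 1
  refine sum_congr rfl fun u _ => ?_
  simp only [A.x_eq i j, mul_ap, mem_Wx_zero.1 hv, (A.add _ _).Sm_ap, T_apply]
  rw [← mul_ap (A.n i j 1), ← A.n_eq]
  simp

theorem T_ne_zero (h : D3 i j l) {v : V} (hv : v ∈ Wx ρ ψ (A.x i j) 0) (h0 : v ≠ 0)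
    (hh : ∀ u, ∃ a : ℂ, ρ (A.hh i j u) v = a • v) : A.T ρ i j v ≠ 0 := by
  classical
  intro h1
  have h2 := A.T_sq h hv
  obtain ⟨a, ha⟩ := hh (-1)
  have h3 : ρ (A.n i j 1)⁻¹ v = ρ (A.n i j 1) (ρ (A.hh i j (-1)) v) := by
    rw [← mul_ap, ← A.n_eq, A.n_neg]
  rw [h3, ← T_apply, ha, map_smul, h1, smul_zero, map_zero, sum_eq_zero (fun u _ => by
    obtain ⟨b, hb⟩ := hh u
    rw [hb, map_smul, h1, smul_zero]), add_zero] at h2
  exact h0 ((smul_eq_zero.1 h2.symm).resolve_left cardk_ne)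

theorem T_T (h : D3 i j l) {v : V} (hv : v ∈ Wx ρ ψ (A.x i j) 0)
    (hh : ∀ u, ρ (A.hh i j u) v = v) : A.T ρ i j (A.T ρ i j v) =
      (Fintype.card k : ℂ) • v + ((Fintype.card k : ℂ) - 1) • A.T ρ i j v := by
  classical
  have h2 := A.T_sq h hv
  have h3 : ρ (A.n i j 1)⁻¹ v = ρ (A.n i j 1) v := by
    rw [← A.n_neg, A.n_eq, mul_ap, hh]
  rw [h3, ← T_apply] at h2
  rw [h2]
  simp only [hh, sum_const, card_univ, Fintype.card_units, ← Nat.cast_smul_eq_nsmul ℂ]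
  rw [Nat.cast_pred Fintype.card_pos]

theorem hh_il_fix (h : D3 i j l) {v : V} (h1 : ∀ u, ρ (A.hh i j u) v = v)
    (h2 : ∀ u, ρ (A.hh j l u) v = v) (u : kˣ) : ρ (A.hh i l u) v = v := by
  have e : A.hh i l u = (A.hh i j (-1))⁻¹ * (A.hh i j u * A.hh j l u) * A.hh i j (-1) := by
    have e1 := A.nn_jl h 1 u
    have e2 := A.nn_jl h 1 1
    rw [one_mul] at e1 e2
    rw [A.hh_mul h, A.n_sq, hh, hh, ← e1, ← e2]
    simp only [conj_apply]; group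
  rw [e]
  exact mul_mem (mul_mem (inv_mem (mem_Stv.2 (h1 _))) (mul_mem (mem_Stv.2 (h1 _)) (mem_Stv.2 (h2 _))))
    (mem_Stv.2 (h1 _))

variable [FiniteDimensional ℂ V] {N : Submodule ℂ V}

variable (ρ N) in
/-- Invariant subspaces. -/
def Inv : Prop := ∀ a b, a ≠ b → ∀ t, A.x a b t ∈ Sts ρ N

variable {A}

omit [Fintype k] in
theorem inv_top : A.Inv ρ ⊤ := fun _ _ _ _ _ _ => trivial

omit [Fintype k] in
theorem Inv.n (hN : A.Inv ρ N) (h : i ≠ j) (t : kˣ) : A.n i j t ∈ Sts ρ N :=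
  A.n_mem (hN _ _ h) (hN _ _ h.symm) t

omit [Fintype k] in
theorem Inv.hh (hN : A.Inv ρ N) (h : i ≠ j) (t : kˣ) : A.hh i j t ∈ Sts ρ N :=
  A.hh_mem (hN _ _ h) (hN _ _ h.symm) t

theorem Inv.Sm (hN : A.Inv ρ N) (h : i ≠ j) {v : V} (hv : v ∈ N) : Sm ρ (A.x i j) v ∈ N :=
  Sm_mem fun t => hN _ _ h t v hv

variable (A ρ ψ N) in
/-- The vanishing of the generic weights. -/
def Kl (i j l : ι) : Prop := ∀ c ≠ 0, ∀ v ∈ N, v ∈ Wx ρ ψ (A.x i j) c → v ∈ Wx ρ ψ (A.x i l) 0 →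
  v ∈ Wx ρ ψ (A.x j l) 0

variable (A ρ ψ N) in
/-- The vanishing of the generic weights. -/
def Kr (i j l : ι) : Prop := ∀ c ≠ 0, ∀ v ∈ N, v ∈ Wx ρ ψ (A.x j l) c → v ∈ Wx ρ ψ (A.x i l) 0 →
  v ∈ Wx ρ ψ (A.x i j) 0

theorem no_St (hψ : ψ ≠ 1) (h : D3 i j l) (hN : A.Inv ρ N) (hK : A.Kl ρ ψ N i j l) {y : V}
    (hy : y ∈ N) (h1 : y ∈ Wx ρ ψ (A.x i j) 0) (h3 : y ∈ Wx ρ ψ (A.x i l) 0)
    (t1 : ∀ u, ρ (A.hh i j u) y = y) (t2 : ∀ u, ρ (A.hh j l u) y = y) (e1 : A.T ρ i j y = -y)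
    (e2 : A.T ρ j l y = -y) : y = 0 := by
  classical
  have hq : (2 : ℝ) ≤ Fintype.card k := by exact_mod_cast Fintype.one_lt_card
  have a1 := conj_swap (A.nn_jl h 1 1)
  have a2 := conj_swap (A.nn_li h.p231 (-1) 1)
  simp only [mul_one, neg_neg] at a1 a2
  have n1 : ρ (A.n i j 1) (ρ (A.n i j 1) y) = y := by
    rw [← mul_ap]; exact (inv_mem_iff (H := Stv ρ y)).1 (A.n_sq i j ▸ t1 (-1))
  have n2 : ρ (A.n j l (-1)) y = ρ (A.n j l 1) y := by rw [A.n_eq, mul_ap, t2]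
  have u1 : A.T ρ i l y = Sm ρ (A.x i l) (ρ (A.n i j 1) (ρ (A.n j l 1) (ρ (A.n i j 1) y))) := by
    rw [ap_swap a1, n1, T_apply]
  have u2 : Sm ρ (A.x j l) (A.T ρ i l y) = ρ (A.n i j 1) y := by
    rw [u1, ← A.nS_jl h, ← A.nS_il h, Sm_comm (A.col h), ← A.nS_li h.p231, ← T_apply A i j, e1, map_neg, map_neg, ← T_apply, e2, neg_neg]
  have u3 : Sm ρ (A.x i j) (A.T ρ i l y) = ρ (A.n j l 1) y := by
    rw [u1, ← mul_ap, ← mul_ap, A.braid h, mul_ap, mul_ap, ← A.nS_li h.p231,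
      ← A.nS_lj h.p231, ← Sm_comm (A.row h), ← A.nS_jl h, ← T_apply A j l, e2, map_neg, map_neg,
      ← T_apply, e1, neg_neg]
  have u4 : A.T ρ i l y ∈ N ⊓ Wx ρ ψ (A.x i l) 0 :=
    ⟨hN.Sm h.c (hN.n h.c _ _ hy), (A.add _ _).Sm_mem _⟩
  have u5 : (Fintype.card k : ℂ) • A.T ρ i l y - Sm ρ (A.x i j) (A.T ρ i l y) ∈
      Wx ρ ψ (A.x j l) 0 := by
    have := (A.add i j).sum_Px ρ hψ (A.T ρ i l y)
    rw [sum_eq_add_units, Px_zero] at this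
    rw [← congrArg ((Fintype.card k : ℂ) • ·) this, smul_add, smul_inv_smul₀ cardk_ne,
      add_sub_cancel_left]
    refine Submodule.smul_mem _ _ (Submodule.sum_mem _ fun c _ => hK c c.ne_zero _
      (Px_mem fun t => hN _ _ h.a t _ u4.1) ((A.add _ _).Px_mem _ _) (Px_mem fun t => ?_))
    exact Wx_comm (fun s => (A.row h t s).symm) u4.2
  have u6 := Sm_of_fix (mem_Wx_zero.1 u5)
  rw [map_sub, map_smul, u2, u3, ← T_apply, e2] at u6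
  have v1 : A.T ρ i l (ρ (A.n i j 1) y) = -ρ (A.n i j 1) y := by
    rw [T_apply, ← ap_swap a1, ← A.nS_jl h, ← T_apply, e2, map_neg]
  have v2 : A.T ρ i l (ρ (A.n j l 1) y) = -ρ (A.n j l 1) y := by
    rw [T_apply, ← n2, ← ap_swap a2, ← A.nS_li h.p231, ← T_apply, e1, map_neg]
  have v3 := A.T_T h.p132 h3 (A.hh_il_fix h t1 t2)
  have v4 := congrArg (A.T ρ i l) u6
  simp only [map_sub, map_smul, map_neg, v1, v2, v3] at v4
  have c3 : (Fintype.card k : ℂ) ^ 3 - 1 ≠ 0 := by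
    have : (1 : ℝ) < (Fintype.card k : ℝ) ^ 3 := one_lt_pow₀ (by linarith) (by norm_num)
    exact_mod_cast (sub_pos.2 this).ne'
  have c2 : (Fintype.card k : ℂ) ^ 2 - 1 ≠ 0 := by
    have : (1 : ℝ) < (Fintype.card k : ℝ) ^ 2 := one_lt_pow₀ (by linarith) (by norm_num)
    exact_mod_cast (sub_pos.2 this).ne'
  have w1 : A.T ρ i l y = -y := smul_right_injective V c3 (by
    linear_combination (norm := module) -u6 - v4)
  have w2 := congrArg (Sm ρ (A.x i j)) u6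
  have w3 : Sm ρ (A.x i j) (ρ (A.n j l 1) y) = (Fintype.card k : ℂ) • ρ (A.n j l 1) y :=
    Sm_of_fix (mem_Wx_zero.1 (Wx_conj0 (ψ := ψ) _ (A.n_lj h.p231 1) h3))
  simp only [w1, map_sub, map_smul, map_neg, ← T_apply, e1, w3, Sm_of_fix (mem_Wx_zero.1 h1)] at w2
  have w4 : ρ (A.n j l 1) y = -(Fintype.card k : ℂ) • y :=
    smul_right_injective V (pow_ne_zero 2 (cardk_ne (k := k))) (by
      linear_combination (norm := module) w2)
  have h2 : y ∈ Wx ρ ψ (A.x j l) 0 := by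
    rw [← neg_mem_iff, ← e2]; exact (A.add _ _).Sm_mem _
  rw [T_apply, w4, map_smul, Sm_of_fix (mem_Wx_zero.1 h2)] at e2
  exact (smul_eq_zero.1 (by linear_combination (norm := module) -e2)).resolve_left c2

theorem non_cusp (hψ : ψ ≠ 1) (h : D3 i j l) (hN : A.Inv ρ N) (hK : A.Kl ρ ψ N i j l)
    (hK' : A.Kr ρ ψ N i j l) {c : k} (hc : c ≠ 0) {v : V} (hv : v ∈ N)
    (h1 : v ∈ Wx ρ ψ (A.x j l) c) (h2 : v ∈ Wx ρ ψ (A.x i l) 0) (e : A.T ρ j l v = 0) : v = 0 := by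
  classical
  have b1 : ρ (A.n i j 1) v ∈ Wx ρ ψ (A.x i l) c := by simpa using Wx_conj _ (A.n_jl h 1) h1
  have b2 : ρ (A.n i j 1) v ∈ Wx ρ ψ (A.x j l) 0 :=
    Wx_conj0 (-1) (fun u => by simpa using A.n_il h 1 u) h2
  have b3 := A.Sm_Sm hψ h hc b1 b2
  have b4 : Sm ρ (A.x l i) (ρ (A.n i j 1) v) = 0 := by
    rw [← A.nS_lj h, ap_eq_zero, ← ap_eq_zero (ρ := ρ) (g := A.n j l 1), A.nS_ji h.p231, ← e, T_apply]
  set a := Sm ρ (A.x i j) (ρ (A.n i j 1) v) with ha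
  have a0 : a ∈ N := hN.Sm h.a (hN.n h.a _ _ hv)
  have a1 : a ∈ Wx ρ ψ (A.x i l) c := Sm_mem fun t => Wx_comm (fun s => (A.row h t s).symm) b1
  have a2 : a ∈ Wx ρ ψ (A.x i j) 0 := (A.add _ _).Sm_mem _
  have a3 : a ∈ Wx ρ ψ (A.x l j) 0 := by
    have := Wx_conj0 (-1) (fun u => by simpa using A.n_ij h.p231 1 u) (hK _ (by simpa using hc) _
      (inv_mem (hN.n h.b 1) a a0) (Wx_conj' (-1) (fun u => by simpa using A.n_li h.p231 1 u) a1)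
      (Wx_conj0' _ (A.n_lj h.p231 1) a2))
    rwa [ap_inv] at this
  have w1 : ∀ s : kˣ, ρ (A.n j l s) a ∈ Wx ρ ψ (A.x i j) (s * c) := fun s => by
    simpa using Wx_conj _ (A.n_lj h.p231 s) a1
  have z1 : ∀ s : kˣ, Sm ρ (A.x l j) (ρ (A.n j l s) a) ∈ Wx ρ ψ (A.x i j) (s * c) := fun s =>
    Sm_mem fun t => Wx_comm (fun r => A.col h.p132 r t) (w1 s)
  have z2 : ∀ s : kˣ, Sm ρ (A.x l j) (ρ (A.n j l s) a) ∈ Wx ρ ψ (A.x l i) 0 := fun s => by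
    have := Wx_conj0' _ (A.n_jl h.p231 1) (Wx_conj0 (-1) (fun u => by simpa using A.n_ij h 1 u)
      (hK' _ (by simpa using hc) _ (inv_mem (hN.n h.a 1) _ (hN.n h.b 1 _ (hN.Sm h.b.symm
        (hN.n h.b s a a0)))) (Wx_conj' _ (A.n_jl h 1) (Wx_conj (-1)
          (fun u => by simpa using A.n_li h.p231 1 u) (z1 s)))
        (Wx_conj0' (-1) (fun u => by simpa using A.n_il h 1 u) (Wx_conj0 (-1)
          (fun u => by simpa using A.n_ji h.p231 1 u) ((A.add _ _).Sm_mem _)))))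
    rwa [ap_inv, inv_ap] at this
  have y1 := congrArg (fun z => Sm ρ (A.x l j) (Sm ρ (A.x l i) z)) b3
  simp only [map_smul, b4, map_zero, smul_zero] at y1
  rw [Sm_apply (A.x j l), map_sum, map_sum, sum_eq_add_units, (A.add _ _).zero, one_ap,
    Sm_comm (A.row h.p321), Sm_of_fix (mem_Wx_zero.1 a3), map_smul] at y1
  have y2 : ∀ s : kˣ, Sm ρ (A.x l j) (Sm ρ (A.x l i) (ρ (A.x j l s) a)) =
      (Fintype.card k : ℂ) • Sm ρ (A.x l j) (ρ (A.n j l s) a) := fun s => by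
    rw [Sm_comm (A.row h.p321), A.x_eq l j, mul_ap, mul_ap, mem_Wx_zero.1 a3, (A.add _ _).Sm_ap,
      ← A.n_rev h.p231, Sm_of_fix (mem_Wx_zero.1 (z2 s))]
  have y3 : Sm ρ (A.x l i) a ∈ Wx ρ ψ (A.x i j) 0 := Sm_mem fun r => mem_Wx_zero.2 fun t => by
    rw [ap_swap (conj_swap (A.c2 h.p312 r t)), mul_ap, mem_Wx_zero.1 a2, mem_Wx_zero.1 a3]
  have y4 := congrArg (Px ρ ψ (A.x i j) c) y1
  simp only [y2, map_add, map_sum, map_smul, map_zero, Px_ne hψ hc y3, smul_zero, zero_add] at y4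
  rw [sum_eq_single 1 (fun s _ hs => by
    rw [Px_ne hψ (fun e => hs (Units.ext ((mul_eq_right₀ hc).1 e.symm))) (z1 s), smul_zero]) (by simp),
    Px_self hψ (by simpa using z1 1), smul_eq_zero, or_iff_right cardk_ne] at y4
  have y5 := A.Sm_Sm' hψ h.p132 hc (by simpa using w1 1)
    (Wx_conj0 (-1) (fun u => by simpa using A.n_li h.p231 1 u) a2)
  rw [y4, map_zero, eq_comm, smul_eq_zero, or_iff_right cardk_ne, ap_eq_zero] at y5
  rw [y5, map_zero, eq_comm, smul_eq_zero, or_iff_right cardk_ne, ap_eq_zero] at b3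
  exact b3

omit [Fintype k] in
theorem Inv.dim_eq (hN : A.Inv ρ N) (h : D3 i j l) {c d : k} (hc : c ≠ 0) (hd : d ≠ 0) :
    finrank ℂ ↥(N ⊓ Wx ρ ψ (A.x i l) c) = finrank ℂ ↥(N ⊓ Wx ρ ψ (A.x j l) d) := by
  obtain ⟨t, rfl⟩ : ∃ t : kˣ, c = t * d := ⟨Units.mk0 (c / d) (div_ne_zero hc hd), by simp [hd]⟩
  have e : ∀ u, conj (A.n i j (-t⁻¹)) (A.x i l u) = A.x j l (t * u) := fun u => by
    rw [A.n_il h]; simp
  exact finrank_eq_of_map ρ (A.n i j (-t⁻¹))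
    (fun v hv => ⟨hN.n h.a _ v hv.1, by simpa using Wx_conj t e hv.2⟩)
    fun v hv => ⟨inv_mem (hN.n h.a _) v hv.1, Wx_conj' t e hv.2⟩

omit [Fintype k] in
theorem Inv.dim_eq' (hN : A.Inv ρ N) (h : D3 i j l) {c d : k} (hc : c ≠ 0) (hd : d ≠ 0) :
    finrank ℂ ↥(N ⊓ Wx ρ ψ (A.x i l) c) = finrank ℂ ↥(N ⊓ Wx ρ ψ (A.x i l) d) :=
  (hN.dim_eq h hc hc).trans (hN.dim_eq h.p213 hc hd)

theorem Inv.dim_heis (hψ : ψ ≠ 1) (hN : A.Inv ρ N) (h : D3 i j l) {c : k} (hc : c ≠ 0) :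
    finrank ℂ ↥(N ⊓ Wx ρ ψ (A.x i l) c) =
      Fintype.card k * finrank ℂ ↥(N ⊓ Wx ρ ψ (A.x i l) 0 ⊓ Wx ρ ψ (A.x j l) c) := by
  refine (A.add j l).finrank_eq_mul ρ hψ (N := N ⊓ Wx ρ ψ (A.x i l) c) (fun t v hv =>
    ⟨hN _ _ h.b t v hv.1, Wx_comm (fun s => A.col h s t) hv.2⟩) fun d => ?_
  refine Eq.trans (finrank_eq_of_map ρ (B := N ⊓ Wx ρ ψ (A.x i l) c ⊓ Wx ρ ψ (A.x j l) 0)
    (A.x i j (d / c)) (fun v hv => ⟨⟨hN _ _ h.a _ v hv.1.1,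
      Wx_comm (fun s => (A.row h _ s).symm) hv.1.2⟩, by
        simpa [hc] using A.shift h (d / c) hv.1.2 hv.2⟩) fun v hv => ?_)
    (finrank_eq_of_map ρ (A.n i j (-1)) (fun v hv => ⟨⟨hN.n h.a _ v hv.1.1,
      Wx_conj0 (-1) (A.n_jl h _) hv.2⟩, ?_⟩) fun v hv => ⟨⟨inv_mem (hN.n h.a _) v hv.1.1, ?_⟩,
      Wx_conj0' (-1) (A.n_jl h _) hv.1.2⟩)
  · rw [← (A.add _ _).neg]
    exact ⟨⟨hN _ _ h.a _ v hv.1.1, Wx_comm (fun s => (A.row h _ s).symm) hv.1.2⟩, by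
      simpa [hc] using A.shift h (-(d / c)) hv.1.2 hv.2⟩
  · simpa using Wx_conj 1 (fun u => by simpa using A.n_il h (-1) u) hv.1.2
  · simpa using Wx_conj' 1 (fun u => by simpa using A.n_il h (-1) u) hv.2

theorem Inv.dim_heis' (hψ : ψ ≠ 1) (hN : A.Inv ρ N) (h : D3 i j l) {c : k} (hc : c ≠ 0) :
    finrank ℂ ↥(N ⊓ Wx ρ ψ (A.x i l) c) =
      Fintype.card k * finrank ℂ ↥(N ⊓ Wx ρ ψ (A.x i l) 0 ⊓ Wx ρ ψ (A.x i j) c) := by
  refine (A.add i j).finrank_eq_mul ρ hψ (N := N ⊓ Wx ρ ψ (A.x i l) c) (fun t v hv =>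
    ⟨hN _ _ h.a t v hv.1, Wx_comm (fun s => (A.row h t s).symm) hv.2⟩) fun d => ?_
  refine Eq.trans (finrank_eq_of_map ρ (B := N ⊓ Wx ρ ψ (A.x i l) c ⊓ Wx ρ ψ (A.x i j) 0)
    (A.x j l (-(d / c))) (fun v hv => ⟨⟨hN _ _ h.b _ v hv.1.1,
      Wx_comm (fun s => A.col h s _) hv.1.2⟩, by
        simpa [hc] using A.shift' h (-(d / c)) hv.1.2 hv.2⟩) fun v hv => ?_)
    (finrank_eq_of_map ρ (A.n j l 1) (fun v hv => ⟨⟨hN.n h.b _ v hv.1.1,
      Wx_conj0 (-1) (fun u => by simpa using A.n_li h.p231 1 u) hv.2⟩, ?_⟩) fun v hv =>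
      ⟨⟨inv_mem (hN.n h.b _) v hv.1.1, ?_⟩,
      Wx_conj0' (-1) (fun u => by simpa using A.n_li h.p231 1 u) hv.1.2⟩)
  · rw [← (A.add _ _).neg, neg_neg]
    exact ⟨⟨hN _ _ h.b _ v hv.1.1, Wx_comm (fun s => A.col h s _) hv.1.2⟩, by
      simpa [hc] using A.shift' h (d / c) hv.1.2 hv.2⟩
  · simpa using Wx_conj _ (A.n_lj h.p231 1) hv.1.2
  · simpa using Wx_conj' _ (A.n_lj h.p231 1) hv.2

variable (A ρ ψ N) in
/-- The multiplicities of the linear characters of the unipotent group. -/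
noncomputable def mu (i j l : ι) (a c : k) : ℕ :=
  finrank ℂ ↥(N ⊓ Wx ρ ψ (A.x i l) 0 ⊓ Wx ρ ψ (A.x j l) c ⊓ Wx ρ ψ (A.x i j) a)

theorem Inv.sum_mu (hψ : ψ ≠ 1) (hN : A.Inv ρ N) (h : D3 i j l) (c : k) :
    finrank ℂ ↥(N ⊓ Wx ρ ψ (A.x i l) 0 ⊓ Wx ρ ψ (A.x j l) c) = ∑ a, A.mu ρ ψ N i j l a c :=
  (A.add i j).finrank_eq_sum ρ hψ fun t v hv => ⟨⟨hN _ _ h.a t v hv.1.1,
    Wx_comm (fun s => (A.row h t s).symm) hv.1.2⟩, by simpa using A.shift h t hv.1.2 hv.2⟩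

theorem Inv.sum_mu' (hψ : ψ ≠ 1) (hN : A.Inv ρ N) (h : D3 i j l) (a : k) :
    finrank ℂ ↥(N ⊓ Wx ρ ψ (A.x i l) 0 ⊓ Wx ρ ψ (A.x i j) a) = ∑ c, A.mu ρ ψ N i j l a c := by
  rw [(A.add j l).finrank_eq_sum ρ hψ (N := N ⊓ Wx ρ ψ (A.x i l) 0 ⊓ Wx ρ ψ (A.x i j) a)
    fun t v hv => ⟨⟨hN _ _ h.b t v hv.1.1,
    Wx_comm (fun s => A.col h s t) hv.1.2⟩, by simpa using A.shift' h t hv.1.2 hv.2⟩]
  exact sum_congr rfl fun c _ => by rw [mu, inf_right_comm]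

omit [Fintype k] in
theorem mu_conj {g : Γ} (hg : g ∈ Sts ρ N) (r s t : kˣ)
    (h1 : ∀ u, conj g (A.x i l u) = A.x i l (r * u)) (h2 : ∀ u, conj g (A.x j l u) = A.x j l (s * u))
    (h3 : ∀ u, conj g (A.x i j u) = A.x i j (t * u)) (a c : k) :
    A.mu ρ ψ N i j l (t * a) (s * c) = A.mu ρ ψ N i j l a c :=
  finrank_eq_of_map ρ g (fun v hv => ⟨⟨⟨hg v hv.1.1.1, Wx_conj0 r h1 hv.1.1.2⟩, by
    simpa using Wx_conj s h2 hv.1.2⟩, by simpa using Wx_conj t h3 hv.2⟩)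
    fun v hv => ⟨⟨⟨inv_mem hg v hv.1.1.1, Wx_conj0' r h1 hv.1.1.2⟩, Wx_conj' s h2 hv.1.2⟩,
      Wx_conj' t h3 hv.2⟩

omit [Fintype k] in
theorem Inv.mu_left (hN : A.Inv ρ N) (h : D3 i j l) {a b : k} (ha : a ≠ 0) (hb : b ≠ 0) :
    A.mu ρ ψ N i j l a 0 = A.mu ρ ψ N i j l b 0 := by
  have := mu_conj (ψ := ψ) (hN.hh h.b (Units.mk0 (a / b) (by simp [ha, hb]))) _ _ _
    (A.hh_lj h.p231 _) (fun u => (A.hh_ij h.p231 _ u).trans (by rw [← Units.val_mul]))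
    (A.hh_li h.p231 _) b 0
  simpa [hb] using this

/-- The dimension in terms of the multiplicities. -/
theorem Inv.dim_total (hψ : ψ ≠ 1) (hN : A.Inv ρ N) (h : D3 i j l) :
    finrank ℂ N = A.mu ρ ψ N i j l 0 0 + (Fintype.card k - 1) * (A.mu ρ ψ N i j l 1 0 +
      (Fintype.card k + 1) * finrank ℂ ↥(N ⊓ Wx ρ ψ (A.x i l) 0 ⊓ Wx ρ ψ (A.x j l) 1)) := by
  classical
  have h1 := (A.add i l).finrank_eq_add ρ hψ (N := N) (fun t => hN _ _ h.c t)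
    fun c hc => hN.dim_eq' h hc one_ne_zero
  have h2 := (A.add j l).finrank_eq_add ρ hψ (N := N ⊓ Wx ρ ψ (A.x i l) 0) (fun t v hv =>
    ⟨hN _ _ h.b t v hv.1, Wx_comm (fun s => A.col h s t) hv.2⟩)
    (d := finrank ℂ ↥(N ⊓ Wx ρ ψ (A.x i l) 0 ⊓ Wx ρ ψ (A.x j l) 1)) fun c hc =>
      Nat.eq_of_mul_eq_mul_left Fintype.card_pos (by
        rw [← hN.dim_heis hψ h hc, ← hN.dim_heis hψ h one_ne_zero, hN.dim_eq' h hc one_ne_zero])
  rw [h1, h2, hN.dim_heis hψ h one_ne_zero, hN.sum_mu hψ h 0, sum_eq_add_units,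
    sum_congr rfl fun (c : kˣ) _ => hN.mu_left h c.ne_zero one_ne_zero, sum_const, card_univ,
    Fintype.card_units, smul_eq_mul]
  ring

end StA

end Rep

end Cfsg.Agent.Forms
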