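import Cfsg.Agent.Forms.StA

/-!
Generic weights in representations of groups of type `A₂`.
-/

set_option autoImplicit false

namespace Cfsg.Agent.Forms

open Module Finset Cfsg.Agent.GLn MulAut
open scoped InnerProductSpace

section
variable {k Γ : Type*} [Field k] [Group Γ] {V : Type*} [AddCommGroup V] [Module ℂ V] [FiniteDimensional ℂ V]
  {ρ : Representation ℂ Γ V} {ψ : AddChar k ℂ}

theorem shift_eq {y : k → Γ} {N : Submodule ℂ V} {g : Γ} (hg : g ∈ Sts ρ N) {e : k}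
    (h : ∀ t, ∀ v ∈ N, ρ (y t) (ρ g v) = ψ (t * e) • ρ g (ρ (y t) v)) (d : k) :
    finrank ℂ ↥(N ⊓ Wx ρ ψ y d) = finrank ℂ ↥(N ⊓ Wx ρ ψ y (d + e)) :=
  finrank_eq_of_map ρ g (fun v hv => ⟨hg v hv.1, mem_Wx.2 fun t => by
    rw [h t v hv.1, mem_Wx.1 hv.2, map_smul, smul_smul, ← AddChar.map_add_eq_mul, mul_add, add_comm]⟩)
    fun v hv => ⟨inv_mem hg v hv.1, mem_Wx.2 fun t => ap_inj (ρ := ρ) g (smul_right_injective V
      (ψ.val_isUnit (t * e)).ne_zero (by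
        simp only
        rw [← h t _ (inv_mem hg v hv.1), map_smul, ap_inv, mem_Wx.1 hv.2, smul_smul, ← AddChar.map_add_eq_mul,
          mul_add, add_comm]))⟩

theorem heis_eq {y : k → Γ} {N : Submodule ℂ V}
    (h : ∀ e, ∃ g ∈ Sts ρ N, ∀ t, ∀ v ∈ N, ρ (y t) (ρ g v) = ψ (t * e) • ρ g (ρ (y t) v)) (d d' : k) :
    finrank ℂ ↥(N ⊓ Wx ρ ψ y d) = finrank ℂ ↥(N ⊓ Wx ρ ψ y d') := by
  obtain ⟨g, hg, e⟩ := h (d' - d)
  rw [shift_eq hg e, add_sub_cancel]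

theorem heis_mul [Fintype k] (hψ : ψ ≠ 1) {y : k → Γ} (hy : Ad1 y) {N : Submodule ℂ V} (hN : ∀ t, y t ∈ Sts ρ N)
    (h : ∀ e, ∃ g ∈ Sts ρ N, ∀ t, ∀ v ∈ N, ρ (y t) (ρ g v) = ψ (t * e) • ρ g (ρ (y t) v)) (d : k) :
    finrank ℂ N = Fintype.card k * finrank ℂ ↥(N ⊓ Wx ρ ψ y d) :=
  hy.finrank_eq_mul ρ hψ hN fun c => heis_eq h c d

namespace StA

variable {ι : Type*} {A : StA ι k Γ} {i j l : ι} {N : Submodule ℂ V}

theorem Inv.mu_perm (hN : A.Inv ρ N) (h : D3 i j l) (a c : k) :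
    A.mu ρ ψ N i j l a c ≤ A.mu ρ ψ N j i l (-a) c :=
  finrank_le_of_map ρ (A.n i j 1) fun v hv => ⟨⟨⟨hN.n h.a _ v hv.1.1.1,
    Wx_conj0 (-1) (fun u => by simpa using A.n_il h 1 u) hv.1.1.2⟩, by simpa using Wx_conj _ (A.n_jl h 1) hv.1.2⟩,
    by simpa using Wx_conj (-1) (fun u => by simpa using A.n_ij h 1 u) hv.2⟩

theorem Inv.mu_perm' (hN : A.Inv ρ N) (h : D3 i j l) (a c : k) :
    A.mu ρ ψ N i j l a c ≤ A.mu ρ ψ N i l j (-a) (-c) :=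
  finrank_le_of_map ρ (A.n j l 1) fun v hv => ⟨⟨⟨hN.n h.b _ v hv.1.1.1, Wx_conj0 _ (A.n_lj h.p231 1) hv.1.1.2⟩,
    by simpa using Wx_conj (-1) (fun u => by simpa using A.n_ij h.p231 1 u) hv.1.2⟩,
    by simpa using Wx_conj (-1) (fun u => by simpa using A.n_li h.p231 1 u) hv.2⟩

variable [Fintype k]

theorem hh_fix (h : D3 i j l) {v : V} (h0 : v ≠ 0) {t : kˣ} {a b c : ℂ} (h1 : ρ (A.hh i j t) v = a • v)
    (h2 : ρ (A.hh j l t) v = b • v) (h3 : A.T ρ i j v = c • v) (hc : A.T ρ i j v ≠ 0) : ρ (A.hh i j t) v = v := by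
  have e := ap_Sm_conj (ρ := ρ) _ (A.hh_li h.p231 t) (ρ (A.n i j 1) v)
  rw [ap_conj (A.hh j l t), ← A.hh_mul h, mul_ap, h2, map_smul, h1, map_smul, map_smul, map_smul, map_smul,
    ← T_apply, h3, map_smul, h2, smul_comm c b, smul_right_inj (by rintro rfl; exact h0 (ap_eq_zero.1 (by simpa using h2))), ← h3] at e
  rw [h1, ← smul_left_injective ℂ hc ((one_smul _ _).trans e), one_smul]

end StA

end

variable {k Γ : Type*} [Field k] [Fintype k] [Group Γ] {V : Type*} [NormedAddCommGroup V] [InnerProductSpace ℂ V]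
  [FiniteDimensional ℂ V] {ρ : Representation ℂ Γ V} {ψ : AddChar k ℂ}

omit [FiniteDimensional ℂ V] in
theorem inner_Sm' (hρ : IsUni ρ) {α : Type*} [Fintype α] {x : α → Γ} {v : V} (hv : ∀ t, ρ (x t) v = v) (w : V) :
    ⟪Sm ρ x w, v⟫_ℂ = Fintype.card α * ⟪w, v⟫_ℂ := by
  rw [← inner_conj_symm, inner_Sm hρ hv, map_mul, inner_conj_symm, map_natCast]

namespace StA

variable {ι : Type*} {A : StA ι k Γ} {i j l : ι} {N : Submodule ℂ V}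

theorem line_St (hρ : IsUni ρ) (h : D3 i j l) (hN : A.Inv ρ N) (hm : A.mu ρ ψ N i j l 0 0 ≤ 1) {v : V}
    (hv : v ∈ N ⊓ Wx ρ ψ (A.x i l) 0 ⊓ Wx ρ ψ (A.x j l) 0 ⊓ Wx ρ ψ (A.x i j) 0) :
    (∀ u, ρ (A.hh j l u) v = v) ∧ (A.T ρ j l v = -v ∨ v ∈ Wx ρ ψ (A.x j i) 0) := by
  by_cases h0 : v = 0
  · simp [h0]
  have a1 := fun u => exists_smul_of_line hm hv h0 (w := ρ (A.hh i j u) v) ⟨⟨⟨hN.hh h.a u v hv.1.1.1,
    Wx_conj0 _ (A.hh_il h u) hv.1.1.2⟩, Wx_conj0 _ (A.hh_jl h u) hv.1.2⟩,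
    Wx_conj0 _ (fun s => (A.hh_ij h u s).trans (by rw [← Units.val_mul])) hv.2⟩
  have a2 := fun u => exists_smul_of_line hm hv h0 (w := ρ (A.hh j l u) v) ⟨⟨⟨hN.hh h.b u v hv.1.1.1,
    Wx_conj0 _ (A.hh_lj h.p231 u) hv.1.1.2⟩, Wx_conj0 _ (fun s => (A.hh_ij h.p231 u s).trans
      (by rw [← Units.val_mul])) hv.1.2⟩, Wx_conj0 _ (A.hh_li h.p231 u) hv.2⟩
  have a3 := fun u => exists_smul_of_line hm hv h0 (w := ρ (A.hh l i u) v) ⟨⟨⟨hN.hh h.c.symm u v hv.1.1.1,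
    Wx_conj0 _ (fun s => (A.hh_ji h.p312 u s).trans (by rw [← Units.val_mul])) hv.1.1.2⟩,
    Wx_conj0 _ (A.hh_li h.p312 u) hv.1.2⟩, Wx_conj0 _ (A.hh_jl h.p312 u) hv.2⟩
  obtain ⟨c, hc⟩ := exists_smul_of_line hm hv h0 (w := A.T ρ i j v) (by
    have b1 := Wx_conj0 _ (A.n_jl h 1) hv.1.2
    exact ⟨Sm_mem fun t => ⟨⟨hN _ _ h.a t _ (hN.n h.a _ v hv.1.1.1), Wx_comm (fun s => (A.row h t s).symm) b1⟩, by
      simpa using A.shift h t b1 (Wx_conj0 (-1) (fun u => by simpa using A.n_il h 1 u) hv.1.1.2)⟩,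
      (A.add _ _).Sm_mem _⟩)
  obtain ⟨d, hd⟩ := exists_smul_of_line hm hv h0 (w := A.T ρ j l v) (by
    have b1 := Wx_conj0 (-1) (fun u => by simpa using A.n_li h.p231 1 u) hv.2
    have b2 := fun t => Wx_comm (fun s => A.col h s t) b1
    exact ⟨⟨Sm_mem fun t => ⟨hN _ _ h.b t _ (hN.n h.b _ v hv.1.1.1), b2 t⟩, (A.add _ _).Sm_mem _⟩,
      Sm_mem fun t => by simpa using A.shift' h t b1 (Wx_conj0 _ (A.n_lj h.p231 1) hv.1.1.2)⟩)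
  have c0 := A.T_ne_zero h hv.2 h0 a1
  have d0 := A.T_ne_zero h.p231 hv.1.2 h0 a2
  have e1 := fun u => hh_fix h h0 (a1 u).choose_spec (a2 u).choose_spec hc c0
  have e2 := fun u => hh_fix h.p231 h0 (a2 u).choose_spec (a3 u).choose_spec hd d0
  refine ⟨e2, or_iff_not_imp_left.2 fun e => ?_⟩
  have e3 := A.T_T h.p231 hv.1.2 e2
  have e4 := A.T_braid (ρ := ρ) h v
  simp only [hc, hd, map_smul, smul_smul, ← add_smul] at e3 e4
  replace e3 := smul_left_injective ℂ h0 e3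
  replace e4 := smul_left_injective ℂ h0 e4
  have e5 : c = Fintype.card k := by
    have c1 : c ≠ 0 := by rintro rfl; exact c0 (by simpa using hc)
    have d1 : d ≠ 0 := by rintro rfl; exact d0 (by simpa using hd)
    have d2 : d + 1 ≠ 0 := fun f => e (by rw [hd, eq_neg_of_add_eq_zero_left f, neg_one_smul])
    exact mul_left_cancel₀ (mul_ne_zero (mul_ne_zero c1 d1) d2) (by linear_combination (d + 1) * e4 + c * d * e3)
  have e6 : ρ (A.n i j 1) v = v := eq_of_inner_eq hρ (mul_left_cancel₀ (cardk_ne (k := k)) (by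
    rw [← inner_Sm hρ (mem_Wx_zero.1 hv.2), ← T_apply, hc, e5, inner_smul_right]))
  exact e6 ▸ Wx_conj0 (-1) (fun u => by simpa using A.n_ij h 1 u) hv.2

theorem gen_weight (hρ : IsUni ρ) (hψ : ψ ≠ 1) (h : D3 i j l) (hN : A.Inv ρ N) {a c : k} (ha : a ≠ 0) (hc : c ≠ 0)
    (h1 : 1 ≤ A.mu ρ ψ N j l i c 0) (h2 : A.mu ρ ψ N l j i 0 0 ≤ 1) : 1 ≤ A.mu ρ ψ N i j l a c := by
  classical
  obtain ⟨y, ⟨⟨⟨y0, y1⟩, y2⟩, y3⟩, h0⟩ := exists_of_finrank (Nat.one_le_iff_ne_zero.1 h1)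
  have v1 : Sm ρ (A.x l j) y ∈ Wx ρ ψ (A.x l j) 0 := (A.add _ _).Sm_mem _
  have v2 : ⟪Sm ρ (A.x l j) y, Sm ρ (A.x l j) y⟫_ℂ = Fintype.card k * ⟪Sm ρ (A.x l j) y, y⟫_ℂ :=
    inner_Sm hρ (mem_Wx_zero.1 v1) y
  obtain ⟨e1, e2⟩ := line_St hρ h.p321 hN h2 (v := Sm ρ (A.x l j) y) ⟨Sm_mem fun t => ⟨⟨hN _ _ h.b.symm t _ y0,
    Wx_comm (fun s => (A.row h.p321 t s).symm) y2⟩, by simpa using A.shift h.p321 t y2 y1⟩, v1⟩
  replace e2 := e2.elim id fun e => by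
    rw [inner_eq_zero_of_Wx hρ hψ hc.symm e y3, mul_zero, inner_self_eq_zero] at v2
    simp [v2]
  have w1 : Sm ρ (A.x i l) y ∈ Wx ρ ψ (A.x i l) 0 := (A.add _ _).Sm_mem _
  refine one_le_finrank (v := Px ρ ψ (A.x i j) a (Sm ρ (A.x i l) y)) ⟨Px_mem fun t => ⟨⟨hN _ _ h.a t _ (hN.Sm h.c y0),
    Wx_comm (fun s => (A.row h t s).symm) w1⟩, by
      simpa using A.shift h t w1 (Sm_mem fun s => Wx_comm (fun r => (A.col h s r).symm) y3)⟩,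
    (A.add _ _).Px_mem _ _⟩ fun e => ?_
  have f0 : ⟪y, Sm ρ (A.x i l) y⟫_ℂ = ⟪y, y⟫_ℂ := by
    rw [Sm_apply, inner_sum, sum_eq_add_units, (A.add _ _).zero, one_ap, sum_eq_zero, add_zero]
    intro t _
    rw [A.x_eq, mul_ap, mul_ap, inner_fix hρ (mem_Wx_zero.1 y2 _), mem_Wx_zero.1 y2]
    exact inner_eq_zero_of_Wx hρ hψ hc y3 (Wx_conj0 _ (A.n_lj h.p312 _) y1)
  have f1 : ∀ s : kˣ, (Fintype.card k : ℂ) ^ 2 * ⟪y, ρ (A.x i j s) (Sm ρ (A.x i l) y)⟫_ℂ =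
      -⟪Sm ρ (A.x l j) y, Sm ρ (A.x l j) y⟫_ℂ := fun s => by
    rw [Sm_apply (A.x i l), map_sum, inner_sum, sum_congr rfl (g := fun _ => ⟪y, ρ (A.x i j s) y⟫_ℂ) fun t _ => by
      obtain ⟨t, rfl⟩ : ∃ u, t = s * u := ⟨_, (s.mul_inv_cancel_left t).symm⟩
      rw [← hρ (A.x j l t), ← mul_ap, ← mul_ap, ← A.comm h, mul_ap,
        mem_Wx.1 y3, map_smul, inner_smul_left, inner_smul_right, ← AddChar.map_neg_eq_conj, ← mul_assoc,
        ← AddChar.map_add_eq_mul, neg_add_cancel, AddChar.map_zero_eq_one, one_mul],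
      sum_const, card_univ, nsmul_eq_mul, A.x_eq, mul_ap, mul_ap, inner_fix hρ (mem_Wx_zero.1 y1 _), mem_Wx_zero.1 y1,
      ← inner_Sm' hρ (mem_Wx_zero.1 (Wx_conj0 (ψ := ψ) _ (A.n_lj h.p213 _) y2)), ← hρ (A.n j i s⁻¹), A.n_neg, ap_inv,
      A.n_eq, mul_ap, e1, sq, mul_assoc, ← inner_Sm' hρ (mem_Wx_zero.1 y1), ← T_apply, e2, inner_neg_left, v2, mul_neg]
  have f2 := congrArg (fun w => (Fintype.card k : ℂ) ^ 3 * ⟪y, w⟫_ℂ) e
  have f3 : ∑ t : k, ψ (-(t * a)) = 0 := by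
    simpa [AddChar.mulShift_apply, mul_comm] using AddChar.sum_eq_zero_of_ne_one
      (AddChar.IsPrimitive.of_ne_one hψ (neg_ne_zero.2 ha))
  rw [sum_eq_add_units] at f3
  simp only [Px_apply, inner_smul_right, inner_sum, inner_zero_right, mul_zero] at f2
  rw [pow_succ, mul_assoc, mul_inv_cancel_left₀ cardk_ne, mul_sum, sum_eq_add_units, (A.add _ _).zero, one_ap, f0,
    sum_congr rfl fun s _ => by rw [mul_left_comm, f1], ← sum_mul, eq_neg_of_add_eq_zero_right f3] at f2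
  simp only [zero_mul, neg_zero, AddChar.map_zero_eq_one, one_mul, neg_mul_neg, inner_self_eq_norm_sq_to_K] at f2
  have : (0 : ℝ) < (Fintype.card k : ℝ) ^ 2 * ‖y‖ ^ 2 + ‖Sm ρ (A.x l j) y‖ ^ 2 := by
    have := Fintype.card_pos (α := k)
    positivity
  exact this.ne' (Complex.ofReal_injective (by push_cast; exact f2))

theorem gen_weight' (hρ : IsUni ρ) (hψ : ψ ≠ 1) (h : D3 i j l) (hN : A.Inv ρ N) {a c : k} (ha : a ≠ 0) (hc : c ≠ 0)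
    (h1 : 1 ≤ A.mu ρ ψ N i j l 1 0) (h2 : A.mu ρ ψ N i j l 0 0 ≤ 1) : 1 ≤ A.mu ρ ψ N i j l a c :=
  gen_weight hρ hψ h hN ha hc (by
    simpa using (h1.trans_eq (hN.mu_left h one_ne_zero hc)).trans ((hN.mu_perm h c 0).trans (hN.mu_perm' h.p213 _ _)))
    (le_trans (by simpa using ((hN.mu_perm h.p321 0 0).trans (hN.mu_perm' h.p231 _ _)).trans (hN.mu_perm h.p213 _ _)) h2)

end StA

end Cfsg.Agent.Forms
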