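import Cfsg.Agent.Forms.OnePar
import Cfsg.Agent.GLn.Unitary
import Cfsg.Agent.CharLib.Central

/-!
Unitary representations: weight spaces of one-parameter subgroups, dimension counts,
orthogonal families.
-/

set_option autoImplicit false

namespace Cfsg.Agent.Forms

open Module Finset Cfsg.Agent.GLn
open scoped InnerProductSpace ComplexConjugate

section Alg

variable {Γ : Type*} [Group Γ] {V : Type*} [AddCommGroup V] [Module ℂ V]
  {ρ : Representation ℂ Γ V} {k : Type*} [Field k] {ψ : AddChar k ℂ}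

theorem mul_ap (g h : Γ) (v : V) : ρ (g * h) v = ρ g (ρ h v) := by rw [map_mul]; rfl
theorem one_ap (v : V) : ρ 1 v = v := by rw [map_one]; rfl
theorem inv_ap (g : Γ) (v : V) : ρ g⁻¹ (ρ g v) = v := by rw [← mul_ap, inv_mul_cancel, one_ap]
theorem ap_inv (g : Γ) (v : V) : ρ g (ρ g⁻¹ v) = v := by rw [← mul_ap, mul_inv_cancel, one_ap]

theorem ap_inj (g : Γ) : Function.Injective (ρ g) := fun a b h => by
  rw [← inv_ap (ρ := ρ) g a, h, inv_ap]

theorem ap_eq_zero {g : Γ} {v : V} : ρ g v = 0 ↔ v = 0 := map_eq_zero_iff _ (ap_inj g)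

theorem ap_swap {a g g' b : Γ} (h : a * g = g' * b) (v : V) : ρ a (ρ g v) = ρ g' (ρ b v) := by
  rw [← mul_ap, h, mul_ap]

theorem ap_conj (a g : Γ) (v : V) : ρ a (ρ g v) = ρ g (ρ (g⁻¹ * a * g) v) :=
  ap_swap (by group) v

theorem inv_ap_of_fix {g : Γ} {v : V} (h : ρ g v = v) : ρ g⁻¹ v = v := by
  conv_lhs => rw [← h, inv_ap]

variable (ρ) in
/-- The stabiliser of a vector. -/
def Stv (v : V) : Subgroup Γ where
  carrier := {g | ρ g v = v}
  mul_mem' := fun {a b} ha hb => by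
    simp only [Set.mem_ofPred_eq] at *; rw [mul_ap, hb, ha]
  one_mem' := one_ap v
  inv_mem' := inv_ap_of_fix

theorem mem_Stv {v : V} {g : Γ} : g ∈ Stv ρ v ↔ ρ g v = v := Iff.rfl

variable (ρ) in
/-- The stabiliser of a subspace. -/
def Sts [FiniteDimensional ℂ V] (N : Submodule ℂ V) : Subgroup Γ where
  carrier := {g | ∀ v ∈ N, ρ g v ∈ N}
  mul_mem' := fun {a b} ha hb v hv => by rw [mul_ap]; exact ha _ (hb v hv)
  one_mem' := fun v hv => by rwa [one_ap]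
  inv_mem' := fun {g} hg v hv => by
    have h1 : Function.Injective ((ρ g).restrict hg) := fun a b h =>
      Subtype.ext (ap_inj g (congrArg Subtype.val h))
    obtain ⟨w, hw⟩ := LinearMap.surjective_of_injective h1 ⟨v, hv⟩
    rw [← show ρ g w = v from congrArg Subtype.val hw, inv_ap]
    exact w.2

theorem mem_Sts [FiniteDimensional ℂ V] {N : Submodule ℂ V} {g : Γ} :
    g ∈ Sts ρ N ↔ ∀ v ∈ N, ρ g v ∈ N := Iff.rfl

variable (ρ) in
/-- The pointwise stabiliser of a subspace. -/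
def Kil (N : Submodule ℂ V) : Subgroup Γ := ⨅ v ∈ N, Stv ρ v

theorem mem_Kil {N : Submodule ℂ V} {g : Γ} : g ∈ Kil ρ N ↔ ∀ v ∈ N, ρ g v = v := by
  simp only [Kil, Subgroup.mem_iInf, mem_Stv]

theorem Kil_le_Sts [FiniteDimensional ℂ V] {N : Submodule ℂ V} : Kil ρ N ≤ Sts ρ N :=
  fun _ hg v hv => by rwa [mem_Kil.1 hg v hv]

theorem conj_mem_Kil [FiniteDimensional ℂ V] {N : Submodule ℂ V} {g a : Γ} (hg : g ∈ Sts ρ N)
    (ha : a ∈ Kil ρ N) : g * a * g⁻¹ ∈ Kil ρ N := mem_Kil.2 fun v hv => by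
  rw [mul_ap, mul_ap, mem_Kil.1 ha _ (inv_mem hg v hv), ap_inv]

theorem exists_smul_of_line {N : Submodule ℂ V} [FiniteDimensional ℂ V] (hN : finrank ℂ N ≤ 1)
    {v w : V} (hv : v ∈ N) (hv0 : v ≠ 0) (hw : w ∈ N) : ∃ c : ℂ, w = c • v := by
  obtain ⟨u, hu⟩ := finrank_le_one_iff.1 hN
  obtain ⟨a, ha⟩ := hu ⟨v, hv⟩
  obtain ⟨b, hb⟩ := hu ⟨w, hw⟩
  have ha' : a • (u : V) = v := congrArg Subtype.val ha
  have hb' : b • (u : V) = w := congrArg Subtype.val hb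
  have h0 : a ≠ 0 := by rintro rfl; exact hv0 (by rw [← ha', zero_smul])
  exact ⟨b / a, by rw [← ha', ← hb', smul_smul, div_mul_cancel₀ _ h0]⟩

theorem comm_mem_Kil [FiniteDimensional ℂ V] {N : Submodule ℂ V} (hN : finrank ℂ N ≤ 1) {g h : Γ}
    (hg : g ∈ Sts ρ N) (hh : h ∈ Sts ρ N) : g⁻¹ * h⁻¹ * g * h ∈ Kil ρ N := mem_Kil.2 fun v hv => by
  by_cases h0 : v = 0
  · rw [h0, map_zero]
  obtain ⟨a, ha⟩ := exists_smul_of_line hN hv h0 (hg v hv)
  obtain ⟨b, hb⟩ := exists_smul_of_line hN hv h0 (hh v hv)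
  have : ρ g (ρ h v) = ρ h (ρ g v) := by rw [ha, hb, map_smul, map_smul, ha, hb, smul_comm]
  rw [mul_ap, mul_ap, mul_ap, this, inv_ap, inv_ap]

theorem conj_mem_Kil_iff [FiniteDimensional ℂ V] {N : Submodule ℂ V} {g a : Γ} (hg : g ∈ Sts ρ N) :
    g * a * g⁻¹ ∈ Kil ρ N ↔ a ∈ Kil ρ N :=
  ⟨fun h => by simpa [mul_assoc] using conj_mem_Kil (inv_mem hg) h, conj_mem_Kil hg⟩

variable (ρ) in
/-- The fixed space of a set of elements. -/
def Fx (A : Set Γ) : Submodule ℂ V where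
  carrier := {v | ∀ g ∈ A, ρ g v = v}
  add_mem' := fun ha hb g hg => by rw [map_add, ha g hg, hb g hg]
  zero_mem' := fun _ _ => map_zero _
  smul_mem' := fun c v hv g hg => by rw [map_smul, hv g hg]

theorem mem_Fx {A : Set Γ} {v : V} : v ∈ Fx ρ A ↔ ∀ g ∈ A, ρ g v = v := Iff.rfl

theorem Fx_anti {A B : Set Γ} (h : A ⊆ B) : Fx ρ B ≤ Fx ρ A := fun _ hv g hg => hv g (h hg)

theorem map_mem_Fx {A B : Set Γ} {g : Γ} (h : ∀ b ∈ B, g⁻¹ * b * g ∈ A) {v : V} (hv : v ∈ Fx ρ A) :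
    ρ g v ∈ Fx ρ B := fun b hb => by rw [ap_conj, hv _ (h b hb)]

/-- One-parameter subgroups. -/
def Ad1 (x : k → Γ) : Prop := ∀ s t, x (s + t) = x s * x t

theorem Ad1.zero {x : k → Γ} (h : Ad1 x) : x 0 = 1 := by
  have := h 0 0
  rw [add_zero] at this
  exact left_eq_mul.1 this

theorem Ad1.neg {x : k → Γ} (h : Ad1 x) (t : k) : x (-t) = (x t)⁻¹ := by
  rw [eq_inv_iff_mul_eq_one, ← h, neg_add_cancel, h.zero]

theorem Ad1.comm {x : k → Γ} (h : Ad1 x) (s t : k) : x s * x t = x t * x s := by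
  rw [← h, ← h, add_comm]

theorem Ad1.op {x : k → Γ} (h : Ad1 x) (ρ : Representation ℂ Γ V) : OP fun t => ρ (x t) :=
  ⟨by rw [h.zero, map_one], fun s t => by rw [h, map_mul]⟩

variable (ρ ψ) in
/-- Weight spaces. -/
noncomputable def Wx (x : k → Γ) (c : k) : Submodule ℂ V := Wt ψ (fun t => ρ (x t)) c

theorem mem_Wx {x : k → Γ} {c : k} {v : V} : v ∈ Wx ρ ψ x c ↔ ∀ t, ρ (x t) v = ψ (t * c) • v :=
  mem_Wt

theorem mem_Wx_zero {x : k → Γ} {v : V} : v ∈ Wx ρ ψ x 0 ↔ ∀ t, ρ (x t) v = v := by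
  simp [mem_Wx]

theorem map_mem_Wx {x y : k → Γ} {g : Γ} {c d : k} {e : k → k} (h : ∀ t, y t * g = g * x (e t))
    (he : ∀ t, e t * c = t * d) {v : V} (hv : v ∈ Wx ρ ψ x c) : ρ g v ∈ Wx ρ ψ y d :=
  mem_Wx.2 fun t => by rw [ap_swap (h t), mem_Wx.1 hv, he, map_smul]

theorem Wx_comm {x : k → Γ} {g : Γ} {c : k} (h : ∀ t, x t * g = g * x t) {v : V}
    (hv : v ∈ Wx ρ ψ x c) : ρ g v ∈ Wx ρ ψ x c := map_mem_Wx (e := id) h (fun _ => rfl) hv

theorem exists_char_ne (hψ : ψ ≠ 1) {c : k} (hc : c ≠ 0) : ∃ t, ψ (t * c) ≠ 1 := by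
  obtain ⟨t, ht⟩ := AddChar.ne_one_iff.1 hψ
  exact ⟨t / c, by rwa [div_mul_cancel₀ _ hc]⟩

theorem eq_zero_of_Wx (hψ : ψ ≠ 1) {x : k → Γ} {c d : k} (h : c ≠ d) {v : V}
    (hc : v ∈ Wx ρ ψ x c) (hd : v ∈ Wx ρ ψ x d) : v = 0 := by
  obtain ⟨t, ht⟩ := exists_char_ne hψ (sub_ne_zero.2 h)
  by_contra h0
  have h1 := smul_left_injective ℂ h0 ((mem_Wx.1 hc t).symm.trans (mem_Wx.1 hd t))
  apply ht
  rw [mul_sub, sub_eq_add_neg, AddChar.map_add_eq_mul, h1, ← AddChar.map_add_eq_mul, add_neg_cancel,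
    AddChar.map_zero_eq_one]

variable (ρ) in
theorem finrank_le_of_map [FiniteDimensional ℂ V] {A B : Submodule ℂ V} (g : Γ)
    (h : ∀ v ∈ A, ρ g v ∈ B) : finrank ℂ A ≤ finrank ℂ B :=
  LinearMap.finrank_le_finrank_of_injective (f := (ρ g).restrict h) fun _ _ e =>
    Subtype.ext (ap_inj g (congrArg Subtype.val e))

variable (ρ) in
theorem finrank_eq_of_map [FiniteDimensional ℂ V] {A B : Submodule ℂ V} (g : Γ)
    (h : ∀ v ∈ A, ρ g v ∈ B) (h' : ∀ v ∈ B, ρ g⁻¹ v ∈ A) : finrank ℂ A = finrank ℂ B :=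
  (finrank_le_of_map ρ g h).antisymm (finrank_le_of_map ρ g⁻¹ h')

theorem one_le_finrank [FiniteDimensional ℂ V] {A : Submodule ℂ V} {v : V} (hv : v ∈ A) (h0 : v ≠ 0) :
    1 ≤ finrank ℂ A := by
  rw [Nat.one_le_iff_ne_zero, Ne, Submodule.finrank_eq_zero]
  exact (Submodule.ne_bot_iff _).2 ⟨v, hv, h0⟩

theorem exists_of_finrank [FiniteDimensional ℂ V] {A : Submodule ℂ V} (h : finrank ℂ A ≠ 0) :
    ∃ v ∈ A, v ≠ 0 := (Submodule.ne_bot_iff _).1 fun e => h (Submodule.finrank_eq_zero.2 e)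

variable (ρ) in
/-- The sum of the operators of a family of group elements. -/
noncomputable def Sm {α : Type*} [Fintype α] (x : α → Γ) : End ℂ V := ∑ t, ρ (x t)

theorem Sm_apply {α : Type*} [Fintype α] (x : α → Γ) (v : V) : Sm ρ x v = ∑ t, ρ (x t) v :=
  LinearMap.sum_apply _ _ _

theorem Sm_mem {α : Type*} [Fintype α] {x : α → Γ} {N : Submodule ℂ V} {v : V}
    (h : ∀ t, ρ (x t) v ∈ N) : Sm ρ x v ∈ N := by
  rw [Sm_apply]; exact N.sum_mem fun t _ => h t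

theorem Sm_of_fix {α : Type*} [Fintype α] {x : α → Γ} {v : V} (h : ∀ t, ρ (x t) v = v) :
    Sm ρ x v = (Fintype.card α : ℂ) • v := by
  rw [Sm_apply]; simp [h, Nat.cast_smul_eq_nsmul]

theorem ap_Sm {α β : Type*} [Fintype α] [Fintype β] {x : α → Γ} {y : β → Γ} {g g' : Γ} (e : α ≃ β)
    (h : ∀ t, g * x t = y (e t) * g') (v : V) : ρ g (Sm ρ x v) = Sm ρ y (ρ g' v) := by
  rw [Sm_apply, Sm_apply, map_sum, ← e.sum_comp]
  exact sum_congr rfl fun t _ => ap_swap (h t) v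

theorem ap_Sm_comm {α : Type*} [Fintype α] {x : α → Γ} {g : Γ} (h : ∀ t, g * x t = x t * g) (v : V) :
    ρ g (Sm ρ x v) = Sm ρ x (ρ g v) := ap_Sm (Equiv.refl _) h v

theorem Sm_comm {α β : Type*} [Fintype α] [Fintype β] {x : α → Γ} {y : β → Γ}
    (h : ∀ s t, x s * y t = y t * x s) (v : V) : Sm ρ x (Sm ρ y v) = Sm ρ y (Sm ρ x v) := by
  rw [Sm_apply x, Sm_apply x, map_sum]
  exact sum_congr rfl fun s _ => ap_Sm_comm (h s) v

variable [Fintype k]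

theorem cardk_ne : (Fintype.card k : ℂ) ≠ 0 := Nat.cast_ne_zero.2 Fintype.card_ne_zero

theorem Ad1.ap_Sm {x : k → Γ} (h : Ad1 x) (s : k) (v : V) : ρ (x s) (Sm ρ x v) = Sm ρ x v := by
  rw [Forms.ap_Sm (g' := 1) (y := x) (Equiv.addLeft s) (fun t => by rw [mul_one, ← h]; rfl), one_ap]

theorem Ad1.Sm_ap {x : k → Γ} (h : Ad1 x) (s : k) (v : V) : Sm ρ x (ρ (x s) v) = Sm ρ x v := by
  rw [← ap_Sm_comm (h.comm s), h.ap_Sm]

theorem Ad1.Sm_mem {x : k → Γ} (h : Ad1 x) (v : V) : Sm ρ x v ∈ Wx ρ ψ x 0 :=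
  mem_Wx_zero.2 fun s => h.ap_Sm s v

theorem Sm_of_Wx (hψ : ψ ≠ 1) {x : k → Γ} {c : k} (hc : c ≠ 0) {v : V} (hv : v ∈ Wx ρ ψ x c) :
    Sm ρ x v = 0 := by
  classical
  rw [Sm_apply]
  simp only [mem_Wx.1 hv, ← sum_smul, sum_addChar_mul hψ, if_neg hc, zero_smul]

variable (ρ ψ) in
/-- The projections to the weight spaces. -/
noncomputable def Px (x : k → Γ) (c : k) : End ℂ V := prj ψ (fun t => ρ (x t)) c

theorem Px_apply (x : k → Γ) (c : k) (v : V) :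
    Px ρ ψ x c v = (Fintype.card k : ℂ)⁻¹ • ∑ t, ψ (-(t * c)) • ρ (x t) v := by
  simp [Px, prj, LinearMap.sum_apply]

theorem Px_zero (x : k → Γ) (v : V) : Px ρ ψ x 0 v = (Fintype.card k : ℂ)⁻¹ • Sm ρ x v := by
  simp [Px_apply, Sm_apply]

theorem Ad1.Px_mem {x : k → Γ} (h : Ad1 x) (c : k) (v : V) : Px ρ ψ x c v ∈ Wx ρ ψ x c :=
  prj_mem (h.op ρ) c v

theorem Px_mem {x : k → Γ} {c : k} {N : Submodule ℂ V} {v : V} (h : ∀ t, ρ (x t) v ∈ N) :
    Px ρ ψ x c v ∈ N := by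
  rw [Px_apply]; exact N.smul_mem _ (N.sum_mem fun t _ => N.smul_mem _ (h t))

variable (ρ) in
theorem Ad1.sum_Px (hψ : ψ ≠ 1) {x : k → Γ} (h : Ad1 x) (v : V) : ∑ c, Px ρ ψ x c v = v := by
  have := LinearMap.congr_fun (sum_prj hψ (h.op ρ)) v
  rwa [LinearMap.sum_apply] at this

theorem Px_self (hψ : ψ ≠ 1) {x : k → Γ} {c : k} {v : V} (hv : v ∈ Wx ρ ψ x c) : Px ρ ψ x c v = v :=
  prj_self hψ hv

theorem Px_ne (hψ : ψ ≠ 1) {x : k → Γ} {c d : k} (h : c ≠ d) {v : V} (hv : v ∈ Wx ρ ψ x d) :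
    Px ρ ψ x c v = 0 := by
  classical
  exact (prj_of_mem hψ hv c).trans (if_neg h)

theorem ap_Px_comm {x : k → Γ} {g : Γ} (h : ∀ t, g * x t = x t * g) (c : k) (v : V) :
    ρ g (Px ρ ψ x c v) = Px ρ ψ x c (ρ g v) := by
  simp only [Px_apply, map_smul, map_sum, ap_swap (h _)]

variable (ρ) in
theorem Ad1.induction (hψ : ψ ≠ 1) {x : k → Γ} (h : Ad1 x) {W N : Submodule ℂ V}
    (hW : ∀ t, ∀ v ∈ W, ρ (x t) v ∈ W) (h' : ∀ c, ∀ v ∈ W, v ∈ Wx ρ ψ x c → v ∈ N) : W ≤ N :=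
  wt_induction hψ (h.op ρ) hW h'

variable (ρ) in
theorem Ad1.exists_Wx (hψ : ψ ≠ 1) {x : k → Γ} (h : Ad1 x) {W : Submodule ℂ V}
    (hW : ∀ t, ∀ v ∈ W, ρ (x t) v ∈ W) (h' : ¬ W ≤ Wx ρ ψ x 0) :
    ∃ c ≠ 0, ∃ v ∈ W, v ≠ 0 ∧ v ∈ Wx ρ ψ x c := by
  by_contra! h1
  refine h' (h.induction ρ hψ hW fun c v hv hc => ?_)
  by_cases h2 : c = 0
  · rwa [← h2]
  by_cases h3 : v = 0
  · rw [h3]; exact zero_mem _
  exact absurd hc (h1 c h2 v hv h3)

variable [FiniteDimensional ℂ V]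

variable (ρ) in
theorem Ad1.finrank_eq_sum (hψ : ψ ≠ 1) {x : k → Γ} (h : Ad1 x) {N : Submodule ℂ V}
    (hN : ∀ t, ∀ v ∈ N, ρ (x t) v ∈ N) : finrank ℂ N = ∑ c, finrank ℂ ↥(N ⊓ Wx ρ ψ x c) := by
  classical
  refine le_antisymm ?_ (sum_finrank_le_of_iSupIndep _
    (((iSupIndep_wsp (fun t => ρ (x t)) fun s t v => ap_swap (h.comm s t) v).comp
      (f := fun c t => ψ (t * c)) fun c d e => by
        by_contra h1
        obtain ⟨t, ht⟩ := exists_char_ne hψ (sub_ne_zero.2 h1)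
        apply ht
        rw [mul_sub, sub_eq_add_neg, AddChar.map_add_eq_mul, show ψ (t * c) = ψ (t * d) from congrFun e t, ← AddChar.map_add_eq_mul,
          add_neg_cancel, AddChar.map_zero_eq_one]).mono fun _ => inf_le_right) N
    fun _ => inf_le_left)
  rw [← finrank_pi_fintype]
  refine LinearMap.finrank_le_finrank_of_injective (f := LinearMap.pi fun c =>
    (Px ρ ψ x c).restrict (p := N) (q := N ⊓ Wx ρ ψ x c) fun v hv =>
      ⟨Forms.Px_mem fun t => hN t v hv, h.Px_mem c v⟩) fun a b e => Subtype.ext ?_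
  rw [← h.sum_Px ρ hψ a, ← h.sum_Px ρ hψ b]
  exact sum_congr rfl fun c _ => congrArg Subtype.val (congrFun e c)

variable (ρ) in
theorem Ad1.finrank_eq_add (hψ : ψ ≠ 1) {x : k → Γ} (h : Ad1 x) {N : Submodule ℂ V}
    (hN : ∀ t, ∀ v ∈ N, ρ (x t) v ∈ N) {d : ℕ} (hd : ∀ c ≠ 0, finrank ℂ ↥(N ⊓ Wx ρ ψ x c) = d) :
    finrank ℂ N = finrank ℂ ↥(N ⊓ Wx ρ ψ x 0) + (Fintype.card k - 1) * d := by
  classical
  rw [h.finrank_eq_sum ρ hψ hN, ← add_sum_erase _ _ (mem_univ 0),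
    sum_congr rfl fun c hc => hd c (ne_of_mem_erase hc), sum_const, card_erase_of_mem (mem_univ _),
    card_univ, smul_eq_mul]

variable (ρ) in
theorem Ad1.finrank_eq_mul (hψ : ψ ≠ 1) {x : k → Γ} (h : Ad1 x) {N : Submodule ℂ V}
    (hN : ∀ t, ∀ v ∈ N, ρ (x t) v ∈ N) {d : ℕ} (hd : ∀ c, finrank ℂ ↥(N ⊓ Wx ρ ψ x c) = d) :
    finrank ℂ N = Fintype.card k * d := by
  rw [h.finrank_eq_sum ρ hψ hN, sum_congr rfl fun c _ => hd c, sum_const, card_univ, smul_eq_mul]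

end Alg

section Inner

variable {Γ : Type*} [Group Γ] {V : Type*} [NormedAddCommGroup V] [InnerProductSpace ℂ V]
  {ρ : Representation ℂ Γ V} {k : Type*} [Field k] {ψ : AddChar k ℂ}

theorem inner_eq_zero_of_smul (hρ : IsUni ρ) {g : Γ} {v w : V} {a : ℂ} (hv : ρ g v = v)
    (hw : ρ g w = a • w) (ha : a ≠ 1) : ⟪v, w⟫_ℂ = 0 := by
  have := hρ g v w
  rw [hv, hw, inner_smul_right] at this
  by_contra h
  exact ha (mul_right_cancel₀ h (this.trans (one_mul _).symm))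

theorem inner_eq_zero_of_Wx [Finite k] (hρ : IsUni ρ) (hψ : ψ ≠ 1) {x : k → Γ} {c d : k} (h : c ≠ d)
    {v w : V} (hv : v ∈ Wx ρ ψ x c) (hw : w ∈ Wx ρ ψ x d) : ⟪v, w⟫_ℂ = 0 := by
  obtain ⟨t, ht⟩ := exists_char_ne hψ (sub_ne_zero.2 h.symm)
  have := hρ (x t) v w
  rw [mem_Wx.1 hv, mem_Wx.1 hw, inner_smul_right, inner_smul_left, ← AddChar.map_neg_eq_conj,
    ← mul_assoc, ← AddChar.map_add_eq_mul, ← sub_eq_add_neg, ← mul_sub] at this
  by_contra h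
  exact ht (mul_right_cancel₀ h (this.trans (one_mul _).symm))

theorem inner_fix (hρ : IsUni ρ) {g : Γ} {v : V} (hv : ρ g v = v) (w : V) :
    ⟪v, ρ g w⟫_ℂ = ⟪v, w⟫_ℂ := by rw [← hρ g v w, hv]

theorem inner_Sm (hρ : IsUni ρ) {α : Type*} [Fintype α] {x : α → Γ} {v : V}
    (hv : ∀ t, ρ (x t) v = v) (w : V) : ⟪v, Sm ρ x w⟫_ℂ = Fintype.card α * ⟪v, w⟫_ℂ := by
  rw [Sm_apply, inner_sum, sum_congr rfl fun t _ => inner_fix hρ (hv t) w, sum_const, card_univ,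
    nsmul_eq_mul]

theorem eq_of_inner_eq (hρ : IsUni ρ) {g : Γ} {v : V} (h : ⟪v, ρ g v⟫_ℂ = ⟪v, v⟫_ℂ) : ρ g v = v := by
  rw [← sub_eq_zero, ← inner_self_eq_zero (𝕜 := ℂ), inner_sub_sub_self, hρ, h,
    ← inner_conj_symm (ρ _ v) v, h, inner_conj_symm]
  ring

theorem sum_finrank_le_orth [FiniteDimensional ℂ V] {ι : Type*} [Fintype ι]
    (A : ι → Submodule ℂ V) (h : ∀ i j, i ≠ j → ∀ a ∈ A i, ∀ b ∈ A j, ⟪a, b⟫_ℂ = 0)
    (N : Submodule ℂ V) (hN : ∀ i, A i ≤ N) : ∑ i, finrank ℂ (A i) ≤ finrank ℂ N := by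
  refine sum_finrank_le_of_iSupIndep A (OrthogonalFamily.independent
    (OrthogonalFamily.of_pairwise fun i j hij => ?_)) N hN
  exact fun a ha b hb => h j i hij.symm b hb a ha

theorem card_mul_le_orth [FiniteDimensional ℂ V] {ι : Type*} [Finite ι] (g : ι → Γ)
    (A N : Submodule ℂ V) (h : ∀ i j, i ≠ j → ∀ a ∈ A, ∀ b ∈ A, ⟪ρ (g i) a, ρ (g j) b⟫_ℂ = 0)
    (hN : ∀ i, ∀ a ∈ A, ρ (g i) a ∈ N) : Nat.card ι * finrank ℂ A ≤ finrank ℂ N := by
  have := Fintype.ofFinite ι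
  refine le_trans ?_ (sum_finrank_le_orth (fun i => A.map (ρ (g i))) ?_ N ?_)
  · rw [Nat.card_eq_fintype_card, ← card_univ, ← smul_eq_mul]
    exact card_nsmul_le_sum _ _ _ fun i _ => finrank_le_of_map ρ (g i) fun v hv => ⟨v, hv, rfl⟩
  · rintro i j hij _ ⟨a, ha, rfl⟩ _ ⟨b, hb, rfl⟩
    exact h i j hij a ha b hb
  · rintro i _ ⟨a, ha, rfl⟩
    exact hN i a ha

theorem card_le_orth [FiniteDimensional ℂ V] {ι : Type*} [Finite ι] (v : ι → V) (N : Submodule ℂ V)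
    (h0 : ∀ i, v i ≠ 0) (h : ∀ i j, i ≠ j → ⟪v i, v j⟫_ℂ = 0) (hN : ∀ i, v i ∈ N) :
    Nat.card ι ≤ finrank ℂ N := by
  have := Fintype.ofFinite ι
  refine le_trans ?_ (sum_finrank_le_orth (fun i => Submodule.span ℂ {v i}) ?_ N ?_)
  · rw [Nat.card_eq_fintype_card, ← card_univ, card_eq_sum_ones]
    exact sum_le_sum fun i _ => one_le_finrank (Submodule.mem_span_singleton_self _) (h0 i)
  · intro i j hij a ha b hb
    obtain ⟨c, rfl⟩ := Submodule.mem_span_singleton.1 ha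
    obtain ⟨d, rfl⟩ := Submodule.mem_span_singleton.1 hb
    rw [inner_smul_left, inner_smul_right, h i j hij, mul_zero, mul_zero]
  · exact fun i => (Submodule.span_singleton_le_iff_mem _ _).2 (hN i)

end Inner

section Irr

open Cfsg.Agent.CharLib

theorem deg_dvd_card {G : Type*} [Group G] [Finite G] {V : Type*} [AddCommGroup V] [Module ℂ V]
    [FiniteDimensional ℂ V] (ρ : Representation ℂ G V) [ρ.IsIrreducible] :
    finrank ℂ V ∣ Nat.card G := by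
  classical
  have := Fintype.ofFinite G
  have := Fintype.ofFinite (ConjClasses G)
  have hχ := isIrrCharacter_character ρ
  have h0 := isIrr_one_ne_zero hχ
  have h1 := inner_irr_self hχ
  have hc := isChar_classFun (isChar_of_irr hχ)
  rw [inner_eq_inv (isChar_of_irr hχ), inv_mul_eq_one₀ card_ne_zero,
    sum_eq_sum_conjClasses (f := fun g => ρ.character g * ρ.character g⁻¹) (classFun_mul hc (isChar_classFun (isChar_inv (isChar_of_irr hχ))))] at h1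
  have h2 : IsIntegral ℤ ((Nat.card G : ℂ) / ρ.character 1) := by
    rw [h1, sum_div]
    refine IsIntegral.sum _ fun c _ => ?_
    have := (isIntegral_centralChar hχ c.out).mul (isChar_isIntegral (isChar_of_irr hχ) c.out⁻¹)
    convert this using 1
    rw [centralChar, card_cls]; ring
  rw [Representation.char_one] at h2 h0
  have h3 : IsIntegral ℤ ((Nat.card G : ℚ) / finrank ℂ V) :=
    (isIntegral_algebraMap_iff (algebraMap ℚ ℂ).injective).1 (by simpa using h2)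
  obtain ⟨z, hz⟩ := IsIntegrallyClosed.isIntegral_iff.1 h3
  have h4 : (finrank ℂ V : ℚ) ≠ 0 := by exact_mod_cast h0
  rw [eq_div_iff h4, eq_intCast] at hz
  exact Int.natCast_dvd_natCast.1 ⟨z, by exact_mod_cast (hz.symm.trans (mul_comm _ _))⟩

theorem exists_uni {G Γ : Type*} [Group G] [Group Γ] [Finite Γ] (e : Γ ≃* G) {n : ℕ}
    (ρ : Representation ℂ G (Fin n → ℂ)) (hρ : ρ.IsIrreducible) (hn : 2 ≤ n) :
    ∃ π : Representation ℂ Γ (EuclideanSpace ℂ (Fin n)), IsUni π ∧ n ∣ Nat.card Γ ∧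
      (∀ v, (∀ g, π g v = v) → v = 0) ∧ ¬ ∀ g h v, π g (π h v) = π h (π g v) := by
  have : Finite G := Finite.of_equiv _ e.toEquiv
  obtain ⟨d, f, hf⟩ := exists_unitary_equiv ρ
  obtain rfl : d = n := by simpa using f.finrank_eq.symm
  have hirr := irreducible_transport ρ f
  have key : ∀ v : EuclideanSpace ℂ (Fin d), (∀ g, ∃ c : ℂ, transport ρ f g v = c • v) → v = 0 := by
    intro y hy
    let W : Subrepresentation (transport ρ f) := ⟨Submodule.span ℂ {y}, fun g v hv => by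
      obtain ⟨c, rfl⟩ := Submodule.mem_span_singleton.mp hv
      obtain ⟨a, ha⟩ := hy g
      rw [map_smul, ha, smul_smul]
      exact Submodule.mem_span_singleton.2 ⟨_, rfl⟩⟩
    rcases hirr.eq_bot_or_eq_top W with h | h
    · exact Submodule.span_singleton_eq_bot.mp (congrArg Subrepresentation.toSubmodule h)
    · have h1 : Submodule.span ℂ {y} = ⊤ := congrArg Subrepresentation.toSubmodule h
      have h2 := finrank_span_le_card (R := ℂ) ({y} : Set _)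
      rw [h1, finrank_top] at h2
      simp at h2; omega
  refine ⟨(transport ρ f).comp e.toMonoidHom, fun g x y => ?_, ?_, fun v hv => key v fun g => ?_,
    fun h => ?_⟩
  · simp only [MonoidHom.comp_apply, transport_apply, hf, LinearEquiv.apply_symm_apply]
  · simpa [Nat.card_congr e.toEquiv] using deg_dvd_card ρ
  · exact ⟨1, by simpa using hv (e.symm g)⟩
  · obtain ⟨v, -, h0, hv⟩ := exists_common_eigenvector (fun g => transport ρ f g)
      (fun g g' x => by simpa using h (e.symm g) (e.symm g') x) ⊤ (fun _ _ _ => trivial)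
      (fun h1 => by
        have := congrArg (fun W : Submodule ℂ (EuclideanSpace ℂ (Fin d)) => finrank ℂ W) h1
        simp at this; omega)
    exact h0 (key v hv)

theorem psi_ne_one (F : Type*) [Field F] [Finite F] :
    AddChar.FiniteField.primitiveChar_to_Complex F ≠ 1 := by
  have := AddChar.FiniteField.primitiveChar_to_Complex_isPrimitive F (a := 1) one_ne_zero
  rwa [AddChar.mulShift_one] at this

end Irr

end Cfsg.Agent.Forms
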