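import Mathlib

/-!
Simultaneous eigenspaces ("weight spaces") of commuting operators, additive characters of finite
fields, and a lower bound for the size of an orbit of quadratic or Hermitian functions.
-/

set_option autoImplicit false

namespace Cfsg.Agent.Forms

open Module Finset

section Weights

variable {K : Type*} [Field K] {M : Type*} [AddCommGroup M] [Module K M] {ι : Type*}

theorem exists_common_eigenvector [IsAlgClosed K] [FiniteDimensional K M] (f : ι → End K M)
    (hc : ∀ i j x, f i (f j x) = f j (f i x)) (W : Submodule K M) (hW : ∀ i, ∀ x ∈ W, f i x ∈ W)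
    (hne : W ≠ ⊥) : ∃ v ∈ W, v ≠ 0 ∧ ∀ i, ∃ c : K, f i v = c • v := by
  induction hn : finrank K W using Nat.strong_induction_on generalizing W with
  | _ n ih =>
  by_cases h : ∀ i, ∃ c : K, ∀ x ∈ W, f i x = c • x
  · obtain ⟨v, hv, hv0⟩ := Submodule.exists_mem_ne_zero_of_ne_bot hne
    exact ⟨v, hv, hv0, fun i => (h i).imp fun c hc => hc v hv⟩
  push Not at h
  obtain ⟨i, hi⟩ := h
  have : Nontrivial W := Submodule.nontrivial_iff_ne_bot.2 hne
  obtain ⟨c, hc'⟩ := End.exists_eigenvalue ((f i).restrict (hW i))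
  obtain ⟨⟨y, hy⟩, hy1, hy0⟩ := hc'.exists_hasEigenvector
  have hy2 : f i y = c • y := congrArg Subtype.val (End.mem_eigenspace_iff.1 hy1)
  obtain ⟨x, hx, hx'⟩ := hi c
  have hlt : W ⊓ (f i).eigenspace c < W :=
    lt_of_le_of_ne inf_le_left fun h => hx' (End.mem_eigenspace_iff.1 (h.ge hx).2)
  obtain ⟨v, hv, hv'⟩ := ih _ (hn ▸ Submodule.finrank_lt_finrank_of_lt hlt) (W ⊓ (f i).eigenspace c)
    (fun j z hz => ⟨hW j z hz.1, End.mem_eigenspace_iff.2 (by
      rw [hc, End.mem_eigenspace_iff.1 hz.2, map_smul])⟩)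
    ((Submodule.ne_bot_iff _).2 ⟨y, ⟨hy, End.mem_eigenspace_iff.2 hy2⟩,
      fun h => hy0 (Subtype.ext h)⟩) rfl
  exact ⟨v, hv.1, hv'⟩

/-- The simultaneous eigenspace. -/
def wsp (f : ι → End K M) (χ : ι → K) : Submodule K M := ⨅ i, (f i).eigenspace (χ i)

theorem mem_wsp {f : ι → End K M} {χ : ι → K} {v : M} : v ∈ wsp f χ ↔ ∀ i, f i v = χ i • v := by
  simp only [wsp, Submodule.mem_iInf, End.mem_eigenspace_iff]

theorem iSupIndep_wsp (f : ι → End K M) (hc : ∀ i j x, f i (f j x) = f j (f i x)) :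
    iSupIndep (wsp f) :=
  (End.independent_iInf_maxGenEigenspace_of_forall_mapsTo f fun i j φ =>
    End.mapsTo_maxGenEigenspace_of_comm (LinearMap.ext fun x => hc j i x) φ).mono
    fun χ => iInf_mono fun i => ((f i).genEigenspace (χ i)).monotone le_top

theorem sum_finrank_le_of_iSupIndep [FiniteDimensional K M] {κ : Type*} [Fintype κ]
    (p : κ → Submodule K M) (hp : iSupIndep p) (W : Submodule K M) (hW : ∀ k, p k ≤ W) :
    ∑ k, finrank K (p k) ≤ finrank K W := by
  classical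
  have h1 := hp.dfinsupp_lsum_injective
  have h2 : LinearMap.range (DFinsupp.lsum ℕ fun i => (p i).subtype) ≤ W := by
    rw [← Submodule.iSup_eq_range_dfinsupp_lsum]
    exact iSup_le hW
  have h3 := Submodule.finrank_mono h2
  rw [LinearMap.finrank_range_of_inj h1] at h3
  exact (finrank_directSum K fun k => p k).symm.le.trans h3

theorem card_mul_le_of_wsp [FiniteDimensional K M] (f : ι → End K M)
    (hc : ∀ i j x, f i (f j x) = f j (f i x)) (W : Submodule K M) (S : Finset (ι → K)) (k : ℕ)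
    (h : ∀ χ ∈ S, k ≤ finrank K ↥(wsp f χ ⊓ W)) : #S * k ≤ finrank K W := by
  refine le_trans ?_ (sum_finrank_le_of_iSupIndep (fun χ : S => wsp f χ ⊓ W)
    (((iSupIndep_wsp f hc).comp Subtype.val_injective).mono fun _ => inf_le_left) W
    fun _ => inf_le_right)
  rw [← Fintype.card_coe, ← card_univ, ← smul_eq_mul]
  exact card_nsmul_le_sum _ _ _ fun χ _ => h χ χ.2

theorem card_le_of_wsp [FiniteDimensional K M] (f : ι → End K M)
    (hc : ∀ i j x, f i (f j x) = f j (f i x)) (W : Submodule K M) (S : Finset (ι → K))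
    (h : ∀ χ ∈ S, ∃ v ∈ W, v ≠ 0 ∧ v ∈ wsp f χ) : #S ≤ finrank K W := by
  simpa using card_mul_le_of_wsp f hc W S 1 fun χ hχ => by
    obtain ⟨v, h1, h2, h3⟩ := h χ hχ
    rw [Nat.one_le_iff_ne_zero, Ne, Submodule.finrank_eq_zero]
    exact (Submodule.ne_bot_iff _).2 ⟨v, ⟨h3, h1⟩, h2⟩

theorem exists_weight_ne_one [IsAlgClosed K] [FiniteDimensional K M] (f : ι → End K M)
    (hc : ∀ i j x, f i (f j x) = f j (f i x)) {i₀ : ι} {n : ℕ} (hn : (n : K) ≠ 0)
    (h : f i₀ ^ n = 1) (h1 : f i₀ ≠ 1) :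
    ∃ (χ : ι → K) (v : M), v ≠ 0 ∧ v ∈ wsp f χ ∧ χ i₀ ≠ 1 := by
  obtain ⟨v, ⟨y, rfl⟩, hv0, hv⟩ := exists_common_eigenvector f hc (LinearMap.range (f i₀ - 1))
    (by
      rintro i _ ⟨y, rfl⟩
      exact ⟨f i y, by simp [hc i i₀]⟩)
    (by rwa [Ne, LinearMap.range_eq_bot, sub_eq_zero])
  choose χ hχ using hv
  refine ⟨χ, _, hv0, mem_wsp.2 hχ, fun h2 => hv0 ?_⟩
  have h3 := hχ i₀
  rw [h2, one_smul] at h3
  have h4 : ∀ j : ℕ, (f i₀ ^ j) y = y + (j : K) • (f i₀ - 1) y := by
    intro j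
    induction j with
    | zero => simp
    | succ j ih =>
      rw [pow_succ', End.mul_apply, ih, map_add, map_smul, h3, Nat.cast_succ, add_smul, one_smul]
      simp only [LinearMap.sub_apply, End.one_apply]
      abel
  have h5 := h4 n
  rw [h, End.one_apply, left_eq_add] at h5
  exact (smul_eq_zero.1 h5).resolve_left hn

end Weights

section AddChar

variable {F : Type*} [Field F] {K : Type*} [Field K]

theorem eq_of_char_mul_eq {ψ : F → K} (hψ : ∀ s t, ψ (s + t) = ψ s * ψ t) (h0 : ψ 0 = 1)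
    (hne : ∃ s, ψ s ≠ 1) {a b : F} (h : ∀ s, ψ (a * s) = ψ (b * s)) : a = b := by
  by_contra hab
  obtain ⟨s, hs⟩ := hne
  have h1 := hψ (b * (s / (a - b))) s
  have h2 : b * (s / (a - b)) + s = a * (s / (a - b)) := by
    have := sub_ne_zero.2 hab
    field_simp
    ring
  rw [h2, h] at h1
  have h3 : ψ (b * (s / (a - b))) ≠ 0 :=
    left_ne_zero_of_mul_eq_one (by rw [← hψ, add_neg_cancel, h0])
  exact hs (mul_left_cancel₀ h3 (by rw [← h1, mul_one]))

theorem exists_char_eq_mul [Finite F] {ψ φ : F → K} (hψ : ∀ s t, ψ (s + t) = ψ s * ψ t)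
    (h0 : ψ 0 = 1) (hne : ∃ s, ψ s ≠ 1) (hφ : ∀ s t, φ (s + t) = φ s * φ t) (hφ0 : φ 0 = 1) :
    ∃ t, ∀ s, φ s = ψ (t * s) := by
  have hli := linearIndependent_monoidHom (Multiplicative F) K
  have := Fintype.ofFinite F
  have : Finite (Multiplicative F →* K) := hli.finite
  have := Fintype.ofFinite (Multiplicative F →* K)
  have h1 := hli.fintype_card_le_finrank
  rw [finrank_fintype_fun_eq_card, Fintype.card_multiplicative] at h1
  let e : F → (Multiplicative F →* K) := fun t =>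
    { toFun := fun s => ψ (t * s.toAdd)
      map_one' := by simpa using h0
      map_mul' := fun a b => by rw [toAdd_mul, mul_add, hψ] }
  have h2 : Function.Injective e := fun a b h => eq_of_char_mul_eq hψ h0 hne fun s =>
    DFunLike.congr_fun h (Multiplicative.ofAdd s)
  have h3 := (Fintype.bijective_iff_injective_and_card e).2
    ⟨h2, (Fintype.card_le_of_injective e h2).antisymm h1⟩
  obtain ⟨t, ht⟩ := h3.2
    { toFun := fun s => φ s.toAdd
      map_one' := hφ0
      map_mul' := fun a b => hφ _ _ }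
  exact ⟨t, fun s => (DFunLike.congr_fun ht (Multiplicative.ofAdd s)).symm⟩

/-- The largest subspace in the kernel of an additive character. -/
def charKer {V : Type*} [AddCommGroup V] [Module F V] (χ : V → K)
    (hχ : ∀ x y, χ (x + y) = χ x * χ y) (h0 : χ 0 = 1) : Submodule F V where
  carrier := {x | ∀ s : F, χ (s • x) = 1}
  add_mem' := fun {x y} hx hy s => by rw [smul_add, hχ, hx, hy, mul_one]
  zero_mem' := fun s => by rw [smul_zero, h0]
  smul_mem' := fun t x hx s => by rw [smul_smul, hx]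

theorem exists_sub_mem_charKer [Finite F] {V : Type*} [AddCommGroup V] [Module F V] (χ : V → K)
    (hχ : ∀ x y, χ (x + y) = χ x * χ y) (h0 : χ 0 = 1) {a : V} (ha : a ∉ charKer (F := F) χ hχ h0)
    (x : V) : ∃ t : F, x - t • a ∈ charKer (F := F) χ hχ h0 := by
  obtain ⟨t, ht⟩ := exists_char_eq_mul (ψ := fun s : F => χ (s • a)) (φ := fun s : F => χ (s • x))
    (fun s t => by rw [add_smul, hχ]) (by rw [zero_smul, h0]) (not_forall.1 ha)
    (fun s t => by rw [add_smul, hχ]) (by rw [zero_smul, h0])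
  refine ⟨t, fun s => ?_⟩
  rw [smul_sub, sub_eq_add_neg, hχ, ht, smul_smul, mul_comm t, ← hχ, add_neg_cancel, h0]

end AddChar

section Orbit

variable {F : Type*} [Field F] [Fintype F] {V : Type*} [AddCommGroup V] [Module F V] [Fintype V]

theorem orbit_bound [DecidableEq V] {R : Type*} [DecidableEq R] (Φ : V → R) {a : V}
    (W : Submodule F V) (ha : a ∉ W) (hW : ∀ x, ∃ t : F, x - t • a ∈ W) {k : ℕ}
    (h1 : ∀ x ∈ W, #{t : F | Φ (x + t • a) = Φ a} ≤ k)
    (h2 : ∀ x ∈ W, ∀ t : F, Φ (x + t • a) = Φ x → t = 0)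
    (O : Finset (V → R)) (hO : ∀ Ψ ∈ O, ∃ γ : V ≃ V, Ψ = Φ ∘ γ)
    (hO' : ∀ v ≠ 0, ∃ γ : V ≃ V, γ v = a ∧ ∀ η : Dual F V, η a = 0 →
      (fun x => Φ (γ x + η (γ x) • a)) ∈ O) :
    Fintype.card V - 1 ≤ k * #O := by
  classical
  have hcompl : IsCompl W (Submodule.span F {a}) := by
    refine ⟨?_, codisjoint_iff.2 (eq_top_iff.2 fun x _ => ?_)⟩
    · exact (Submodule.disjoint_span_singleton_of_notMem ha)
    · obtain ⟨t, ht⟩ := hW x
      rw [← sub_add_cancel x (t • a)]
      exact Submodule.add_mem_sup ht (Submodule.smul_mem _ _ (Submodule.mem_span_singleton_self a))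
  let π : V →ₗ[F] W := W.projectionOnto _ hcompl
  have hπ1 : ∀ x : W, π x = x := fun x => Submodule.projectionOnto_apply_left hcompl x
  have hπ2 : π a = 0 := Submodule.projectionOnto_apply_right hcompl
    ⟨a, Submodule.mem_span_singleton_self a⟩
  have : Finite (Dual F W) := Module.finite_of_finite F
  have := Fintype.ofFinite (Dual F W)
  have hcard : Fintype.card (Dual F W) = Fintype.card W := by
    rw [card_eq_pow_finrank (K := F), card_eq_pow_finrank (K := F) (V := W),
      Subspace.dual_finrank_eq]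
  have h3 : #{v | Φ v = Φ a} ≤ k * Fintype.card W := by
    rw [card_eq_sum_card_fiberwise (f := π) (t := univ) (fun _ _ => mem_univ _), mul_comm,
      ← card_univ, ← smul_eq_mul]
    refine sum_le_card_nsmul _ _ _ fun x _ => le_trans ?_ (h1 x x.2)
    refine card_le_card_of_surjOn (fun t => x + t • a) fun v hv => ?_
    simp only [coe_filter, mem_filter, mem_univ, true_and, Set.mem_ofPred_eq] at hv
    obtain ⟨t, ht⟩ := hW v
    have h4 : (x : V) = v - t • a := by
      rw [← hv.2]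
      conv_lhs => rw [← sub_add_cancel v (t • a), map_add, map_smul, hπ2, smul_zero, add_zero,
        hπ1 ⟨_, ht⟩]
    refine ⟨t, ?_, by simp [h4]⟩
    simp [h4, hv.1]
  have h4 : ∀ Ψ ∈ O, #{v ∈ univ.erase 0 | Ψ v = Φ a} ≤ k * Fintype.card W := by
    intro Ψ hΨ
    obtain ⟨γ, rfl⟩ := hO Ψ hΨ
    refine le_trans (card_le_card_of_injOn γ (fun v hv => ?_) γ.injective.injOn) h3
    simp only [coe_filter, mem_univ, true_and, Set.mem_ofPred_eq] at hv ⊢
    exact hv.2
  have h5 : ∀ v ∈ univ.erase (0 : V), Fintype.card W ≤ #{Ψ ∈ O | Ψ v = Φ a} := by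
    intro v hv
    obtain ⟨γ, hγ, hγ'⟩ := hO' v (ne_of_mem_erase hv)
    rw [← hcard, ← card_univ]
    refine card_le_card_of_injOn (fun θ x => Φ (γ x + θ (π (γ x)) • a)) (fun θ _ => ?_)
      fun θ _ θ' _ h => LinearMap.ext fun x => ?_
    · simp only [coe_filter, Set.mem_ofPred_eq]
      exact ⟨hγ' (θ ∘ₗ π) (by simp [hπ2]), by simp [hγ, hπ2]⟩
    · have := congrFun h (γ.symm (x - θ x • a))
      simp only [Equiv.apply_symm_apply, map_sub, map_smul, hπ1, hπ2, smul_zero, sub_zero,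
        sub_add_cancel] at this
      rw [sub_add, ← sub_smul, sub_eq_add_neg, ← neg_smul] at this
      have h6 := h2 x x.2 _ this.symm
      rwa [neg_eq_zero, sub_eq_zero] at h6
  have h6 := card_mul_le_card_mul' (s := O) (t := univ.erase (0 : V)) (fun Ψ v => Ψ v = Φ a)
    (m := k * Fintype.card W) (n := Fintype.card W) h5 h4
  rw [card_erase_of_mem (mem_univ _), card_univ, ← mul_assoc, mul_comm #O] at h6
  exact Nat.le_of_mul_le_mul_right h6 Fintype.card_pos

end Orbit

end Cfsg.Agent.Forms
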