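import Cfsg.Agent.Forms.MinDegSp
import Cfsg.Agent.Forms.TwoRank
import Cfsg.Agent.CharLib.ClassFun

/-!
The Weil representations of `Sp_{2n}(q)`, `q` odd.
-/

set_option autoImplicit false

namespace Cfsg.Agent.Forms

open Module Finset Matrix Cfsg.Agent.CharLib

section WP

variable {X : Type*}

/-- A weighted composition operator on functions. -/
def wcomp (c : X → ℂ) (s : X → X) : End ℂ (X → ℂ) where
  toFun f t := c t * f (s t)
  map_add' f g := by ext t; simp [mul_add]
  map_smul' a f := by ext t; simp [mul_left_comm]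

theorem wcomp_apply (c : X → ℂ) (s : X → X) (f : X → ℂ) (t : X) :
    wcomp c s f t = c t * f (s t) := rfl

theorem trace_wcomp [Fintype X] [DecidableEq X] (c : X → ℂ) (s : X → X) :
    LinearMap.trace ℂ _ (wcomp c s) = ∑ t, if s t = t then c t else 0 := by
  rw [LinearMap.trace_eq_matrix_trace ℂ (Pi.basisFun ℂ X), Matrix.trace]
  refine sum_congr rfl fun t _ => ?_
  simp [LinearMap.toMatrix_apply, wcomp_apply, Pi.single_apply]

end WP

variable {F : Type*} [Field F] {n : ℕ}

/-- First half of the coordinates. -/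
def xs (v : Fin n ⊕ Fin n → F) : Fin n → F := fun i => v (.inl i)

/-- Second half of the coordinates. -/
def ys (v : Fin n ⊕ Fin n → F) : Fin n → F := fun i => v (.inr i)

theorem sympB_eq_dot (u v : Fin n ⊕ Fin n → F) : sympB n F u v = ys u ⬝ᵥ xs v - xs u ⬝ᵥ ys v := by
  rw [sympB_eq, sum_sub_distrib]; rfl

/-- The Schrödinger model of the Heisenberg group. -/
def heis (ψ : AddChar F ℂ) (v : Fin n ⊕ Fin n → F) : End ℂ ((Fin n → F) → ℂ) :=
  wcomp (fun t => ψ (ys v ⬝ᵥ t + 2⁻¹ * (xs v ⬝ᵥ ys v))) (fun t => t + xs v)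

variable {ψ : AddChar F ℂ}

theorem heis_mul (h2 : (2 : F) ≠ 0) (u v : Fin n ⊕ Fin n → F) :
    heis ψ u * heis ψ v = ψ (-(2⁻¹ * sympB n F u v)) • heis ψ (u + v) := by
  refine LinearMap.ext fun f => funext fun t => ?_
  simp only [End.mul_apply, heis, wcomp_apply, LinearMap.smul_apply, Pi.smul_apply, smul_eq_mul]
  rw [← mul_assoc, ← mul_assoc, ← AddChar.map_add_eq_mul, ← AddChar.map_add_eq_mul, add_assoc t,
    sympB_eq_dot, show xs (u + v) = xs u + xs v from rfl, show ys (u + v) = ys u + ys v from rfl]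
  congr 2
  simp only [add_dotProduct, dotProduct_add, dotProduct_comm (ys v) (xs u),
    dotProduct_comm (ys u) (xs v)]
  field_simp
  ring

theorem heis_zero : heis ψ (0 : Fin n ⊕ Fin n → F) = 1 := by
  refine LinearMap.ext fun f => funext fun t => ?_
  simp [heis, wcomp_apply, show xs (0 : Fin n ⊕ Fin n → F) = 0 from rfl,
    show ys (0 : Fin n ⊕ Fin n → F) = 0 from rfl]

/-- The parity operator. -/
def parity (n : ℕ) (F : Type*) [Field F] : End ℂ ((Fin n → F) → ℂ) := wcomp 1 Neg.neg

theorem parity_apply (f : (Fin n → F) → ℂ) (t : Fin n → F) : parity n F f t = f (-t) := one_mul _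

theorem parity_mul_parity : parity n F * parity n F = 1 := by
  refine LinearMap.ext fun f => funext fun t => ?_
  simp [parity_apply]

theorem parity_mul_heis (v : Fin n ⊕ Fin n → F) :
    parity n F * heis ψ v = heis ψ (-v) * parity n F := by
  refine LinearMap.ext fun f => funext fun t => ?_
  simp only [End.mul_apply, parity_apply, heis, wcomp_apply,
    show xs (-v) = -xs v from rfl, show ys (-v) = -ys v from rfl]
  simp [add_comm]

variable [Fintype F] [DecidableEq F]

theorem trace_parity (h2 : (2 : F) ≠ 0) : LinearMap.trace ℂ _ (parity n F) = 1 := by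
  rw [parity, trace_wcomp, sum_eq_single 0 (fun t _ ht => if_neg (ne_neg_self h2 ht).symm) (by simp)]
  simp

theorem trace_heis (hψ : ψ ≠ 1) (v : Fin n ⊕ Fin n → F) :
    LinearMap.trace ℂ _ (heis ψ v) = if v = 0 then (Fintype.card F : ℂ) ^ n else 0 := by
  split_ifs with h
  · rw [h, heis_zero, LinearMap.trace_one]
    simp
  rw [heis, trace_wcomp]
  by_cases hx : xs v = 0
  · have hy : ys v ≠ 0 := fun hy => h (funext fun i => by
      rcases i with i | i
      exacts [congrFun hx i, congrFun hy i])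
    simp only [hx, add_zero, if_true, zero_dotProduct, mul_zero]
    let φ : AddChar (Fin n → F) ℂ :=
      { toFun := fun t => ψ (ys v ⬝ᵥ t)
        map_zero_eq_one' := by simp
        map_add_eq_mul' := fun a b => by rw [dotProduct_add, AddChar.map_add_eq_mul] }
    refine AddChar.sum_eq_zero_of_ne_one (ψ := φ) ?_
    obtain ⟨i, hi⟩ := Function.ne_iff.1 hy
    obtain ⟨a, ha⟩ := AddChar.ne_one_iff.1 hψ
    refine AddChar.ne_one_iff.2 ⟨Pi.single i (a / ys v i), ?_⟩
    change ψ _ ≠ 1
    rwa [dotProduct_single, mul_div_cancel₀ _ hi]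
  · simp [hx]

theorem linearIndependent_heis (h2 : (2 : F) ≠ 0) (hψ : ψ ≠ 1) :
    LinearIndependent ℂ (heis ψ : (Fin n ⊕ Fin n → F) → _) := by
  rw [Fintype.linearIndependent_iff]
  intro c hc u
  have := congrArg (fun T => LinearMap.trace ℂ _ (heis ψ (-u) * T)) hc
  simp only [mul_sum, mul_smul_comm, heis_mul h2, map_sum, map_smul, trace_heis hψ, mul_zero,
    map_zero, smul_eq_mul, neg_add_eq_zero, mul_ite, sum_ite_eq, mem_univ, if_true] at this
  simpa [(ψ.val_isUnit _).ne_zero] using this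

/-- The Heisenberg operators form a basis of the endomorphism algebra. -/
noncomputable def heisBasis (h2 : (2 : F) ≠ 0) (hψ : ψ ≠ 1) :
    Basis (Fin n ⊕ Fin n → F) ℂ (End ℂ ((Fin n → F) → ℂ)) :=
  basisOfLinearIndependentOfCardEqFinrank (linearIndependent_heis h2 hψ)
    (by simp [finrank_linearMap, pow_add])

theorem heisBasis_apply (h2 : (2 : F) ≠ 0) (hψ : ψ ≠ 1) (v : Fin n ⊕ Fin n → F) :
    heisBasis h2 hψ v = heis ψ v := by
  simp [heisBasis]

theorem eq_smul_of_comm_heis (h2 : (2 : F) ≠ 0) (hψ : ψ ≠ 1) {S : End ℂ ((Fin n → F) → ℂ)}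
    (h : ∀ v, heis ψ v * S = S * heis ψ v) : ∃ c : ℂ, S = c • 1 := by
  have h1 : S ∈ Subalgebra.center ℂ (End ℂ ((Fin n → F) → ℂ)) := by
    rw [Subalgebra.mem_center_iff]
    intro T
    rw [← (heisBasis h2 hψ).sum_repr T]
    simp only [heisBasis_apply, sum_mul, mul_sum, smul_mul_assoc, mul_smul_comm, h]
  obtain ⟨c, hc⟩ := Algebra.mem_bot.1 (Algebra.IsCentral.out h1)
  exact ⟨c, by rw [← hc, Algebra.algebraMap_eq_smul_one]⟩

theorem exists_intertwiner (h2 : (2 : F) ≠ 0) (hψ : ψ ≠ 1) (g : symplecticGroup (Fin n) F) :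
    ∃ T : (End ℂ ((Fin n → F) → ℂ))ˣ, ∀ v, T.1 * heis ψ v = heis ψ (slin g v) * T.1 := by
  let e : (Fin n ⊕ Fin n → F) ≃ (Fin n ⊕ Fin n → F) :=
    ⟨slin g, slin g⁻¹, slin_inv_apply g, slin_apply_inv g⟩
  let L := (heisBasis (n := n) h2 hψ).equiv (heisBasis h2 hψ) e
  have hL : ∀ v, L (heis ψ v) = heis ψ (slin g v) := fun v => by
    rw [← heisBasis_apply h2 hψ, Basis.equiv_apply, heisBasis_apply]; rfl
  obtain ⟨T, hT⟩ := (AlgEquiv.ofLinearEquiv L (by rw [← heis_zero (ψ := ψ), hL, map_zero])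
    ((LinearMap.map_mul_iff L.toLinearMap).2 (LinearMap.ext_basis (heisBasis h2 hψ)
      (heisBasis h2 hψ) fun u v => by
        simp only [heisBasis_apply, LinearMap.compr₂_apply, LinearMap.mul_apply',
          LinearMap.compl₂_apply, LinearMap.comp_apply, LinearEquiv.coe_coe, heis_mul h2, map_smul,
          hL, slin_form, map_add]))).eq_linearEquivConjAlgEquiv
  refine ⟨LinearMap.GeneralLinearGroup.ofLinearEquiv T, fun v => LinearMap.ext fun f => ?_⟩
  have := DFunLike.congr_fun hT (heis ψ v)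
  rw [AlgEquiv.ofLinearEquiv_apply, hL] at this
  rw [this]
  simp [LinearEquiv.conjAlgEquiv_apply]

theorem comm_parity (h2 : (2 : F) ≠ 0) (hψ : ψ ≠ 1) {g : symplecticGroup (Fin n) F}
    {T : (End ℂ ((Fin n → F) → ℂ))ˣ} (hT : ∀ v, T.1 * heis ψ v = heis ψ (slin g v) * T.1) :
    T.1 * parity n F = parity n F * T.1 := by
  obtain ⟨c, hc⟩ := eq_smul_of_comm_heis h2 hψ (S := T⁻¹.1 * parity n F * T.1 * parity n F)
    fun v => by
      have h1 : ∀ v, heis ψ v * T⁻¹.1 = T⁻¹.1 * heis ψ (slin g v) := fun v => by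
        rw [Units.eq_inv_mul_iff_mul_eq, ← mul_assoc, hT, Units.mul_inv_cancel_right]
      rw [mul_assoc _ (parity n F) (heis ψ v), parity_mul_heis, ← mul_assoc, ← mul_assoc,
        ← mul_assoc, ← mul_assoc, h1, mul_assoc _ T.1 (heis ψ _), hT, ← mul_assoc,
        mul_assoc _ (parity n F) (heis ψ _), parity_mul_heis, ← map_neg, neg_neg, ← mul_assoc]
  have h3 : T⁻¹.1 * parity n F * T.1 = c • parity n F := by
    rw [← mul_one (_ * T.1), ← parity_mul_parity, ← mul_assoc, hc, smul_mul_assoc, one_mul]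
  have h4 := congrArg (LinearMap.trace ℂ _) h3
  rw [LinearMap.trace_mul_comm, ← mul_assoc, Units.mul_inv, one_mul, map_smul, trace_parity h2,
    smul_eq_mul, mul_one] at h4
  rw [← h4, one_smul, mul_assoc, Units.inv_mul_eq_iff_eq_mul] at h3
  exact h3.symm

/-- Even (`ε = 1`) and odd (`ε = -1`) functions. -/
abbrev parSp (n : ℕ) (F : Type*) [Field F] (ε : ℂ) : Submodule ℂ ((Fin n → F) → ℂ) :=
  (parity n F).eigenspace ε

omit [Fintype F] [DecidableEq F] in
theorem mapsTo_parSp {T : End ℂ ((Fin n → F) → ℂ)} (hT : T * parity n F = parity n F * T) (ε : ℂ) :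
    ∀ f ∈ parSp n F ε, T f ∈ parSp n F ε := fun f hf => End.mem_eigenspace_iff.2 (by
  rw [← End.mul_apply, ← hT, End.mul_apply, End.mem_eigenspace_iff.1 hf, map_smul])

omit [Fintype F] [DecidableEq F] in
theorem isProj_parSp {ε : ℂ} (hε : ε * ε = 1) :
    LinearMap.IsProj (parSp n F ε) ((2⁻¹ : ℂ) • (1 + ε • parity n F)) where
  map_mem f := End.mem_eigenspace_iff.2 (by
    funext t
    simp only [parity_apply, LinearMap.smul_apply, LinearMap.add_apply, End.one_apply,
      Pi.smul_apply, Pi.add_apply, smul_eq_mul, neg_neg]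
    linear_combination (-2⁻¹ * f (-t)) * hε)
  map_id f hf := by
    rw [LinearMap.smul_apply, LinearMap.add_apply, LinearMap.smul_apply, End.one_apply,
      End.mem_eigenspace_iff.1 hf, smul_smul, hε]
    module

theorem finrank_parSp (h2 : (2 : F) ≠ 0) {ε : ℂ} (hε : ε * ε = 1) :
    (finrank ℂ (parSp n F ε) : ℂ) = ((Fintype.card F : ℂ) ^ n + ε) / 2 := by
  rw [← (isProj_parSp hε).trace, map_smul, map_add, map_smul, trace_parity h2, LinearMap.trace_one]
  simp
  ring

omit [Fintype F] [DecidableEq F] in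
theorem isCompl_parSp : IsCompl (parSp n F 1) (parSp n F (-1)) := by
  refine ⟨End.disjoint_genEigenspace _ (by norm_num) 1 1, codisjoint_iff.2 (eq_top_iff.2 fun f _ => ?_)⟩
  have := Submodule.add_mem_sup ((isProj_parSp (n := n) (F := F) (ε := 1) (by simp)).map_mem f)
    ((isProj_parSp (n := n) (F := F) (ε := -1) (by simp)).map_mem f)
  convert this using 1
  simp only [LinearMap.smul_apply, LinearMap.add_apply, End.one_apply]
  module

theorem exists_weil (h2 : (2 : F) ≠ 0) (hψ : ψ ≠ 1) :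
    ∃ ω : Representation ℂ (symplecticGroup (Fin n) F) ((Fin n → F) → ℂ),
      (∀ g v, ω g * heis ψ v = heis ψ (slin g v) * ω g) ∧
        ∀ g, ω g * parity n F = parity n F * ω g := by
  choose T hT using exists_intertwiner (n := n) h2 hψ
  have hJ := fun g => comm_parity h2 hψ (hT g)
  let d : ℂ → symplecticGroup (Fin n) F → ℂ := fun ε g =>
    LinearMap.det ((T g).1.restrict (mapsTo_parSp (hJ g) ε))
  have hd : ∀ ε g, d ε g ≠ 0 := by
    intro ε g h
    obtain ⟨⟨f, hf⟩, h1, h3⟩ := (Submodule.ne_bot_iff _).1 (LinearMap.det_eq_zero_iff_ker_ne_bot.1 h)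
    have h4 : (T g).1 f = 0 := congrArg Subtype.val h1
    have := congrArg (T g)⁻¹.1 h4
    rw [← End.mul_apply, Units.inv_mul, map_zero] at this
    exact h3 (Subtype.ext this)
  have hdim : finrank ℂ (parSp n F 1) = finrank ℂ (parSp n F (-1)) + 1 := by
    apply Nat.cast_injective (R := ℂ)
    rw [Nat.cast_add, finrank_parSp h2 (by simp), finrank_parSp h2 (by simp)]
    ring
  have hmul : ∀ g h, (d (-1) (g * h) / d 1 (g * h)) • (T (g * h)).1 =
      ((d (-1) g / d 1 g) • (T g).1) * ((d (-1) h / d 1 h) • (T h).1) := by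
    intro g h
    obtain ⟨c, hc⟩ := eq_smul_of_comm_heis h2 hψ (S := (T (g * h))⁻¹.1 * ((T g).1 * (T h).1))
      fun v => by
        have h1 : heis ψ v * (T (g * h))⁻¹.1 = (T (g * h))⁻¹.1 * heis ψ (slin (g * h) v) := by
          rw [Units.eq_inv_mul_iff_mul_eq, ← mul_assoc, hT, Units.mul_inv_cancel_right]
        rw [← mul_assoc, h1, mul_assoc, mul_assoc, mul_assoc, hT, ← mul_assoc (T g).1, hT,
          slin_mul_apply, mul_assoc]
    rw [Units.inv_mul_eq_iff_eq_mul, mul_smul_comm, mul_one] at hc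
    have h3 : ∀ ε, d ε g * d ε h = c ^ finrank ℂ (parSp n F ε) * d ε (g * h) := by
      intro ε
      simp only [d]
      rw [← map_mul, ← LinearMap.det_smul]
      congr 1
      refine LinearMap.ext fun f => Subtype.ext ?_
      exact LinearMap.congr_fun hc f
    have hc0 : c ≠ 0 := by
      intro h0
      have := h3 1
      rw [hdim, h0, pow_succ, mul_zero, zero_mul] at this
      exact mul_ne_zero (hd _ _) (hd _ _) this
    rw [smul_mul_smul_comm, hc, smul_smul, div_mul_div_comm, h3, h3, hdim]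
    congr 1
    have := hd 1 (g * h)
    field_simp
    ring
  refine ⟨⟨⟨fun g => (d (-1) g / d 1 g) • (T g).1, ?_⟩, hmul⟩, fun g v => ?_, fun g => ?_⟩
  · have h1 := hmul 1 1
    rw [mul_one] at h1
    have h3 : IsUnit ((d (-1) 1 / d 1 1) • (T 1).1) := by
      rw [Algebra.smul_def]
      exact ((div_ne_zero (hd _ _) (hd _ _)).isUnit.map _).mul (T 1).isUnit
    exact h3.mul_left_cancel (h1.symm.trans (mul_one _).symm)
  · change ((d (-1) g / d 1 g) • (T g).1) * _ = _ * ((d (-1) g / d 1 g) • (T g).1)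
    rw [smul_mul_assoc, mul_smul_comm, hT]
  · change ((d (-1) g / d 1 g) • (T g).1) * _ = _ * ((d (-1) g / d 1 g) • (T g).1)
    rw [smul_mul_assoc, mul_smul_comm, hJ]

omit [Fintype F] [DecidableEq F] in
theorem exists_slin_eq_of_ne_zero {u v : Fin n ⊕ Fin n → F} (hu : u ≠ 0) (hv : v ≠ 0) :
    ∃ g : symplecticGroup (Fin n) F, slin g u = v := by
  obtain ⟨f, hf, hf'⟩ := witt_alt_family sympB_rep sympB_self (r := 1) (fun _ => u) (fun _ => v)
    (linearIndependent_unique_iff.2 hu) (linearIndependent_unique_iff.2 hv)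
    (fun _ _ => by rw [sympB_self, sympB_self])
  obtain ⟨g, rfl⟩ := exists_slin_eq hf
  exact ⟨g, hf' 0⟩

/-- The even and odd parts of a Weil representation. -/
def weilSub {ω : Representation ℂ (symplecticGroup (Fin n) F) ((Fin n → F) → ℂ)}
    (hJ : ∀ g, ω g * parity n F = parity n F * ω g) (ε : ℂ) : Subrepresentation ω :=
  ⟨parSp n F ε, fun g => mapsTo_parSp (hJ g) ε⟩

theorem weil_irreducible (hn : 1 ≤ n) (h2 : (2 : F) ≠ 0) (hψ : ψ ≠ 1)
    {ω : Representation ℂ (symplecticGroup (Fin n) F) ((Fin n → F) → ℂ)}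
    (hω : ∀ g v, ω g * heis ψ v = heis ψ (slin g v) * ω g)
    (hJ : ∀ g, ω g * parity n F = parity n F * ω g) :
    IsIrrCharacter _ (weilSub hJ 1).toRepresentation.character ∧
      IsIrrCharacter _ (weilSub hJ (-1)).toRepresentation.character := by
  have := Fintype.ofFinite (symplecticGroup (Fin n) F)
  have : Invertible (Nat.card (symplecticGroup (Fin n) F) : ℂ) := invertibleOfNonzero card_ne_zero
  have h1 : (ω.linHom ω).invariants ≤ Submodule.span ℂ {heis ψ 0, ∑ v, heis ψ v} := by
    intro S hS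
    have h3 : ∀ g v, (heisBasis h2 hψ).repr S (slin g v) = (heisBasis h2 hψ).repr S v := by
      intro g v
      have h4 : ω g * S * ω g⁻¹ = S := hS g
      conv_lhs => rw [← h4, ← (heisBasis h2 hψ).sum_repr S]
      simp only [heisBasis_apply, mul_sum, sum_mul, mul_smul_comm, smul_mul_assoc, hω, mul_assoc,
        ← map_mul, mul_inv_cancel, map_one, mul_one]
      simp only [← heisBasis_apply h2 hψ, map_sum, map_smul, Basis.repr_self, Finsupp.coe_finset_sum,
        Finset.sum_apply, Finsupp.smul_apply, Finsupp.single_apply,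
        (Function.LeftInverse.injective (slin_inv_apply g)).eq_iff, smul_eq_mul, mul_ite, mul_one,
        mul_zero, sum_ite_eq', mem_univ, if_true]
    let u : Fin n ⊕ Fin n → F := Pi.single (.inl ⟨0, hn⟩) 1
    have hu : u ≠ 0 := by simp [u]
    refine Submodule.mem_span_pair.2 ⟨(heisBasis h2 hψ).repr S 0 - (heisBasis h2 hψ).repr S u,
      (heisBasis h2 hψ).repr S u, ?_⟩
    conv_rhs => rw [← (heisBasis h2 hψ).sum_repr S]
    rw [← add_sum_erase _ _ (mem_univ 0), ← add_sum_erase _ _ (mem_univ 0), smul_add, smul_sum,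
      ← add_assoc, ← add_smul, sub_add_cancel, heisBasis_apply]
    congr 1
    refine sum_congr rfl fun v hv => ?_
    obtain ⟨g, rfl⟩ := exists_slin_eq_of_ne_zero hu (ne_of_mem_erase hv)
    rw [h3, heisBasis_apply]
  have h3 : finrank ℂ (ω.linHom ω).invariants ≤ 2 := by
    refine (Submodule.finrank_mono h1).trans ?_
    classical
    have := finrank_span_finset_le_card (R := ℂ) ({heis ψ 0, ∑ v, heis ψ v} :
      Finset (End ℂ ((Fin n → F) → ℂ)))
    rw [Set.finrank, coe_pair] at this
    exact this.trans card_le_two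
  have h4 : classInner ω.character ω.character = finrank ℂ (ω.linHom ω).invariants := by
    rw [← Representation.card_inv_mul_sum_char_eq_finrank, inner_eq_inv (isCharacter_character ω)]
    simp only [Representation.char_linHom, mul_comm]
  have hE := isCharacter_character (weilSub hJ 1).toRepresentation
  have hO := isCharacter_character (weilSub hJ (-1)).toRepresentation
  obtain ⟨a, ha⟩ := inner_char_nat hE hE
  obtain ⟨b, hb⟩ := inner_char_nat hO hO
  obtain ⟨c, hc⟩ := inner_char_nat hE hO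
  obtain ⟨c', hc'⟩ := inner_char_nat hO hE
  rw [character_eq_add_of_isCompl ω (weilSub hJ 1) (weilSub hJ (-1)) isCompl_parSp,
    CharLib.inner_add_left, CharLib.inner_add_right, CharLib.inner_add_right, ha, hb, hc, hc'] at h4
  have h5 : a + c + (c' + b) = finrank ℂ (ω.linHom ω).invariants := by exact_mod_cast h4
  have hq : 2 ≤ Fintype.card F ^ n :=
    Fintype.one_lt_card.trans_le (Nat.le_self_pow (by omega) _)
  have key : ∀ ε : ℂ, ε * ε = 1 → classInner (weilSub hJ ε).toRepresentation.character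
      (weilSub hJ ε).toRepresentation.character ≠ 0 := by
    intro ε hε h
    have h6 := congrFun (CharLib.inner_self_eq_zero h) 1
    rw [Representation.char_one, Pi.zero_apply] at h6
    have h7 := (finrank_parSp (n := n) h2 hε).symm.trans h6
    have h8 : ((Fintype.card F ^ n * Fintype.card F ^ n : ℕ) : ℂ) = (1 : ℕ) := by
      push_cast
      linear_combination hε + 2 * ((Fintype.card F : ℂ) ^ n - ε) * h7
    have := Nat.cast_injective h8
    nlinarith
  have ha0 : a ≠ 0 := fun h => key 1 (by simp) (by rw [ha, h, Nat.cast_zero])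
  have hb0 : b ≠ 0 := fun h => key (-1) (by simp) (by rw [hb, h, Nat.cast_zero])
  rw [isIrr_iff_norm_one hE, isIrr_iff_norm_one hO, ha, hb, show a = 1 by omega,
    show b = 1 by omega, Nat.cast_one]
  exact ⟨rfl, rfl⟩

omit [DecidableEq F] in
theorem exists_addChar_ne_one : ∃ ψ : AddChar F ℂ, ψ ≠ 1 := by
  obtain ⟨ψ, hψ⟩ := AddChar.exists_apply_ne_zero.2 (one_ne_zero (α := F))
  exact ⟨ψ, AddChar.ne_one_iff.2 ⟨1, hψ⟩⟩

end Cfsg.Agent.Forms
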